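import Mathlib

/-!
# Counting lemmas for the index of the derangement subgroup
-/

set_option autoImplicit false

namespace Cfsg.Lib.DerSub

open MulAction

section Orbits

variable {A X : Type*} [Group A] [MulAction A X]

theorem relIndex_eq_of_cover (A0 : Subgroup A) [A0.Normal] {N : Subgroup A} (hN : N ⊔ A0 = ⊤) :
    A0.relIndex N = A0.index := by
  rw [← Subgroup.relIndex_sup_right, hN, Subgroup.relIndex_top_right]

/-- A set on which everything in `N` outside `A0` is fixed point free has cardinality divisible by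
the index of `A0`. -/
theorem dvd_card_of_fpf [Finite X] (A0 : Subgroup A) [A0.Normal] {N : Subgroup A}
    (hN : N ⊔ A0 = ⊤) (Z : Set X) (hinv : ∀ a ∈ N, ∀ x ∈ Z, a • x ∈ Z)
    (hfree : ∀ a ∈ N, a ∉ A0 → ∀ x ∈ Z, a • x ≠ x) : A0.index ∣ Nat.card Z := by
  classical
  let Y : SubMulAction N X := { carrier := Z, smul_mem' := fun a x hx => hinv a a.2 x hx }
  have hY : Nat.card Y = Nat.card Z := rfl
  haveI : Fintype (orbitRel.Quotient N Y) := Fintype.ofFinite _
  rw [← hY, Nat.card_congr (selfEquivSigmaOrbits' N Y), Nat.card_sigma]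
  refine Finset.dvd_sum fun q _ => ?_
  obtain ⟨y, rfl⟩ := Quotient.exists_rep q
  have h1 : stabilizer N y ≤ A0.subgroupOf N := by
    intro a ha
    by_contra h
    exact hfree a a.2 h (y : X) y.2 (congrArg Subtype.val ha)
  have h2 := Subgroup.index_dvd_of_le h1
  have h3 : A0.relIndex N = A0.index := relIndex_eq_of_cover A0 hN
  rw [Subgroup.relIndex] at h3
  rw [h3, index_stabilizer, ← Nat.card_coe_set_eq] at h2
  have h4 : orbitRel.Quotient.orbit (Quotient.mk (orbitRel N Y) y) = orbit N y :=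
    orbitRel.Quotient.orbit_mk y
  rwa [h4]

/-- If `R ≤ A0` is normalised inside a covering subgroup `N` and `Z` is `N`-invariant, then `Z`
has at least `|A : A0|` orbits of `R` of the size of that of `x`. -/
theorem index_mul_card_le [Finite A] [Finite X] (A0 : Subgroup A) [A0.Normal] {N R : Subgroup A}
    (hN : N ⊔ A0 = ⊤) (hRN : R ≤ N) (hR0 : R ≤ A0) (Z : Set X)
    (hinv : ∀ a ∈ N, ∀ x ∈ Z, a • x ∈ Z) {x : X} (hx : x ∈ Z)
    (hfree : ∀ a ∈ N, a ∉ A0 → a • x ≠ x) :
    A0.index * Nat.card R ≤ Nat.card Z * Nat.card (R ⊓ stabilizer A x : Subgroup A) := by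
  classical
  set H := stabilizer A x with hH
  have hle : N ⊓ H ≤ A0 ⊓ N := by
    intro a ha
    refine ⟨?_, ha.1⟩
    by_contra h
    exact hfree a ha.1 h ha.2
  have h1 := Subgroup.relIndex_mul_relIndex _ _ _ hle inf_le_right
  rw [Subgroup.inf_relIndex_right, relIndex_eq_of_cover A0 hN] at h1
  have h2 : H.relIndex R ≤ (N ⊓ H).relIndex (A0 ⊓ N) := by
    have e : (N ⊓ H).relIndex (A0 ⊓ N) = H.relIndex (A0 ⊓ N) := by
      rw [← Subgroup.inf_relIndex_right, inf_comm N H, inf_assoc,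
        inf_eq_right.2 (inf_le_right : A0 ⊓ N ≤ N), Subgroup.inf_relIndex_right]
    rw [e]
    refine Subgroup.relIndex_le_of_le_right (le_inf hR0 hRN) ?_
    exact Subgroup.index_ne_zero_of_finite
  have h3 : (N ⊓ H).relIndex N ≤ Nat.card Z := by
    rw [inf_comm, Subgroup.inf_relIndex_right, Subgroup.relIndex,
      show H.subgroupOf N = stabilizer N x from Subgroup.ext fun a => Iff.rfl, index_stabilizer,
      ← Nat.card_coe_set_eq]
    refine Nat.card_mono (Set.toFinite Z) ?_
    rintro _ ⟨a, rfl⟩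
    exact hinv a a.2 x hx
  have h4 : H.relIndex R * Nat.card (R ⊓ H : Subgroup A) = Nat.card R := by
    have := (H.subgroupOf R).index_mul_card
    rwa [← Subgroup.relIndex, ← Subgroup.inf_subgroupOf_left,
      Nat.card_congr (Subgroup.subgroupOfEquivOfLe inf_le_left).toEquiv] at this
  calc A0.index * Nat.card R = A0.index * H.relIndex R * Nat.card (R ⊓ H : Subgroup A) := by
        rw [mul_assoc, h4]
    _ ≤ A0.index * (N ⊓ H).relIndex (A0 ⊓ N) * Nat.card (R ⊓ H : Subgroup A) :=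
        Nat.mul_le_mul_right _ (Nat.mul_le_mul_left _ h2)
    _ ≤ Nat.card Z * Nat.card (R ⊓ H : Subgroup A) := by
        refine Nat.mul_le_mul_right _ (le_trans (le_of_eq ?_) h3)
        rw [← h1, mul_comm]

end Orbits

section Norms

variable {E W : Type*} [Group E] [CommGroup W] [MulDistribMulAction E W]

/-- `w ↦ ∏ i < r, x ^ i • w`. -/
def nrm (r : ℕ) (x : E) : W →* W where
  toFun w := ∏ i ∈ Finset.range r, x ^ i • w
  map_one' := by simp
  map_mul' a b := by simp [Finset.prod_mul_distrib]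

theorem nrm_apply (r : ℕ) (x : E) (w : W) : nrm r x w = ∏ i ∈ Finset.range r, x ^ i • w := rfl

theorem smul_nrm {r : ℕ} {x : E} (hx : x ^ r = 1) (w : W) : x • nrm r x w = nrm r x w := by
  rcases r with _ | k
  · simp [nrm_apply]
  rw [nrm_apply, Finset.smul_prod', Finset.prod_range_succ, Finset.prod_range_succ' (fun i => x ^ i • w)]
  congr 1
  · exact Finset.prod_congr rfl fun i _ => by rw [← mul_smul, ← pow_succ']
  · rw [← mul_smul, ← pow_succ', hx, pow_zero]

theorem nrm_of_fixed {r : ℕ} {x : E} {w : W} (h : x • w = w) : nrm r x w = w ^ r := by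
  rw [nrm_apply, Finset.prod_congr rfl (fun i _ => show x ^ i • w = w from ?_), Finset.prod_const,
    Finset.card_range]
  clear * - h
  induction i with
  | zero => simp
  | succ i ih => rw [pow_succ, mul_smul, h, ih]

theorem smul_nrm_comm {r : ℕ} {x y : E} (h : Commute y x) (w : W) :
    y • nrm r x w = nrm r x (y • w) := by
  rw [nrm_apply, nrm_apply, Finset.smul_prod']
  exact Finset.prod_congr rfl fun i _ => by rw [← mul_smul, ← mul_smul, (h.pow_right i).eq]

theorem pow_smul_mem {V : Subgroup W} {x : E} (hx : ∀ v ∈ V, x • v ∈ V) (i : ℕ) :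
    ∀ v ∈ V, x ^ i • v ∈ V := by
  induction i with
  | zero => simp
  | succ i ih => exact fun v hv => by rw [pow_succ, mul_smul]; exact ih _ (hx v hv)

theorem nrm_mem {V : Subgroup W} {x : E} (hx : ∀ v ∈ V, x • v ∈ V) (r : ℕ) {w : W} (hw : w ∈ V) :
    nrm r x w ∈ V :=
  by rw [nrm_apply]; exact Subgroup.prod_mem (K := V) fun i _ => pow_smul_mem hx i w hw

/-- In a group of type `(r, r)` with a fixed point free `z`, the `r` lines other than `⟨z⟩`
recover every element up to an `r`-th power. -/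
theorem pow_eq_prod_nrm {r : ℕ} (hr : r.Prime) (V : Subgroup W) {g z : E} (hc : Commute g z)
    (hz : z ^ r = 1) (hgV : ∀ v ∈ V, g • v ∈ V) (hzV : ∀ v ∈ V, z • v ∈ V)
    (hfp : ∀ v ∈ V, z • v = v → v = 1) {w : W} (hw : w ∈ V) :
    w ^ r = ∏ i ∈ Finset.range r, nrm r (g * z ^ i) w := by
  simp only [nrm_apply]
  rw [Finset.prod_comm, Finset.prod_eq_single 0]
  · simp
  · intro j hj hj0
    have hjr : Nat.Coprime j r := (hr.coprime_iff_not_dvd.2 fun hd =>
      hj0 (Nat.eq_zero_of_dvd_of_lt hd (Finset.mem_range.1 hj))).symm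
    have e : ∀ i, (g * z ^ i) ^ j • w = (z ^ j) ^ i • (g ^ j • w) := by
      intro i
      rw [(hc.pow_right i).mul_pow, ← pow_mul, ← pow_mul, ← mul_smul, (hc.pow_pow j (i * j)).eq,
        mul_comm i j]
    rw [Finset.prod_congr rfl fun i _ => e i, ← nrm_apply]
    have hfix : z ^ j • nrm r (z ^ j) (g ^ j • w) = nrm r (z ^ j) (g ^ j • w) :=
      smul_nrm (by rw [← pow_mul, mul_comm, pow_mul, hz, one_pow]) _
    refine hfp _ (nrm_mem (pow_smul_mem hzV j) r (pow_smul_mem hgV j w hw)) ?_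
    obtain ⟨k, hk⟩ := Nat.exists_mul_mod_eq_one_of_coprime hjr hr.one_lt
    have hzk : (z ^ j) ^ k = z := by
      rw [← pow_mul, ← Nat.mod_add_div (j * k) r, hk.2, pow_add, pow_one, pow_mul, hz, one_pow, mul_one]
    have hall : ∀ k : ℕ, (z ^ j) ^ k • nrm r (z ^ j) (g ^ j • w) = nrm r (z ^ j) (g ^ j • w) := by
      intro k
      induction k with
      | zero => simp
      | succ k ih => rw [pow_succ, mul_smul, hfix, ih]
    have := hall k
    rwa [hzk] at this
  · exact fun h => absurd (Finset.mem_range.2 hr.pos) h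

end Norms

theorem eq_one_of_pow_eq_one {W : Type*} [Group W] [Finite W] {N : ℕ}
    (hN : N.Coprime (Nat.card W)) {w : W} (h : w ^ N = 1) : w = 1 := by
  refine orderOf_eq_one_iff.1 (Nat.dvd_one.1 ?_)
  rw [← hN.gcd_eq_one]
  exact Nat.dvd_gcd (orderOf_dvd_of_pow_eq_one h) (orderOf_dvd_natCard w)

/-- Subgroups separated by endomorphisms are independent. -/
theorem prod_card_le {W ι : Type*} [CommGroup W] [Finite W] [Fintype ι] (V : ι → Subgroup W)
    (P : ι → W →* W) {N : ℕ} (hN : N.Coprime (Nat.card W)) (hself : ∀ i, ∀ v ∈ V i, P i v = v ^ N)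
    (hne : ∀ i j, i ≠ j → ∀ v ∈ V j, P i v = 1) :
    ∏ i, Nat.card (V i) ≤ Nat.card W := by
  classical
  rw [← Nat.card_pi]
  refine Nat.card_le_card_of_injective (fun v : ∀ i, V i => ∏ i, (v i : W)) fun a b hab => ?_
  funext i
  have h := congrArg (P i) hab
  simp only [map_prod] at h
  rw [Finset.prod_eq_single i (fun j _ hj => hne i j hj.symm _ (a j).2) (by simp),
    Finset.prod_eq_single i (fun j _ hj => hne i j hj.symm _ (b j).2) (by simp),
    hself i _ (a i).2, hself i _ (b i).2] at h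
  refine Subtype.ext (mul_inv_eq_one.1 (eq_one_of_pow_eq_one hN ?_))
  rw [mul_pow, inv_pow, h, mul_inv_cancel]

theorem sq_le_pow_of_dvd {q a v m : ℕ} (hq : 2 ≤ q) (ha : 0 < a) (hav : a < v)
    (h1 : m ∣ q ^ a - 1) (h2 : m ∣ q ^ v - 1) : (m + 1) ^ 2 ≤ q ^ v := by
  have hg : m ∣ q ^ Nat.gcd a v - 1 := by
    rw [← Nat.pow_sub_one_gcd_pow_sub_one]
    exact Nat.dvd_gcd h1 h2
  set g := Nat.gcd a v
  have hg0 : 0 < g := Nat.gcd_pos_of_pos_left _ ha
  have hga : g ≤ a := Nat.gcd_le_left _ ha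
  obtain ⟨k, hk⟩ : g ∣ v := Nat.gcd_dvd_right a v
  have hk2 : 2 ≤ k := by
    rcases k with _ | _ | k
    · simp at hk; omega
    · simp at hk; omega
    · omega
  have h3 : m + 1 ≤ q ^ g := by
    have : 1 < q ^ g := Nat.one_lt_pow hg0.ne' hq
    have := Nat.le_of_dvd (by omega) hg
    omega
  calc (m + 1) ^ 2 ≤ (q ^ g) ^ 2 := Nat.pow_le_pow_left h3 2
    _ = q ^ (g * 2) := (pow_mul _ _ _).symm
    _ ≤ q ^ v := Nat.pow_le_pow_right (by omega) (by
        have := Nat.mul_le_mul_left g hk2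
        omega)

theorem sq_le_four_mul_pow {l : ℕ} (y : ℕ) (hl : 2 ≤ l) :
    (l * y + 2) ^ 2 ≤ 4 * (1 + y) ^ l := by
  have key : ∀ l : ℕ, 2 + 2 * l * y + l * (l - 1) * y ^ 2 ≤ 2 * (1 + y) ^ l := by
    intro l
    induction l with
    | zero => simp
    | succ l ih =>
      rw [pow_succ (1 + y)]
      rcases l with _ | l
      · simp; ring_nf; omega
      · simp only [Nat.add_sub_cancel] at ih ⊢
        have := Nat.mul_le_mul_right (1 + y) ih
        nlinarith [this, Nat.zero_le (l * y ^ 3), Nat.zero_le (l * l * y ^ 3), Nat.zero_le (y ^ 2)]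
  obtain ⟨l, rfl⟩ := Nat.exists_eq_add_of_le hl
  have h := key (2 + l)
  rw [show 2 + l - 1 = 1 + l by omega] at h
  nlinarith [h, Nat.zero_le (l * l * y ^ 2), Nat.zero_le (l * y ^ 2)]

end Cfsg.Lib.DerSub
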