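import Cfsg.Agent.Lib.Char.UniformCent
import Cfsg.Agent.Lib.Perm.PermCharacter
import Cfsg.Agent.Lib.Perm.DerangementCount
import Mathlib.Tactic.NormNum.Prime
import Mathlib.Algebra.Order.Chebyshev

/-!
# Regular self-centralizing Sylow subgroups with small normalizer index

A transitive group that is not doubly transitive and has a regular Sylow subgroup `P`, which is
the centralizer of each of its nonidentity elements, has `P` normal as soon as
`|N(P) : P| ^ 2 ≤ 2 (n - 1)` and `P` lies in no proper normal subgroup.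
-/

set_option autoImplicit false
set_option linter.unusedSectionVars false
set_option linter.style.haveILetI false
set_option maxHeartbeats 1000000

namespace Cfsg.Lib.DerSub

open Cfsg Cfsg.Lib.Char
open scoped ComplexConjugate

universe u v

variable {M : Type u} [Group M] [Fintype M] {Ω : Type v} [Fintype Ω] [MulAction M Ω]
  [FaithfulSMul M Ω] {p : ℕ} [Fact p.Prime]

local notation "CC" P => Subgroup.centralizer ((P : Subgroup M) : Set M)

theorem regular_smul_surjective (P : Sylow p M)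
    (hPn : Nat.card (P : Subgroup M) = Fintype.card Ω)
    (hreg : ∀ x ∈ (P : Subgroup M), x ≠ 1 → ∀ ω : Ω, x • ω ≠ ω) (ω : Ω) :
    Function.Bijective fun x : (P : Subgroup M) => (x : M) • ω := by
  haveI := Fintype.ofFinite (P : Subgroup M)
  refine (Fintype.bijective_iff_injective_and_card _).2 ⟨fun x y h => ?_, ?_⟩
  · by_contra hne
    refine hreg ((y : M)⁻¹ * x) (mul_mem (inv_mem y.2) x.2)
      (fun e => hne (Subtype.ext (inv_mul_eq_one.1 e).symm)) ω ?_
    rw [mul_smul]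
    exact inv_smul_eq_iff.2 h
  · rw [← Nat.card_eq_fintype_card]; exact hPn

/-- The normalizer condition for `e = 1`. -/
theorem normal_of_normalizer_le (P : Sylow p M)
    (hPn : Nat.card (P : Subgroup M) = Fintype.card Ω)
    (hreg : ∀ x ∈ (P : Subgroup M), x ≠ 1 → ∀ ω : Ω, x • ω ≠ ω)
    (hN : Subgroup.normalizer ((P : Subgroup M) : Set M) ≤
      Subgroup.centralizer ((P : Subgroup M) : Set M)) :
    (P : Subgroup M).Normal := by
  rcases isEmpty_or_nonempty Ω with hΩ | ⟨⟨ω⟩⟩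
  · haveI : Subsingleton M := ⟨fun a b => eq_of_smul_eq_smul (α := Ω) fun x => isEmptyElim x⟩
    exact ⟨fun x _ g => by rw [Subsingleton.elim (g * x * g⁻¹) 1]; exact one_mem _⟩
  have hK := MonoidHom.ker_transferSylow_isComplement' P hN
  set K := (MonoidHom.transferSylow P hN).ker
  haveI : K.Normal := inferInstance
  haveI := Fintype.ofFinite (P : Subgroup M)
  have hbij := regular_smul_surjective P hPn hreg ω
  have hcard : Nat.card (MulAction.stabilizer M ω) = Nat.card K := by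
    have h1 : (MulAction.stabilizer M ω).index = Fintype.card Ω := by
      rw [MulAction.index_stabilizer, ← Nat.card_eq_fintype_card, ← Set.ncard_univ]
      congr 1
      refine Set.eq_univ_of_forall fun η => ?_
      obtain ⟨x, hx⟩ := hbij.2 η
      exact ⟨x, hx⟩
    have h2 := (MulAction.stabilizer M ω).card_mul_index
    have h3 := hK.card_mul_card
    rw [h1] at h2
    rw [hPn] at h3
    exact Nat.eq_of_mul_eq_mul_right (Fintype.card_pos_iff.2 ⟨ω⟩) (h2.trans h3.symm)
  have hle : MulAction.stabilizer M ω ≤ K := by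
    intro x hx
    show MonoidHom.transferSylow P hN x = 1
    have h1 : orderOf (MonoidHom.transferSylow P hN x) ∣ Nat.card K := by
      refine (orderOf_map_dvd _ x).trans ?_
      rw [← hcard]
      exact Subgroup.orderOf_dvd_natCard _ hx
    have h2 : orderOf (MonoidHom.transferSylow P hN x) ∣ Nat.card (P : Subgroup M) :=
      orderOf_dvd_natCard _
    have hcop : (Nat.card K).Coprime (Nat.card (P : Subgroup M)) := by
      obtain ⟨k, hk⟩ := IsPGroup.iff_card.1 P.2
      rw [hk]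
      refine Nat.Coprime.pow_right _ ?_
      rw [Nat.coprime_comm, (Fact.out : p.Prime).coprime_iff_not_dvd,
        ← hK.index_eq_card]
      exact P.not_dvd_index
    exact orderOf_eq_one_iff.1 (Nat.dvd_one.1 (hcop ▸ Nat.dvd_gcd h1 h2))
  have heq := Subgroup.eq_of_le_of_card_ge hle hcard.ge
  have hbot : K = ⊥ := by
    refine (Subgroup.eq_bot_iff_forall _).2 fun x hx => eq_of_smul_eq_smul (α := Ω) fun η => ?_
    obtain ⟨y, rfl⟩ := hbij.2 η
    have h1 : (y : M)⁻¹ * x * (y : M) ∈ MulAction.stabilizer M ω := by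
      rw [heq]
      have := ‹K.Normal›.conj_mem x hx (y : M)⁻¹
      rwa [inv_inv] at this
    rw [MulAction.mem_stabilizer_iff, mul_smul, mul_smul, inv_smul_eq_iff] at h1
    rw [one_smul]
    exact h1
  rw [hbot, Subgroup.isComplement'_bot_left] at hK
  rw [hK]
  infer_instance

/-- The endgame on seven points. -/
theorem normal_seven (P : Sylow p M) (hn : Fintype.card Ω = 7)
    (hPn : Nat.card (P : Subgroup M) = Fintype.card Ω)
    (hreg : ∀ x ∈ (P : Subgroup M), x ≠ 1 → ∀ ω : Ω, x • ω ≠ ω)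
    (hC : ∀ y ∈ (P : Subgroup M), y ≠ 1 → Subgroup.centralizer ({y} : Set M) = P)
    (hN : Nat.card (Subgroup.normalizer ((P : Subgroup M) : Set M)) = 21)
    (hnot2 : ¬ ∀ a b c d : Ω, a ≠ b → c ≠ d → ∃ g : M, g • a = c ∧ g • b = d) :
    (P : Subgroup M).Normal := by
  classical
  have hp7 : p = 7 := by
    obtain ⟨k, hk⟩ := IsPGroup.iff_card.1 P.2
    rw [hPn, hn] at hk
    rcases k with _ | k
    · simp at hk
    · exact (Nat.prime_dvd_prime_iff_eq Fact.out (by norm_num)).1 (hk ▸ dvd_pow_self p (Nat.succ_ne_zero k))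
  obtain ⟨ω⟩ := (Fintype.card_pos_iff.1 (by omega) : Nonempty Ω)
  set NP := Subgroup.normalizer ((P : Subgroup M) : Set M) with hNP
  set T := NP ⊓ MulAction.stabilizer M ω with hT
  have hbij := regular_smul_surjective P hPn hreg ω
  haveI : MulAction.IsPretransitive M Ω := ⟨fun a b => by
    obtain ⟨x, hx⟩ := (regular_smul_surjective P hPn hreg a).2 b
    exact ⟨x, hx⟩⟩
  have hTcard : Nat.card T = 3 := by
    have h1 : (MulAction.stabilizer M ω).relIndex NP = 7 := by
      rw [Subgroup.relIndex, show (MulAction.stabilizer M ω).subgroupOf NP =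
        MulAction.stabilizer NP ω from Subgroup.ext fun _ => Iff.rfl, MulAction.index_stabilizer,
        ← hn, ← Nat.card_eq_fintype_card, ← Set.ncard_univ]
      congr 1
      refine Set.eq_univ_of_forall fun η => ?_
      obtain ⟨x, hx⟩ := hbij.2 η
      exact ⟨⟨x, Subgroup.le_normalizer x.2⟩, hx⟩
    have h2 := ((MulAction.stabilizer M ω).subgroupOf NP).card_mul_index
    rw [← Subgroup.relIndex, h1, hN, ← Subgroup.inf_subgroupOf_left,
      Nat.card_congr (Subgroup.subgroupOfEquivOfLe inf_le_left).toEquiv, ← hT] at h2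
    omega
  have hTfree : ∀ t ∈ T, t ≠ 1 → ∀ η : Ω, η ≠ ω → t • η ≠ η := by
    intro t ht ht1 η hη htη
    obtain ⟨x, rfl⟩ := hbij.2 η
    have hx1 : (x : M) ≠ 1 := fun e => hη (by show (x : M) • ω = ω; rw [e, one_smul])
    have hxt : t * x * t⁻¹ ∈ (P : Subgroup M) := (Subgroup.mem_normalizer_iff.1 ht.1 x).1 x.2
    have h1 : (t * x * t⁻¹) • ω = (x : M) • ω := by
      rw [mul_smul, mul_smul, inv_smul_eq_iff.2 (ht.2 : t • ω = ω).symm]
      exact htη
    have h2 := congrArg Subtype.val (@hbij.1 ⟨_, hxt⟩ x h1)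
    have h3 : t ∈ Subgroup.centralizer ({(x : M)} : Set M) :=
      Subgroup.mem_centralizer_singleton_iff.2 (mul_inv_eq_iff_eq_mul.1 h2)
    rw [hC x x.2 hx1] at h3
    exact hreg t h3 ht1 ω ht.2
  set H := MulAction.stabilizer M ω with hH
  haveI := Fintype.ofFinite H
  have horb : ∀ η : Ω, η ≠ ω → 3 ∣ Nat.card (MulAction.orbit H η) := by
    intro η hη
    let act : SubMulAction T Ω :=
      { carrier := MulAction.orbit H η
        smul_mem' := fun t x hx => by
          obtain ⟨k, rfl⟩ := hx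
          exact ⟨⟨t, t.2.2⟩ * k, mul_smul _ _ _⟩ }
    haveI : Fact (Nat.Prime 3) := ⟨by norm_num⟩
    have hT3 : IsPGroup 3 T := IsPGroup.of_card (n := 1) (by rw [hTcard, pow_one])
    have h := hT3.card_modEq_card_fixedPoints act
    have h0 : Nat.card (MulAction.fixedPoints T act) = 0 := by
      refine Nat.card_eq_zero.2 (Or.inl ⟨fun x => ?_⟩)
      obtain ⟨t, ht⟩ : ∃ t : T, t ≠ 1 := by
        haveI : Nontrivial T := Finite.one_lt_card_iff_nontrivial.1 (by omega)
        exact exists_ne 1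
      have hx : ((x : act) : Ω) ≠ ω := by
        obtain ⟨k, hk⟩ := (x : act).2
        intro e
        rw [e] at hk
        exact hη (((smul_eq_iff_eq_inv_smul _).1 hk).trans (k⁻¹).2)
      exact hTfree t t.2 (fun e => ht (Subtype.ext e)) _ hx (congrArg Subtype.val (x.2 t))
    rw [h0] at h
    exact Nat.modEq_zero_iff_dvd.1 h
  obtain ⟨η, ζ, hη, hζ, hηζ⟩ : ∃ η ζ : Ω, η ≠ ω ∧ ζ ≠ ω ∧ ζ ∉ MulAction.orbit H η := by
    by_contra! hall
    refine hnot2 fun a b c d hab hcd => ?_
    obtain ⟨g1, hg1⟩ := MulAction.exists_smul_eq M a ω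
    obtain ⟨g2, hg2⟩ := MulAction.exists_smul_eq M c ω
    have hb' : g1 • b ≠ ω := fun e => hab (MulAction.injective g1 (hg1.trans e.symm))
    have hd' : g2 • d ≠ ω := fun e => hcd (MulAction.injective g2 (hg2.trans e.symm))
    obtain ⟨k, hk⟩ := hall (g1 • b) (g2 • d) hb' hd'
    refine ⟨g2⁻¹ * (k : M) * g1, ?_, ?_⟩
    · rw [mul_smul, mul_smul, hg1, show (k : M) • ω = ω from k.2, inv_smul_eq_iff.2 hg2.symm]
    · rw [mul_smul, mul_smul, show (k : M) • g1 • b = g2 • d from hk, inv_smul_smul]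
  have hpos : ∀ x : Ω, 1 ≤ Nat.card (MulAction.orbit H x) := fun x =>
    Nat.one_le_iff_ne_zero.2 (Nat.card_ne_zero.2 ⟨⟨⟨x, MulAction.mem_orbit_self x⟩⟩, inferInstance⟩)
  have hdis : Disjoint (MulAction.orbit H η).toFinset (MulAction.orbit H ζ).toFinset := by
    rw [Set.disjoint_toFinset]
    rw [Set.disjoint_left]
    intro x hx hx'
    exact hηζ ((MulAction.orbit_eq_iff.2 hx) ▸ (MulAction.orbit_eq_iff.2 hx').symm ▸
      MulAction.mem_orbit_self ζ)
  have hsub : (MulAction.orbit H η).toFinset ∪ (MulAction.orbit H ζ).toFinset ⊆ Finset.univ.erase ω := by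
    intro x hx
    refine Finset.mem_erase.2 ⟨?_, Finset.mem_univ _⟩
    rintro rfl
    rcases Finset.mem_union.1 hx with h | h <;>
      obtain ⟨k, hk⟩ := Set.mem_toFinset.1 h
    · exact hη (((smul_eq_iff_eq_inv_smul _).1 hk).trans (k⁻¹).2)
    · exact hζ (((smul_eq_iff_eq_inv_smul _).1 hk).trans (k⁻¹).2)
  have hle := Finset.card_le_card hsub
  rw [Finset.card_union_of_disjoint hdis, Finset.card_erase_of_mem (Finset.mem_univ _),
    Finset.card_univ, hn, Set.toFinset_card, Set.toFinset_card, ← Nat.card_eq_fintype_card,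
    ← Nat.card_eq_fintype_card] at hle
  have h3η : Nat.card (MulAction.orbit H η) = 3 := by
    have := horb η hη; have := horb ζ hζ; have := hpos η; have := hpos ζ; omega
  have h3ζ : Nat.card (MulAction.orbit H ζ) = 3 := by
    have := horb η hη; have := horb ζ hζ; have := hpos η; have := hpos ζ; omega
  have hcover : Finset.univ.erase ω ⊆ (MulAction.orbit H η).toFinset ∪ (MulAction.orbit H ζ).toFinset := by
    refine (Finset.eq_of_subset_of_card_le hsub ?_).ge
    rw [Finset.card_union_of_disjoint hdis, Finset.card_erase_of_mem (Finset.mem_univ _),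
      Finset.card_univ, hn, Set.toFinset_card, Set.toFinset_card, ← Nat.card_eq_fintype_card,
      ← Nat.card_eq_fintype_card, h3η, h3ζ]
  have h36 : Nat.card H ∣ 36 := by
    let f : H →* Equiv.Perm (MulAction.orbit H η) × Equiv.Perm (MulAction.orbit H ζ) :=
      (MulAction.toPermHom H _).prod (MulAction.toPermHom H _)
    have hf : Function.Injective f := by
      refine (injective_iff_map_eq_one f).2 fun k hk => Subtype.ext ?_
      refine eq_of_smul_eq_smul (α := Ω) fun x => ?_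
      show (k : M) • x = (1 : M) • x
      rw [one_smul]
      by_cases hx : x = ω
      · rw [hx]; exact k.2
      rcases Finset.mem_union.1 (hcover (Finset.mem_erase.2 ⟨hx, Finset.mem_univ _⟩)) with h | h
      · exact congrArg Subtype.val
          (congrArg (fun σ => σ.1 ⟨x, Set.mem_toFinset.1 h⟩) hk)
      · exact congrArg Subtype.val
          (congrArg (fun σ => σ.2 ⟨x, Set.mem_toFinset.1 h⟩) hk)
    have := Subgroup.card_dvd_of_injective f hf
    rwa [Nat.card_prod, Nat.card_perm, Nat.card_perm, h3η, h3ζ] at this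
  have hM : Nat.card H * 7 = Nat.card M := by
    rw [← H.card_mul_index, hH, MulAction.index_stabilizer, MulAction.orbit_eq_univ, Set.ncard_univ,
      Nat.card_eq_fintype_card (α := Ω), hn]
  subst hp7
  have hmod := card_sylow_modEq_one 7 M
  rw [P.card_eq_index_normalizer] at hmod
  have hidx : NP.index * 21 = Nat.card M := by rw [← hN, mul_comm]; exact NP.card_mul_index
  have hI : NP.index ∣ 12 := by
    obtain ⟨c, hc⟩ := h36
    exact ⟨c, by nlinarith⟩
  have hI12 : NP.index ≤ 12 := Nat.le_of_dvd (by norm_num) hI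
  have h1 : NP.index = 1 := by
    change NP.index ≡ 1 [MOD 7] at hmod
    unfold Nat.ModEq at hmod
    generalize NP.index = i at hI hI12 hmod
    interval_cases i <;> first | rfl | omega
  exact Subgroup.normalizer_eq_top_iff.1 (Subgroup.index_eq_one.1 h1)

/-- `P` is normal. -/
theorem sylow_normal_of_small (P : Sylow p M) (htr : MulAction.IsPretransitive M Ω)
    (hPn : Nat.card (P : Subgroup M) = Fintype.card Ω)
    (hreg : ∀ x ∈ (P : Subgroup M), x ≠ 1 → ∀ ω : Ω, x • ω ≠ ω)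
    (hC : ∀ y ∈ (P : Subgroup M), y ≠ 1 → Subgroup.centralizer ({y} : Set M) = P)
    (hnp : ∀ K : Subgroup M, K.Normal → (P : Subgroup M) ≤ K → K = ⊤)
    (hnot2 : ¬ ∀ a b c d : Ω, a ≠ b → c ≠ d → ∃ g : M, g • a = c ∧ g • b = d)
    (hsmall : ucE p P ^ 2 ≤ 2 * (Fintype.card Ω - 1)) : (P : Subgroup M).Normal := by
  classical
  obtain ⟨ωa, ωb, hab⟩ : ∃ a b : Ω, a ≠ b := by
    by_contra! h
    exact hnot2 fun a b _ _ hab _ => absurd (h a b) hab
  haveI : Nonempty Ω := ⟨ωa⟩
  haveI := htr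
  have hn2 : 2 ≤ Fintype.card Ω := Fintype.one_lt_card_iff.2 ⟨ωa, ωb, hab⟩
  obtain ⟨y0, hy0, hy01⟩ : ∃ y ∈ (P : Subgroup M), y ≠ 1 := by
    refine (P : Subgroup M).bot_or_exists_ne_one.resolve_left fun h => ?_
    rw [h, Subgroup.card_bot] at hPn
    omega
  have hcomm : ∀ a ∈ (P : Subgroup M), ∀ b ∈ (P : Subgroup M), a * b = b * a := by
    intro a ha b hb
    by_cases ha1 : a = 1
    · simp [ha1]
    · have : b ∈ Subgroup.centralizer ({a} : Set M) := by rw [hC a ha ha1]; exact hb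
      exact (Subgroup.mem_centralizer_singleton_iff.1 this).symm
  have hCP : (Subgroup.centralizer ((P : Subgroup M) : Set M)) = (P : Subgroup M) := by
    refine le_antisymm (fun x hx => ?_) fun x hx => Subgroup.mem_centralizer_iff.2 fun b hb => hcomm b hb x hx
    rw [← hC y0 hy0 hy01, Subgroup.mem_centralizer_singleton_iff]
    exact (Subgroup.mem_centralizer_iff.1 hx y0 hy0).symm
  have h : IsUniformCent p P := fun y hy hy1 => (hC y hy hy1).trans hCP.symm
  set C := Subgroup.centralizer ((P : Subgroup M) : Set M) with hCdef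
  have hCn : Nat.card C = Fintype.card Ω := by rw [hCP, hPn]
  have hCcomm : ∀ a b : C, a * b = b * a := fun a b =>
    Subtype.ext (hcomm a (hCP.le a.2) b (hCP.le b.2))
  set n := Fintype.card Ω with hndef
  have hdeg1 : ∀ σ : IrrCharacter C, (σ : C → ℂ) 1 = 1 := fun σ => degree_eq_one_of_comm hCcomm σ.2
  set σ0 : IrrCharacter C := ⟨fun _ => 1, isIrrCharacter_one⟩ with hσ0
  have hnt : ∀ σ : IrrCharacter C, σ ≠ σ0 → ucNontriv (P := P) (σ : C → ℂ) := by
    intro σ hσ
    by_contra hn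
    unfold ucNontriv at hn
    push Not at hn
    refine hσ (Subtype.ext (funext fun c => ?_))
    rw [hn c (hCP.le c.2), hdeg1]
  have hnt0 : ∀ σ : IrrCharacter C, ucNontriv (P := P) (σ : C → ℂ) → σ ≠ σ0 := by
    rintro σ ⟨y, -, hy⟩ rfl
    exact hy rfl
  have hirr : Fintype.card (IrrCharacter C) = n := by
    rw [← Nat.card_eq_fintype_card, card_irr_eq_card_conjClasses, ← hCn]
    refine (Nat.card_congr (Equiv.ofBijective ConjClasses.mk ⟨fun a b hab => ?_, ConjClasses.mk_surjective⟩)).symm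
    obtain ⟨c, hc⟩ := isConj_iff.1 (ConjClasses.mk_eq_mk_iff_isConj.1 hab)
    rw [← hc, hCcomm c a, mul_inv_cancel_right]
  -- multiplicities
  have hμ : ∀ (ψ : IrrCharacter M) (σ : IrrCharacter C), ∃ m : ℕ,
      classInner (fun c : C => (ψ : M → ℂ) c) (σ : C → ℂ) = m := fun ψ σ =>
    (ψ.2.isCharacter.comp C.subtype).exists_nat_classInner σ.2.isCharacter
  choose μ hμ using hμ
  set d : IrrCharacter M → ℕ := fun ψ => charDegree (ψ : M → ℂ) with hd
  have hd1 : ∀ ψ : IrrCharacter M, (ψ : M → ℂ) 1 = d ψ := fun ψ => ψ.2.apply_one_eq_charDegree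
  have hdsum : ∀ ψ, d ψ = ∑ σ, μ ψ σ := by
    intro ψ
    have h1 := congrFun (eq_sum_classInner
      ((ψ.2.isCharacter.comp C.subtype).isClassFunction)) 1
    simp only [Subgroup.coe_subtype, Finset.sum_apply, Pi.smul_apply, smul_eq_mul, hdeg1, mul_one,
      Subgroup.coe_one, hd1, hμ] at h1
    exact_mod_cast h1
  set one : IrrCharacter M := ⟨fun _ => 1, isIrrCharacter_one⟩ with hone
  have hμone : ∀ σ, μ one σ = if σ = σ0 then 1 else 0 := by
    intro σ
    have h1 : (μ one σ : ℂ) = classInner (σ0 : C → ℂ) (σ : C → ℂ) := (hμ one σ).symm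
    split_ifs with hs
    · rw [hs, classInner_irr_self σ0.2, ← Nat.cast_one, Nat.cast_inj] at h1
      rw [hs]; exact h1
    · rw [classInner_irr_ne σ0.2 σ.2 (fun e => hs (Subtype.ext e.symm)), ← Nat.cast_zero,
        Nat.cast_inj] at h1
      exact h1
  have hd_one : d one = 1 := by
    rw [hdsum, Finset.sum_eq_single σ0 (fun σ _ hσ => by rw [hμone, if_neg hσ]) (by simp), hμone,
      if_pos rfl]
  -- the permutation character
  set π : M → ℂ := fun g => (Nat.card (MulAction.fixedBy Ω g) : ℂ) with hπdef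
  have hπ : IsCharacter M π := by
    have := isCharacter_character (permRep ℂ M Ω)
    rwa [Cfsg.Agent.PermCharacter.character_permRep Ω] at this
  choose c hc using fun ψ : IrrCharacter M => hπ.exists_nat_classInner ψ.2.isCharacter
  have hπ1 : π 1 = (n : ℂ) := by
    show (Nat.card (MulAction.fixedBy Ω (1 : M)) : ℂ) = n
    rw [MulAction.fixedBy_one_eq_univ, Nat.card_coe_set_eq, Set.ncard_univ, Nat.card_eq_fintype_card]
  have hπC : ∀ x : C, x ≠ 1 → π x = 0 := by
    intro x hx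
    show (Nat.card (MulAction.fixedBy Ω (x : M)) : ℂ) = 0
    rw [Nat.cast_eq_zero]
    exact Nat.card_eq_zero.2 (Or.inl ⟨fun w =>
      hreg x (hCP.le x.2) (fun e => hx (Subtype.ext e)) w w.2⟩)
  have hπexp : ∀ g, π g = ∑ ψ : IrrCharacter M, (c ψ : ℂ) * (ψ : M → ℂ) g := by
    intro g
    have := congrFun (eq_sum_classInner hπ.isClassFunction) g
    simpa only [Finset.sum_apply, Pi.smul_apply, smul_eq_mul, hc] using this
  have hcone : c one = 1 := by
    have h1 := Cfsg.Agent.PermCharacter.classInner_one (G := M) Ω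
    rw [Cfsg.Agent.PermCharacter.character_permRep Ω, hc one, ← Nat.cast_one, Nat.cast_inj] at h1
    exact h1
  have hreg1 : ∀ σ : IrrCharacter C, ∑ ψ, c ψ * μ ψ σ = 1 := by
    intro σ
    have h1 : classInner (fun x : C => π x) (σ : C → ℂ) = 1 := by
      simp only [classInner]
      rw [Finset.sum_eq_single 1 (fun x _ hx => by rw [hπC x hx, zero_mul]) (by simp), hdeg1,
        map_one, mul_one, Subgroup.coe_one, hπ1, hCn, inv_mul_cancel₀ (Nat.cast_ne_zero.2 (by omega))]
    have h2 : (fun x : C => π x) = ∑ ψ : IrrCharacter M, (c ψ : ℂ) • fun x : C => (ψ : M → ℂ) x := by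
      funext x
      rw [hπexp, Finset.sum_apply]
      rfl
    rw [h2, classInner_sum_left] at h1
    simp only [classInner_smul_left, hμ] at h1
    exact_mod_cast h1
  have huniq : ∀ (σ : IrrCharacter C) (ψ ψ' : IrrCharacter M), c ψ * μ ψ σ ≠ 0 →
      c ψ' * μ ψ' σ ≠ 0 → ψ = ψ' := by
    intro σ ψ ψ' h1 h2
    by_contra hne
    have := Finset.add_le_sum (f := fun q => c q * μ q σ) (s := Finset.univ)
      (fun i _ => Nat.zero_le _) (Finset.mem_univ ψ) (Finset.mem_univ ψ') hne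
    rw [hreg1] at this
    omega
  have hexφ : ∀ σ : IrrCharacter C, ∃ ψ, c ψ = 1 ∧ μ ψ σ = 1 := by
    intro σ
    obtain ⟨ψ, -, hψ⟩ := Finset.exists_ne_zero_of_sum_ne_zero (ne_of_eq_of_ne (hreg1 σ) one_ne_zero)
    have := Finset.single_le_sum (f := fun q => c q * μ q σ) (fun i _ => Nat.zero_le _)
      (Finset.mem_univ ψ)
    rw [hreg1] at this
    replace this : c ψ * μ ψ σ ≤ 1 := this
    exact ⟨ψ, Nat.eq_one_of_mul_eq_one_right (show c ψ * μ ψ σ = 1 by omega),
      Nat.eq_one_of_mul_eq_one_left (show c ψ * μ ψ σ = 1 by omega)⟩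
  choose φ hφc hφμ using hexφ
  have hφuniq : ∀ σ ψ, c ψ ≠ 0 → μ ψ σ ≠ 0 → ψ = φ σ := fun σ ψ h1 h2 =>
    huniq σ ψ (φ σ) (Nat.mul_ne_zero h1 h2) (by rw [hφc, hφμ]; norm_num)
  have hμtw : ∀ (ψ : IrrCharacter M) (σ τ : IrrCharacter C), (τ : C → ℂ) ∈ ucOrb (P := P) (σ : C → ℂ) →
      μ ψ τ = μ ψ σ := by
    intro ψ σ τ hτ
    have h1 := classInner_res_tw (P := P) ψ.2.isClassFunction hτ
    rw [hμ, hμ, Nat.cast_inj] at h1
    exact h1
  have hφorb : ∀ σ τ : IrrCharacter C, (τ : C → ℂ) ∈ ucOrb (P := P) (σ : C → ℂ) → φ τ = φ σ :=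
    fun σ τ hτ => (hφuniq τ (φ σ) (by rw [hφc]; norm_num) (by rw [hμtw _ σ τ hτ, hφμ]; norm_num)).symm
  have hφone : ∀ σ, σ ≠ σ0 → φ σ ≠ one := fun σ hσ e => by
    have := hφμ σ
    rw [e, hμone, if_neg hσ] at this
    exact zero_ne_one this
  have hrel : ∀ σ τ : IrrCharacter C, ucRel (P := P) (σ : C → ℂ) (τ : C → ℂ) := by
    intro σ τ x hx
    by_cases hx1 : x = 1
    · rw [hx1, hdeg1, hdeg1]
    · exact absurd ⟨1, by rw [pow_one]; exact hCP.le x.2,
        by rw [pow_one]; exact fun e => hx1 (Subtype.ext e)⟩ hx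
  have hnorm : ∀ σ τ : IrrCharacter C, σ ≠ σ0 → τ ≠ σ0 → (τ : C → ℂ) ∉ ucOrb (P := P) (σ : C → ℂ) →
      classInner (indFun C ((σ : C → ℂ) - (τ : C → ℂ))) (indFun C ((σ : C → ℂ) - (τ : C → ℂ))) = 2 := by
    intro σ τ hσ hτ hne
    rw [classInner_indFun C _ (isClassFunction_indFun C _),
      show (fun x : C => indFun C ((σ : C → ℂ) - (τ : C → ℂ)) (x : M)) =
        ucSum (P := P) (σ : C → ℂ) - ucSum (P := P) (τ : C → ℂ) from
        funext fun x => indFun_res_orb h σ.2 (hnt σ hσ) τ.2 (hnt τ hτ) (hrel σ τ) x,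
      classInner_sub_left, classInner_sub_right, classInner_sub_right,
      classInner_ucSum σ.2 σ.2, classInner_ucSum σ.2 τ.2, classInner_ucSum τ.2 σ.2,
      classInner_ucSum τ.2 τ.2, if_pos (self_mem_ucOrb _), if_neg (fun e => hne (ucOrb_symm e)),
      if_neg hne, if_pos (self_mem_ucOrb _)]
    norm_num
  have hinner : ∀ (σ τ : IrrCharacter C) (ψ : IrrCharacter M),
      classInner (indFun C ((σ : C → ℂ) - (τ : C → ℂ))) (ψ : M → ℂ) = (μ ψ σ : ℂ) - μ ψ τ := by
    intro σ τ ψ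
    have hψc : IsCharacter C (fun x : C => (ψ : M → ℂ) x) := ψ.2.isCharacter.comp C.subtype
    rw [classInner_indFun C _ ψ.2.isClassFunction, classInner_sub_left,
      classInner_comm_of_isCharacter σ.2.isCharacter hψc,
      classInner_comm_of_isCharacter τ.2.isCharacter hψc]
    exact congrArg₂ (· - ·) (hμ ψ σ) (hμ ψ τ)
  have hdiff : ∀ σ τ : IrrCharacter C, σ ≠ σ0 → τ ≠ σ0 → φ σ ≠ φ τ →
      indFun C ((σ : C → ℂ) - (τ : C → ℂ)) = (φ σ : M → ℂ) - (φ τ : M → ℂ) := by
    intro σ τ hσ hτ hne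
    have h0 : μ (φ σ) τ = 0 := by
      by_contra h0
      exact hne (hφuniq τ (φ σ) (by rw [hφc]; norm_num) h0)
    have h0' : μ (φ τ) σ = 0 := by
      by_contra h0
      exact hne (hφuniq σ (φ τ) (by rw [hφc]; norm_num) h0).symm
    obtain ⟨-, η', hη', -, heq⟩ := exists_eq_sub_of_norm_two
      (isGeneralizedCharacter_indFun C (σ.2.isGeneralized.sub τ.2.isGeneralized))
      (hnorm σ τ hσ hτ fun e => hne (hφorb σ τ e).symm)
      (by rw [indFun_apply_one, Pi.sub_apply, hdeg1, hdeg1, sub_self, mul_zero]) (φ σ) 1 le_rfl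
      (by rw [hinner, hφμ, h0]; norm_num)
    have h1 := hinner σ τ (φ τ)
    rw [heq, h0', hφμ, classInner_sub_left, classInner_irr_ne (φ σ).2 (φ τ).2
      (fun e => hne (Subtype.ext e)), classInner_irr η'.2 (φ τ).2] at h1
    split_ifs at h1 with he
    · rw [heq, show η' = φ τ from Subtype.ext he]
    · norm_num at h1
  -- not all nontrivial characters lie in one constituent
  have hA : ∀ σ, σ ≠ σ0 → ∃ τ, τ ≠ σ0 ∧ φ τ ≠ φ σ := by
    intro σ hσ
    by_contra! hall
    refine hnot2 (Cfsg.Lib.Derange.two_trans_of_card_orbits (G := M) (Ω := Ω) ?_)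
    have hπdeg : ∑ ψ, c ψ * d ψ = n := by
      have := hπexp 1
      simp only [hπ1, hd1] at this
      exact_mod_cast this.symm
    have hbig : n - 1 ≤ d (φ σ) := by
      rw [hdsum, ← hirr, ← Finset.card_univ, ← Finset.card_erase_of_mem (Finset.mem_univ σ0),
        Finset.card_eq_sum_ones]
      refine le_trans (Finset.sum_le_sum fun τ hτ => ?_) (Finset.sum_le_sum_of_subset (Finset.subset_univ _))
      rw [← hall τ (Finset.mem_erase.1 hτ).1, hφμ]
    have hsupp : ∀ ψ, ψ ≠ one → ψ ≠ φ σ → c ψ = 0 := by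
      intro ψ h1 h2
      have h3 := Finset.sum_le_sum_of_subset (f := fun q => c q * d q)
        (Finset.subset_univ {one, φ σ, ψ})
      rw [Finset.sum_insert (by simp [Ne.symm (hφone σ hσ), Ne.symm h1]),
        Finset.sum_pair (Ne.symm h2), hπdeg, hcone, hd_one, hφc] at h3
      rcases Nat.eq_zero_or_pos (c ψ) with h | h
      · exact h
      · have : 0 < c ψ * d ψ := Nat.mul_pos h ψ.2.charDegree_pos
        omega
    have h2 : classInner π π = 2 := by
      rw [classInner_eq_sum hπ.isClassFunction, ← Finset.sum_subset (Finset.subset_univ {one, φ σ})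
        fun ψ _ hψ => by
          simp only [Finset.mem_insert, Finset.mem_singleton, not_or] at hψ
          rw [hc, hsupp ψ hψ.1 hψ.2]; simp]
      rw [Finset.sum_pair (Ne.symm (hφone σ hσ)), hc, hc, hcone, hφc]
      simp [one_add_one_eq_two]
    have h3 : (∑ g : M, (Cfsg.Lib.Derange.fx Ω g : ℂ) * Cfsg.Lib.Derange.fx Ω g) = 2 * Fintype.card M := by
      have hfx : ∀ g : M, π g = (Cfsg.Lib.Derange.fx Ω g : ℂ) := by
        intro g
        show (Nat.card (MulAction.fixedBy Ω g) : ℂ) = _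
        rw [Cfsg.Lib.Derange.fx, Cfsg.Lib.Derange.fixSet, ← Fintype.card_subtype,
          Nat.card_eq_fintype_card]
        exact congrArg _ (Fintype.card_congr (Equiv.refl _))
      simp only [classInner, hfx, Complex.conj_natCast, Nat.card_eq_fintype_card] at h2
      rw [inv_mul_eq_iff_eq_mul₀ (Nat.cast_ne_zero.2 Fintype.card_ne_zero)] at h2
      rw [h2, mul_comm]
    have h4 := Cfsg.Lib.Derange.sum_fx_sq (G := M) (Ω := Ω)
    have h5 : (∑ g : M, Cfsg.Lib.Derange.fx Ω g * Cfsg.Lib.Derange.fx Ω g) = 2 * Fintype.card M := by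
      exact_mod_cast h3
    rw [h4] at h5
    exact (Nat.eq_of_mul_eq_mul_right Fintype.card_pos h5).le
  have hB : ∀ σ τ, σ ≠ σ0 → τ ≠ σ0 → φ σ = φ τ → (τ : C → ℂ) ∈ ucOrb (P := P) (σ : C → ℂ) := by
    intro σ τ hσ hτ he
    by_contra hne
    obtain ⟨l, hl, hlne⟩ := hA σ hσ
    have h1 := hdiff σ l hσ hl (Ne.symm hlne)
    have h2 := hdiff τ l hτ hl (fun e => hlne (e.symm.trans he.symm))
    have h3 : indFun C ((σ : C → ℂ) - (τ : C → ℂ)) = 0 := by
      rw [show (σ : C → ℂ) - (τ : C → ℂ) = ((σ : C → ℂ) - (l : C → ℂ)) - ((τ : C → ℂ) - (l : C → ℂ))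
        from (sub_sub_sub_cancel_right _ _ _).symm, indFun_sub, h1, h2, he, sub_self]
    have h4 := hnorm σ τ hσ hτ hne
    rw [h3, classInner_zero_left] at h4
    norm_num at h4
  -- the number `e`
  set e := ucE p P with he
  obtain ⟨σ1, hσ1⟩ : ∃ σ : IrrCharacter C, σ ≠ σ0 := by
    refine Fintype.exists_ne_of_one_lt_card ?_ σ0
    omega
  have horbcard : ∀ σ, σ ≠ σ0 →
      (Finset.univ.filter fun τ : IrrCharacter C => (τ : C → ℂ) ∈ ucOrb (P := P) (σ : C → ℂ)).card = e := by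
    intro σ hσ
    rw [he, ← (sum_ucTw h σ.2 (hnt σ hσ)).1]
    exact Finset.card_bij (fun τ _ => (τ : C → ℂ)) (fun τ hτ => (Finset.mem_filter.1 hτ).2)
      (fun a _ b _ e' => Subtype.ext e')
      (fun f hf => ⟨⟨f, isIrr_of_mem_ucOrb σ.2 hf⟩, by simp [hf], rfl⟩)
  have hNcard : Nat.card (Subgroup.normalizer ((P : Subgroup M) : Set M)) = e * n := by
    rw [(sum_ucTw h σ1.2 (hnt σ1 hσ1)).2.1, ← hCdef, hCn]
  have hμφ : ∀ σ, σ ≠ σ0 → ∀ τ, μ (φ σ) τ =
      if (τ : C → ℂ) ∈ ucOrb (P := P) (σ : C → ℂ) then 1 else 0 := by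
    intro σ hσ τ
    split_ifs with hτ
    · rw [hμtw _ σ τ hτ, hφμ]
    · by_contra h0
      have h1 := hφuniq τ (φ σ) (by rw [hφc]; norm_num) h0
      by_cases hτ0 : τ = σ0
      · have h2 := hφuniq σ0 one (by rw [hcone]; norm_num) (by rw [hμone, if_pos rfl]; norm_num)
        rw [hτ0, ← h2] at h1
        exact hφone σ hσ h1
      · exact hτ (hB σ τ hσ hτ0 h1)
  have hdφ : ∀ σ, σ ≠ σ0 → d (φ σ) = e ∧ ∑ τ, μ (φ σ) τ ^ 2 = e := by
    intro σ hσ
    constructor
    · rw [hdsum, Finset.sum_congr rfl fun τ _ => hμφ σ hσ τ, Finset.sum_boole, Nat.cast_id,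
        horbcard σ hσ]
    · rw [Finset.sum_congr rfl fun τ _ => show μ (φ σ) τ ^ 2 = _ from (congrArg (· ^ 2) (hμφ σ hσ τ))]
      simp only [ite_pow, one_pow, ne_eq, OfNat.ofNat_ne_zero, not_false_eq_true, zero_pow,
        Finset.sum_boole, Nat.cast_id]
      exact horbcard σ hσ
  set Ex := (Finset.univ.erase σ0).image φ with hEx
  have hExcard : Ex.card * e = n - 1 := by
    have h1 := Finset.card_eq_sum_card_image φ (Finset.univ.erase σ0)
    rw [Finset.card_erase_of_mem (Finset.mem_univ _), Finset.card_univ, hirr, ← hEx] at h1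
    rw [h1, ← smul_eq_mul, ← Finset.sum_const]
    refine Finset.sum_congr rfl fun ψ hψ => ?_
    obtain ⟨σ, hσ, rfl⟩ := Finset.mem_image.1 hψ
    have hσ' := (Finset.mem_erase.1 hσ).1
    rw [← horbcard σ hσ']
    congr 1
    ext τ
    simp only [Finset.mem_filter, Finset.mem_univ, true_and, Finset.mem_erase, and_true]
    constructor
    · intro hτ
      exact ⟨hnt0 τ (nontriv_of_mem_ucOrb (hnt σ hσ') hτ), hφorb σ τ hτ⟩
    · rintro ⟨hτ0, hτ⟩
      exact hB σ τ hσ' hτ0 hτ.symm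
  have hconst : ∀ ψ, ψ ∉ Ex → ∀ σ τ, σ ≠ σ0 → τ ≠ σ0 → μ ψ σ = μ ψ τ := by
    intro ψ hψ σ τ hσ hτ
    by_cases ho : (τ : C → ℂ) ∈ ucOrb (P := P) (σ : C → ℂ)
    · exact (hμtw ψ σ τ ho).symm
    · have hne : φ σ ≠ φ τ := fun e' => ho (hB σ τ hσ hτ e')
      have h1 := hinner σ τ ψ
      rw [hdiff σ τ hσ hτ hne, classInner_sub_left,
        classInner_irr_ne (φ σ).2 ψ.2 (fun e' => hψ (Finset.mem_image.2
          ⟨σ, Finset.mem_erase.2 ⟨hσ, Finset.mem_univ _⟩, Subtype.ext e'⟩)),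
        classInner_irr_ne (φ τ).2 ψ.2 (fun e' => hψ (Finset.mem_image.2
          ⟨τ, Finset.mem_erase.2 ⟨hτ, Finset.mem_univ _⟩, Subtype.ext e'⟩)), sub_zero,
        eq_comm, sub_eq_zero, Nat.cast_inj] at h1
      exact h1
  -- trivial normalizer quotient
  rcases Nat.lt_or_ge e 2 with he1 | he2
  · refine normal_of_normalizer_le P hPn hreg ?_
    have hle : Subgroup.centralizer ((P : Subgroup M) : Set M) ≤
        Subgroup.normalizer ((P : Subgroup M) : Set M) := Subgroup.centralizer_le_normalizer _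
    refine (Subgroup.eq_of_le_of_card_ge hle ?_).ge
    rw [hNcard, ← hCdef, hCn]
    calc e * n ≤ 1 * n := Nat.mul_le_mul_right _ (by omega)
      _ = n := one_mul n
  -- the square of an exceptional character
  set χ := φ σ1 with hχ
  obtain ⟨hdχ, hSχ⟩ := hdφ σ1 hσ1
  set θ : M → ℂ := fun g => (χ : M → ℂ) g * conj ((χ : M → ℂ) g) with hθdef
  have hθ : IsCharacter M θ := χ.2.isCharacter.mul χ.2.isCharacter.conjFn
  choose k hk using fun ψ : IrrCharacter M => hθ.exists_nat_classInner ψ.2.isCharacter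
  have hθexp : ∀ g, θ g = ∑ ψ : IrrCharacter M, (k ψ : ℂ) * (ψ : M → ℂ) g := by
    intro g
    have := congrFun (eq_sum_classInner hθ.isClassFunction) g
    simpa only [Finset.sum_apply, Pi.smul_apply, smul_eq_mul, hk] using this
  have hθdeg : ∑ ψ, k ψ * d ψ = e * e := by
    have := hθexp 1
    simp only [hθdef, hd1, Complex.conj_natCast] at this
    rw [show d χ = e from hdχ] at this
    exact_mod_cast this.symm
  have hk1 : k one = 1 := by
    have h1 : classInner θ (fun _ => 1) = classInner (χ : M → ℂ) (χ : M → ℂ) := by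
      simp [classInner, hθdef]
    have h2 := hk one
    rw [show ((one : M → ℂ)) = fun _ => 1 from rfl, h1, classInner_irr_self χ.2] at h2
    exact_mod_cast h2.symm
  have hθ0 : ∑ ψ, k ψ * μ ψ σ0 = e := by
    have h1 : classInner (fun x : C => θ x) (σ0 : C → ℂ) = (e : ℂ) := by
      have h2 : classInner (fun x : C => θ x) (σ0 : C → ℂ) =
          classInner (fun x : C => (χ : M → ℂ) x) (fun x : C => (χ : M → ℂ) x) := by
        simp [classInner, hθdef, hσ0]
      have hχc : IsCharacter C (fun x : C => (χ : M → ℂ) x) := χ.2.isCharacter.comp C.subtype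
      rw [h2, classInner_eq_sum hχc.isClassFunction, ← hSχ, Nat.cast_sum]
      exact Finset.sum_congr rfl fun τ _ => by
        rw [show classInner (fun x : C => (χ : M → ℂ) x) (τ : C → ℂ) = μ χ τ from hμ χ τ,
          Complex.conj_natCast, Nat.cast_pow, pow_two]
    have h2 : (fun x : C => θ x) = ∑ ψ : IrrCharacter M, (k ψ : ℂ) • fun x : C => (ψ : M → ℂ) x := by
      funext x
      rw [hθexp, Finset.sum_apply]
      rfl
    rw [h2, classInner_sum_left] at h1
    simp only [classInner_smul_left, hμ] at h1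
    exact_mod_cast h1
  have hcand : ∀ ψ, ψ ≠ one → k ψ * μ ψ σ0 ≠ 0 →
      ∃ a, 1 ≤ a ∧ ψ ∉ Ex ∧ (∀ τ, τ ≠ σ0 → μ ψ τ = a) ∧ d ψ = μ ψ σ0 + (n - 1) * a := by
    intro ψ hψ1 hψ
    have hψE : ψ ∉ Ex := by
      intro hmem
      obtain ⟨σ, hσ, rfl⟩ := Finset.mem_image.1 hmem
      refine hψ ?_
      rw [hμφ σ (Finset.mem_erase.1 hσ).1 σ0, if_neg ?_, mul_zero]
      intro hm
      exact hnt0 σ0 (nontriv_of_mem_ucOrb (hnt σ (Finset.mem_erase.1 hσ).1) hm) rfl
    have hall : ∀ τ, τ ≠ σ0 → μ ψ τ = μ ψ σ1 := fun τ hτ => hconst ψ hψE τ σ1 hτ hσ1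
    have hdψ : d ψ = μ ψ σ0 + (n - 1) * μ ψ σ1 := by
      rw [hdsum, ← Finset.add_sum_erase _ _ (Finset.mem_univ σ0),
        Finset.sum_congr rfl fun τ hτ => hall τ (Finset.mem_erase.1 hτ).1, Finset.sum_const,
        Finset.card_erase_of_mem (Finset.mem_univ _), Finset.card_univ, hirr, smul_eq_mul]
    refine ⟨μ ψ σ1, Nat.one_le_iff_ne_zero.2 fun h0 => hψ1 ?_, hψE, hall, hdψ⟩
    -- then `P` lies in the kernel
    have hres : ∀ x : C, (ψ : M → ℂ) x = (ψ : M → ℂ) ((1 : C) : M) := by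
      intro x
      have hψc := ψ.2.isCharacter.comp C.subtype
      have e1 : ∀ y : C, (ψ : M → ℂ) y = ∑ τ : IrrCharacter C, (μ ψ τ : ℂ) * (τ : C → ℂ) y := by
        intro y
        have := congrFun (eq_sum_classInner hψc.isClassFunction) y
        simpa only [Finset.sum_apply, Pi.smul_apply, smul_eq_mul, Subgroup.coe_subtype, hμ] using this
      rw [e1 x, e1 1]
      refine Finset.sum_congr rfl fun τ _ => ?_
      by_cases hτ : τ = σ0
      · rw [hτ]
      · rw [hall τ hτ, h0, Nat.cast_zero, zero_mul, zero_mul]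
    have hker := hnp (charKer ψ.2.isCharacter) (charKer_normal _) fun y hy =>
      (mem_charKer _).2 (by simpa using hres ⟨y, hCP.ge hy⟩)
    by_contra hne
    have h1 := classInner_irr_ne ψ.2 one.2 (fun e' => hne (Subtype.ext e'))
    rw [show ((one : M → ℂ)) = fun _ => 1 from rfl, classInner_one_right,
      Finset.sum_congr rfl (fun g _ => (mem_charKer ψ.2.isCharacter).1 (hker ▸ Subgroup.mem_top g)),
      Finset.sum_const, Finset.card_univ, nsmul_eq_mul, ← Nat.card_eq_fintype_card, ← mul_assoc,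
      inv_mul_cancel₀ card_cast_ne_zero, one_mul] at h1
    exact ψ.2.apply_one_ne_zero h1
  obtain ⟨ψ0, hψ0, hψ00⟩ : ∃ ψ, ψ ≠ one ∧ k ψ * μ ψ σ0 ≠ 0 := by
    by_contra! hnone
    rw [Finset.sum_eq_single one (fun ψ _ hψ => hnone ψ hψ) (by simp), hk1, hμone, if_pos rfl] at hθ0
    omega
  obtain ⟨a, ha, hψ0E, hψ0a, hψ0d⟩ := hcand ψ0 hψ0 hψ00
  have hk0 : k ψ0 ≠ 0 := (mul_ne_zero_iff.1 hψ00).1
  have hz0 : μ ψ0 σ0 ≠ 0 := (mul_ne_zero_iff.1 hψ00).2
  have hee : e * e ≤ 2 * (n - 1) := by rw [← sq]; exact hsmall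
  have hdeg0 : 1 + k ψ0 * d ψ0 ≤ e * e := by
    rw [← hθdeg]
    have := Finset.add_le_sum (f := fun ψ => k ψ * d ψ) (s := Finset.univ)
      (fun i _ => Nat.zero_le _) (Finset.mem_univ one) (Finset.mem_univ ψ0) hψ0.symm
    rwa [hk1, hd_one, one_mul] at this
  have ha1 : a = 1 := by
    by_contra hne
    have h2a : 2 * (n - 1) ≤ (n - 1) * a := by rw [mul_comm 2]; exact Nat.mul_le_mul_left _ (by omega)
    have := Nat.le_mul_of_pos_left (d ψ0) (Nat.pos_of_ne_zero hk0)
    omega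
  subst ha1
  rw [mul_one] at hψ0d
  have hk0' : k ψ0 = 1 := by
    by_contra hne
    have : 2 * d ψ0 ≤ k ψ0 * d ψ0 := Nat.mul_le_mul_right _ (by omega)
    omega
  have honly : ∀ ψ, ψ ≠ one → ψ ≠ ψ0 → k ψ * μ ψ σ0 = 0 := by
    intro ψ h1 h2
    by_contra h3
    obtain ⟨b, hb, -, -, hdb⟩ := hcand ψ h1 h3
    have h4 := Finset.sum_le_sum_of_subset (f := fun q => k q * d q)
      (Finset.subset_univ {one, ψ0, ψ})
    rw [Finset.sum_insert (by simp [hψ0.symm, Ne.symm h1]), Finset.sum_pair (Ne.symm h2), hθdeg,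
      hk1, hd_one, hk0'] at h4
    have := Nat.le_mul_of_pos_left (d ψ) (Nat.pos_of_ne_zero (mul_ne_zero_iff.1 h3).1)
    have := Nat.le_mul_of_pos_right (n - 1) hb
    omega
  have hz : μ ψ0 σ0 + 1 = e := by
    rw [← hθ0, ← Finset.sum_subset (Finset.subset_univ {one, ψ0}) fun ψ _ hψ => by
      simp only [Finset.mem_insert, Finset.mem_singleton, not_or] at hψ
      exact honly ψ hψ.1 hψ.2]
    rw [Finset.sum_pair hψ0.symm, hk1, hk0', hμone, if_pos rfl]
    omega
  -- the sum over the nonidentity elements of `P`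
  set f : IrrCharacter M → ℤ := fun ψ => (n : ℤ) * ∑ τ, (μ ψ τ : ℤ) ^ 2 - (d ψ : ℤ) ^ 2 with hf
  have hfnn : ∀ ψ, 0 ≤ f ψ := by
    intro ψ
    have h1 := sq_sum_le_card_mul_sum_sq (s := (Finset.univ : Finset (IrrCharacter C)))
      (f := fun τ => (μ ψ τ : ℤ))
    rw [Finset.card_univ, hirr] at h1
    simp only [hf, hdsum]
    push_cast
    linarith
  have hsumf : ∑ ψ, f ψ = (n : ℤ) * (n - 1) := by
    have hcol : ∀ x : C, x ≠ 1 →
        ∑ ψ : IrrCharacter M, (ψ : M → ℂ) x * conj ((ψ : M → ℂ) x) = (n : ℂ) := by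
      intro x hx
      rw [column_orthogonality, if_pos (IsConj.refl _),
        hC x (hCP.le x.2) (fun e' => hx (Subtype.ext e')), hPn]
    have hS : ∀ ψ : IrrCharacter M, ((n : ℤ) * ∑ τ, (μ ψ τ : ℤ) ^ 2 : ℤ) =
        ((∑ x : C, (ψ : M → ℂ) x * conj ((ψ : M → ℂ) x)) : ℂ) := by
      intro ψ
      have hψc : IsCharacter C (fun x : C => (ψ : M → ℂ) x) := ψ.2.isCharacter.comp C.subtype
      have h1 := classInner_eq_sum (f' := fun x : C => (ψ : M → ℂ) x) hψc.isClassFunction
      simp only [hμ, Complex.conj_natCast] at h1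
      simp only [classInner, hCn] at h1
      rw [inv_mul_eq_iff_eq_mul₀ (Nat.cast_ne_zero.2 (by omega))] at h1
      rw [h1]
      push_cast
      congr 1
      exact Finset.sum_congr rfl fun τ _ => sq _
    have h1 : ((∑ ψ, f ψ : ℤ) : ℂ) = ((n : ℤ) * (n - 1) : ℤ) := by
      simp only [hf, Finset.sum_sub_distrib, Int.cast_sub, Int.cast_sum, hS]
      rw [Finset.sum_comm, ← Finset.add_sum_erase _ _ (Finset.mem_univ (1 : C)),
        Finset.sum_congr rfl fun x hx => hcol x (Finset.mem_erase.1 hx).1, Finset.sum_const,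
        Finset.card_erase_of_mem (Finset.mem_univ _), Finset.card_univ, ← Nat.card_eq_fintype_card,
        hCn, nsmul_eq_mul, Nat.cast_sub (show 1 ≤ n by omega)]
      simp only [Subgroup.coe_one, hd1, Complex.conj_natCast]
      push_cast
      have e2 : ∀ ψ : IrrCharacter M, (d ψ : ℂ) * d ψ = (d ψ : ℂ) ^ 2 := fun ψ => (sq _).symm
      simp only [e2]
      ring
    exact_mod_cast h1
  have hψ0one : one ∉ Ex := by
    intro hm
    obtain ⟨σ, hσ, hσe⟩ := Finset.mem_image.1 hm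
    exact hφone σ (Finset.mem_erase.1 hσ).1 hσe
  have hle : f one + f ψ0 + ∑ ψ ∈ Ex, f ψ ≤ (n : ℤ) * (n - 1) := by
    rw [← hsumf]
    have h1 := Finset.sum_le_sum_of_subset_of_nonneg (f := f)
      (Finset.subset_univ (insert one (insert ψ0 Ex))) (fun i _ _ => hfnn i)
    rw [Finset.sum_insert (by simp [hψ0.symm, hψ0one]), Finset.sum_insert hψ0E] at h1
    linarith
  have hf1 : f one = (n : ℤ) - 1 := by
    simp only [hf, hμone, hd_one]
    rw [Finset.sum_eq_single σ0 (fun σ _ hσ => by simp [hσ]) (by simp)]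
    simp
  have hf0 : f ψ0 = ((n : ℤ) - 1) * ((e : ℤ) - 2) ^ 2 := by
    have hsq : ∑ τ, (μ ψ0 τ : ℤ) ^ 2 = (μ ψ0 σ0 : ℤ) ^ 2 + ((n : ℤ) - 1) := by
      rw [← Finset.add_sum_erase _ _ (Finset.mem_univ σ0),
        Finset.sum_congr rfl fun τ hτ => by rw [hψ0a τ (Finset.mem_erase.1 hτ).1, Nat.cast_one,
          one_pow], Finset.sum_const, Finset.card_erase_of_mem (Finset.mem_univ _), Finset.card_univ,
        hirr, nsmul_eq_mul, mul_one, Nat.cast_sub (show 1 ≤ n by omega), Nat.cast_one]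
    simp only [hf, hsq, hψ0d]
    rw [← hz]
    push_cast [Nat.cast_sub (show 1 ≤ n by omega)]
    ring
  have hfE : ∑ ψ ∈ Ex, f ψ = ((n : ℤ) - 1) * ((n : ℤ) - e) := by
    rw [Finset.sum_congr rfl fun ψ hψ => show f ψ = (e : ℤ) * ((n : ℤ) - e) by
      obtain ⟨σ, hσ, rfl⟩ := Finset.mem_image.1 hψ
      obtain ⟨h1, h2⟩ := hdφ σ (Finset.mem_erase.1 hσ).1
      have h2' : ∑ τ, (μ (φ σ) τ : ℤ) ^ 2 = e := by exact_mod_cast h2
      simp only [hf, h1, h2']
      ring, Finset.sum_const, nsmul_eq_mul, ← mul_assoc]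
    congr 1
    have : ((Ex.card * e : ℕ) : ℤ) = ((n - 1 : ℕ) : ℤ) := by rw [hExcard]
    push_cast [Nat.cast_sub (show 1 ≤ n by omega)] at this
    exact this
  rw [hf1, hf0, hfE] at hle
  have hkey : ((e : ℤ) - 2) ^ 2 + 1 ≤ e := by
    have hpos : (0 : ℤ) < (n : ℤ) - 1 := by omega
    nlinarith
  have he3 : e ≤ 3 := by
    by_contra h4
    have h4' : (4 : ℤ) ≤ e := by omega
    nlinarith
  have h2orb : 2 ≤ Ex.card := by
    obtain ⟨τ, hτ, hτne⟩ := hA σ1 hσ1
    exact Finset.one_lt_card.2 ⟨φ τ, Finset.mem_image_of_mem _ (Finset.mem_erase.2 ⟨hτ, Finset.mem_univ _⟩),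
      φ σ1, Finset.mem_image_of_mem _ (Finset.mem_erase.2 ⟨hσ1, Finset.mem_univ _⟩), hτne⟩
  have h2n : 2 * e ≤ n - 1 := by rw [← hExcard]; exact Nat.mul_le_mul_right _ h2orb
  rw [hk0', one_mul] at hdeg0
  have he' : e = 3 := by
    by_contra hne
    have : e = 2 := by omega
    rw [this] at hdeg0 h2n hz
    omega
  rw [he'] at hdeg0 h2n hz hNcard
  have hn7 : n = 7 := by omega
  exact normal_seven P hn7 hPn hreg hC (by rw [hNcard, hn7]) hnot2

end Cfsg.Lib.DerSub
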