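import Cfsg.Agent.Lib.Perm.DerangementSubgroup.Symplectic
import Cfsg.Agent.Lib.CyclicNormalAbelian
import Cfsg.Agent.Lib.PGroup.Basic
import Cfsg.Agent.Lib.Coprime.Generation

/-!
# Small modules with many fixed point free cosets

If `A` acts faithfully and irreducibly on the abelian group `W`, everything outside the normal
subgroup `A0` of index `m ≥ 2` is fixed point free and `|W| < (m + 1) ^ 2`, then, provided that `A0`
has order prime to `|W|`, the whole of `A` is fixed point free.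
-/

set_option autoImplicit false

namespace Cfsg.Lib.DerSub

open MulAction Subgroup
open scoped commutatorElement

universe u

theorem mem_zpowers_of_cyclic {A : Type*} [Group A] [Finite A] {B : Subgroup A} [IsCyclic B] {r : ℕ}
    (hr : r.Prime) {z x : A} (hz : z ∈ B) (hx : x ∈ B) (hzr : z ^ r = 1) (hz1 : z ≠ 1)
    (hxr : x ^ r = 1) : x ∈ zpowers z := by
  classical
  haveI := Fintype.ofFinite B
  haveI := Fact.mk hr
  by_contra hn
  set z' : B := ⟨z, hz⟩
  have hsub : insert (⟨x, hx⟩ : B) (Finset.univ.filter fun b => b ∈ zpowers z') ⊆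
      (Finset.univ.filter fun b : B => b ^ r = 1) := by
    intro b hb
    rw [Finset.mem_insert] at hb
    refine Finset.mem_filter.2 ⟨Finset.mem_univ _, ?_⟩
    rcases hb with rfl | hb
    · exact Subtype.ext hxr
    · obtain ⟨i, rfl⟩ := (Finset.mem_filter.1 hb).2
      show (z' ^ i) ^ r = 1
      rw [← zpow_natCast (z' ^ i), ← zpow_mul, mul_comm, zpow_mul, zpow_natCast,
        show z' ^ r = 1 from Subtype.ext hzr, one_zpow]
  have h1 := (Finset.card_le_card hsub).trans (IsCyclic.card_pow_eq_one_le hr.pos)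
  have hnot : (⟨x, hx⟩ : B) ∉ Finset.univ.filter fun b => b ∈ zpowers z' := by
    intro h
    obtain ⟨i, hi⟩ := (Finset.mem_filter.1 h).2
    exact hn ⟨i, (SubgroupClass.coe_zpow z' i).symm.trans (congrArg Subtype.val hi)⟩
  rw [Finset.card_insert_of_notMem hnot, ← Fintype.card_subtype, ← Nat.card_eq_fintype_card] at h1
  have h2 : Nat.card {b : B // b ∈ zpowers z'} = r := (Nat.card_zpowers z').trans
    (orderOf_eq_prime (Subtype.ext hzr) fun e => hz1 (congrArg Subtype.val e))
  omega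

theorem mul_pow_of_central {A : Type*} [Group A] {a b c : A} (h : b * a = c * a * b)
    (hca : Commute c a) (hcb : Commute c b) (n : ℕ) :
    (a * b) ^ n = c ^ n.choose 2 * a ^ n * b ^ n := by
  have hb : ∀ n : ℕ, b ^ n * a = c ^ n * a * b ^ n := by
    intro n
    induction n with
    | zero => simp
    | succ n ih =>
      calc b ^ (n + 1) * a = b * (b ^ n * a) := by rw [pow_succ']; group
        _ = c ^ n * (b * a) * b ^ n := by rw [ih, ← mul_assoc, ← mul_assoc, ← (hcb.pow_left n).eq]; group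
        _ = _ := by rw [h, pow_succ, pow_succ' b]; group
  induction n with
  | zero => simp
  | succ n ih =>
    have hc : (n + 1).choose 2 = n.choose 2 + n := by
      rw [Nat.choose_succ_succ' n 1, Nat.choose_one_right, add_comm]
    calc (a * b) ^ (n + 1) = c ^ n.choose 2 * a ^ n * (b ^ n * a) * b := by
          rw [pow_succ, ih]; group
      _ = c ^ n.choose 2 * (a ^ n * c ^ n) * a * b ^ n * b := by rw [hb n]; group
      _ = _ := by
        rw [← ((hca.pow_left n).pow_right n).eq, hc, pow_add, pow_succ a, pow_succ b]; group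

/-- A nontrivial normal subgroup of a `p`-group outside a central subgroup has an element
central modulo it. -/
theorem exists_central_mod {P : Type*} [Group P] [Finite P] {p : ℕ} [Fact p.Prime]
    (hP : IsPGroup p P) (C Y : Subgroup P) [C.Normal] [Y.Normal] (hY : ¬ Y ≤ C) :
    ∃ v ∈ Y, v ∉ C ∧ ∀ x : P, ⁅v, x⁆ ∈ C := by
  have hne : Y.map (QuotientGroup.mk' C) ≠ ⊥ := fun h => hY (by
    rwa [Subgroup.map_eq_bot_iff, QuotientGroup.ker_mk'] at h)
  haveI : (Y.map (QuotientGroup.mk' C)).Normal :=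
    Subgroup.Normal.map inferInstance _ (QuotientGroup.mk'_surjective C)
  obtain ⟨q, hq, hq1⟩ := (Subgroup.bot_or_exists_ne_one _).resolve_left
    (Cfsg.Lib.PGroup.inf_center_ne_bot (hP.to_quotient C) hne)
  obtain ⟨v, hv, rfl⟩ := hq.1
  refine ⟨v, hv, fun hvC => hq1 ((QuotientGroup.eq_one_iff v).2 hvC), fun x => ?_⟩
  rw [← QuotientGroup.eq_one_iff]
  show (QuotientGroup.mk' C) ⁅v, x⁆ = 1
  rw [map_commutatorElement, commutatorElement_eq_one_iff_mul_comm]
  exact (Subgroup.mem_center_iff.1 hq.2 _).symm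

/-- The setting of the main theorem with a Sylow subgroup `R` of `A0` fixed. -/
structure Ctx (A W : Type u) [Group A] [CommGroup W] [MulDistribMulAction A W]
    (A0 : Subgroup A) (r : ℕ) (R : Subgroup A) : Prop where
  faith : ∀ a : A, (∀ w : W, a • w = w) → a = 1
  out : ∀ a, a ∉ A0 → ∀ w : W, a • w = w → w = 1
  idx : 2 ≤ A0.index
  small : Nat.card W < (A0.index + 1) ^ 2
  irr : ∀ K : Subgroup W, K ≠ ⊥ → A0.index ∣ Nat.card K - 1 → K = ⊤
  hr : r.Prime
  cop : r.Coprime (Nat.card W)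
  le : R ≤ A0
  pgrp : IsPGroup r R
  cover : normalizer (R : Set A) ⊔ A0 = ⊤

variable {A W : Type u} [Group A] [CommGroup W] [MulDistribMulAction A W]
  {A0 R : Subgroup A} [A0.Normal] {r : ℕ}

/-- The points fixed by a subgroup. -/
def subFix (W : Type u) [CommGroup W] [MulDistribMulAction A W] (U : Subgroup A) : Subgroup W where
  carrier := {w | ∀ u ∈ U, u • w = w}
  one_mem' := fun u _ => smul_one u
  mul_mem' {a b} (ha : ∀ u ∈ U, u • a = a) (hb : ∀ u ∈ U, u • b = b) := show ∀ u ∈ U, _ from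
    fun u hu => by rw [smul_mul', ha u hu, hb u hu]
  inv_mem' {a} (ha : ∀ u ∈ U, u • a = a) := show ∀ u ∈ U, _ from
    fun u hu => by rw [smul_inv', ha u hu]

theorem mem_subFix {U : Subgroup A} {w : W} : w ∈ subFix W U ↔ ∀ u ∈ U, u • w = w := Iff.rfl

theorem smul_mem_subFix {U : Subgroup A} {n : A} {w : W} (hw : w ∈ subFix W U)
    {V : Subgroup A} (hV : ∀ v ∈ V, n⁻¹ * v * n ∈ U) : n • w ∈ subFix W V := by
  intro v hv
  have := hw _ (hV v hv)
  rw [mul_smul, mul_smul, inv_smul_eq_iff] at this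
  exact this

variable [Finite A] [Finite W]

/-- A subgroup normalised by the covering normalizer has no fixed points. -/
theorem Ctx.fix_trivial (c : Ctx A W A0 r R) {U : Subgroup A} (hU : U ≠ ⊥)
    (hnorm : ∀ n ∈ normalizer (R : Set A), ∀ u ∈ U, n * u * n⁻¹ ∈ U) {w : W}
    (hw : ∀ u ∈ U, u • w = w) : w = 1 := by
  classical
  haveI := Fintype.ofFinite W
  by_contra hw1
  set K := subFix W U with hK
  have hdvd := dvd_card_of_fpf A0 c.cover {v : W | v ∈ K ∧ v ≠ 1} (fun n hn v hv => ⟨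
      smul_mem_subFix hv.1 (fun u hu => by
        have := hnorm n⁻¹ (inv_mem hn) u hu
        rwa [inv_inv] at this),
      fun e => hv.2 (by rwa [smul_eq_iff_eq_inv_smul, smul_one] at e)⟩)
    (fun a _ ha v hv e => hv.2 (c.out a ha v e))
  have hcard : Nat.card {v : W | v ∈ K ∧ v ≠ 1} = Nat.card K - 1 := by
    have e : Nat.card {v : W | v ∈ K ∧ v ≠ 1} = Nat.card {v : K // v ≠ 1} :=
      Nat.card_congr
        { toFun := fun v => ⟨⟨v.1, v.2.1⟩, fun h => v.2.2 (congrArg Subtype.val h)⟩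
          invFun := fun v => ⟨v.1.1, v.1.2, fun h => v.2 (Subtype.ext h)⟩
          left_inv := fun v => rfl
          right_inv := fun v => rfl }
    rw [e, Nat.card_eq_fintype_card, Fintype.card_subtype_compl, Fintype.card_subtype_eq,
      ← Nat.card_eq_fintype_card]
  rw [hcard] at hdvd
  have htop := c.irr K (fun h => hw1 (by
    have : w ∈ K := hw
    rwa [h, mem_bot] at this)) hdvd
  exact hU ((eq_bot_iff_forall _).2 fun u hu => c.faith u fun v =>
    (show v ∈ K by rw [htop]; exact mem_top v) u hu)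

theorem Ctx.elem_cop (c : Ctx A W A0 r R) {U : Subgroup A} (hU : U ≤ R) :
    (Nat.card U).Coprime (Nat.card W) := by
  haveI := Fact.mk c.hr
  obtain ⟨k, hk⟩ := IsPGroup.iff_card.1 (c.pgrp.to_le hU)
  rw [hk]
  exact c.cop.pow_left k

/-- Elementary abelian subgroups normalised by the normalizer of `R` are cyclic. -/
theorem Ctx.elem_cyclic (c : Ctx A W A0 r R) [Nontrivial W] (E : Subgroup A) (hER : E ≤ R)
    (hnorm : ∀ n ∈ normalizer (R : Set A), ∀ u ∈ E, n * u * n⁻¹ ∈ E)
    (hcomm : ∀ a ∈ E, ∀ b ∈ E, Commute a b) (hexp : ∀ a ∈ E, a ^ r = 1) :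
    ∃ e, E ≤ zpowers e := by
  classical
  haveI := Fintype.ofFinite A
  haveI := Fintype.ofFinite W
  haveI := Fact.mk c.hr
  by_contra hnc
  push Not at hnc
  have hEne : E ≠ ⊥ := fun h => hnc 1 (h ▸ bot_le)
  -- some nontrivial element has a fixed point
  obtain ⟨a, ha, ha1, w0, hw0, haw⟩ : ∃ a ∈ E, a ≠ 1 ∧ ∃ w : W, w ≠ 1 ∧ a • w = w := by
    by_contra! hfree
    obtain ⟨b, hb, hb1⟩ := E.bot_or_exists_ne_one.resolve_left hEne
    obtain ⟨a, ha, hab⟩ := SetLike.not_le_iff_exists.1 (hnc b)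
    obtain ⟨w, hw⟩ := exists_ne (1 : W)
    refine hw (eq_one_of_pow_eq_one c.cop ?_)
    rw [pow_eq_prod_nrm c.hr (⊤ : Subgroup W) (hcomm a ha b hb) (hexp b hb) (fun v _ => mem_top _)
      (fun v _ => mem_top _) (fun v _ hv => by
        by_contra hv1
        exact hfree b hb hb1 v hv1 hv) (mem_top w)]
    refine Finset.prod_eq_one fun i _ => ?_
    by_contra hne
    refine hfree (a * b ^ i) (E.mul_mem ha (E.pow_mem hb i)) (fun e => hab ?_) _ hne
      (smul_nrm (hexp _ (E.mul_mem ha (E.pow_mem hb i))) w)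
    rw [mul_eq_one_iff_eq_inv] at e
    rw [e]
    exact inv_mem (Subgroup.pow_mem _ (mem_zpowers b) i)
  -- the largest subgroup with a fixed point
  obtain ⟨U, ⟨hUE, w1, hw1, hUw⟩, hUmax⟩ :=
    (Set.toFinite {U : Subgroup A | U ≤ E ∧ ∃ w : W, w ≠ 1 ∧ ∀ u ∈ U, u • w = w}).exists_maximalFor
      (fun U : Subgroup A => Nat.card U) _
      ⟨zpowers a, zpowers_le.2 ha, w0, hw0, fun u hu => zpowers_le.2 (show a ∈ stabilizer A w0 from haw) hu⟩
  have hmax : ∀ U' : Subgroup A, U' ≤ E → ∀ w : W, w ≠ 1 → (∀ u ∈ U', u • w = w) →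
      Nat.card U' ≤ Nat.card U := fun U' h1 w h2 h3 => by
    rcases le_total (Nat.card U') (Nat.card U) with h | h
    · exact h
    · exact hUmax ⟨h1, w, h2, h3⟩ h
  have hUne : U ≠ ⊥ := fun h => by
    have := hmax (zpowers a) (zpowers_le.2 ha) w0 hw0
      (fun u hu => zpowers_le.2 (show a ∈ stabilizer A w0 from haw) hu)
    rw [h, card_bot, Nat.card_zpowers] at this
    have := orderOf_pos a
    exact ha1 (orderOf_eq_one_iff.1 (by omega))
  -- its conjugates
  set ι := Set.range (fun n : normalizer (R : Set A) => U.map (MulAut.conj (n : A)).toMonoidHom)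
    with hι
  haveI : Fintype ι := Fintype.ofFinite _
  have hιE : ∀ i : ι, (i : Subgroup A) ≤ E := by
    rintro ⟨_, n, rfl⟩ x hx
    obtain ⟨u, hu, rfl⟩ := hx
    simpa using hnorm n n.2 u (hUE hu)
  have hιcard : ∀ i : ι, Nat.card (i : Subgroup A) = Nat.card U := by
    rintro ⟨_, n, rfl⟩
    exact (Nat.card_congr (U.equivMapOfInjective _ (MulAut.conj (n : A)).injective).toEquiv).symm
  have hdisj : ∀ i j : ι, ∀ v : W, v ≠ 1 → v ∈ subFix W (i : Subgroup A) →
      v ∈ subFix W (j : Subgroup A) → i = j := by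
    intro i j v hv hvi hvj
    have hk := hmax (E ⊓ stabilizer A v) inf_le_left v hv (fun u hu => hu.2)
    have e : ∀ k : ι, v ∈ subFix W (k : Subgroup A) → (k : Subgroup A) = E ⊓ stabilizer A v :=
      fun k hvk => Subgroup.eq_of_le_of_card_ge (le_inf (hιE k) fun u hu => hvk u hu)
        (hk.trans (hιcard k).ge)
    exact Subtype.ext ((e i hvi).trans (e j hvj).symm)
  set i0 : ι := ⟨U, 1, by ext x; simp⟩ with hi0
  have hxcard : ∀ i : ι, Nat.card (subFix W (i : Subgroup A)) = Nat.card (subFix W U) := by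
    rintro ⟨_, n, rfl⟩
    exact Nat.card_congr
      { toFun := fun v => ⟨(n : A)⁻¹ • (v : W), smul_mem_subFix v.2 fun u hu =>
          ⟨u, hu, by simp [MulAut.conj_apply]⟩⟩
        invFun := fun v => ⟨(n : A) • (v : W), smul_mem_subFix v.2 fun u hu => by
          obtain ⟨u', hu', rfl⟩ := hu
          simpa [MulAut.conj_apply, mul_assoc] using hu'⟩
        left_inv := fun v => Subtype.ext (smul_inv_smul _ _)
        right_inv := fun v => Subtype.ext (inv_smul_smul _ _) }
  have hl : 2 ≤ Fintype.card ι := by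
    by_contra hl
    haveI : Subsingleton ι := Fintype.card_le_one_iff_subsingleton.1 (by omega)
    refine hw1 (c.fix_trivial hUne (fun n hn u hu => ?_) hUw)
    have h1 : U.map (MulAut.conj n).toMonoidHom = U :=
      congrArg Subtype.val (Subsingleton.elim (⟨_, ⟨n, hn⟩, rfl⟩ : ι) i0)
    rw [← h1]
    exact ⟨u, hu, by simp [MulAut.conj_apply]⟩
  set y := Nat.card {v : subFix W U // v ≠ 1} with hy
  set Z : Set W := {v | v ≠ 1 ∧ ∃ i : ι, v ∈ subFix W (i : Subgroup A)} with hZ
  have hy' : ∀ i : ι, Nat.card {v : subFix W (i : Subgroup A) // v ≠ 1} = y := fun i => by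
    haveI := Fintype.ofFinite (subFix W (i : Subgroup A))
    rw [hy, Nat.card_eq_fintype_card, Nat.card_eq_fintype_card, Fintype.card_subtype_compl,
      Fintype.card_subtype_compl, Fintype.card_subtype_eq, Fintype.card_subtype_eq,
      ← Nat.card_eq_fintype_card, ← Nat.card_eq_fintype_card, hxcard]
  have hZc : Nat.card Z = Fintype.card ι * y := by
    rw [← Finset.card_univ, ← smul_eq_mul, ← Finset.sum_const,
      Finset.sum_congr rfl fun i _ => (hy' i).symm, ← Nat.card_sigma]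
    refine (Nat.card_congr (Equiv.ofBijective
      (fun p : Σ i : ι, {v : subFix W (i : Subgroup A) // v ≠ 1} =>
        (⟨((p.2.1 : subFix W _) : W), fun e => p.2.2 (Subtype.ext e), p.1, p.2.1.2⟩ : Z)) ⟨?_, ?_⟩)).symm
    · rintro ⟨i, ⟨v, hv⟩, hv1⟩ ⟨j, ⟨v', hv'⟩, hv1'⟩ h
      obtain rfl : v = v' := congrArg Subtype.val h
      obtain rfl := hdisj i j v (fun e => hv1 (Subtype.ext e)) hv hv'
      rfl
    · rintro ⟨v, hv1, i, hv⟩
      exact ⟨⟨i, ⟨v, hv⟩, fun e => hv1 (congrArg Subtype.val e)⟩, rfl⟩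
  have hZinv : ∀ n ∈ normalizer (R : Set A), ∀ v ∈ Z, n • v ∈ Z := by
    rintro n hn v ⟨hv1, ⟨⟨_, k, rfl⟩, hv⟩⟩
    refine ⟨fun e => hv1 (by rwa [smul_eq_iff_eq_inv_smul, smul_one] at e),
      ⟨_, ⟨⟨n, hn⟩ * k, rfl⟩⟩, smul_mem_subFix hv fun u hu => ?_⟩
    obtain ⟨u', hu', rfl⟩ := hu
    exact ⟨u', hu', by simp [MulAut.conj_apply, mul_assoc]⟩
  have hdvd := dvd_card_of_fpf A0 c.cover Z hZinv fun a _ ha v hv e => hv.1 (c.out a ha v e)
  rw [hZc] at hdvd
  have hpow : (1 + y) ^ Fintype.card ι ≤ Nat.card W := by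
    have h1 := prod_card_le (fun i : ι => subFix W (i : Subgroup A))
      (fun i => MonoidHom.mk' (fun v => ∏ a ∈ Finset.univ.filter (fun a : A => a ∈ (i : Subgroup A)), a • v)
        fun a b => by simp [Finset.prod_mul_distrib])
      (c.elem_cop (hUE.trans hER)) ?_ ?_
    · rw [Finset.prod_congr rfl fun i _ => hxcard i, Finset.prod_const, Finset.card_univ] at h1
      have : Nat.card (subFix W U) = 1 + y := by
        haveI := Fintype.ofFinite (subFix W U)
        have := Fintype.card_pos (α := subFix W U)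
        rw [hy, Nat.card_eq_fintype_card, Nat.card_eq_fintype_card, Fintype.card_subtype_compl,
          Fintype.card_subtype_eq]
        omega
      rwa [this] at h1
    · intro i v hv
      simp only [MonoidHom.mk'_apply]
      rw [Finset.prod_congr rfl fun a ha => hv a (Finset.mem_filter.1 ha).2, Finset.prod_const,
        ← Fintype.card_subtype, ← Nat.card_eq_fintype_card]
      exact congrArg _ (hιcard i)
    · intro i j hij v hv
      simp only [MonoidHom.mk'_apply]
      by_contra hne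
      refine hij (hdisj i j _ hne (fun u hu => ?_) (fun u hu => ?_))
      · rw [Finset.smul_prod']
        refine Finset.prod_bij' (fun a _ => u * a) (fun a _ => u⁻¹ * a) ?_ ?_ ?_ ?_ ?_
        · exact fun a ha => Finset.mem_filter.2 ⟨Finset.mem_univ _, mul_mem hu (Finset.mem_filter.1 ha).2⟩
        · exact fun a ha => Finset.mem_filter.2
            ⟨Finset.mem_univ _, mul_mem (inv_mem hu) (Finset.mem_filter.1 ha).2⟩
        · exact fun a _ => inv_mul_cancel_left u a
        · exact fun a _ => mul_inv_cancel_left u a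
        · exact fun a _ => (mul_smul u a v).symm
      · rw [Finset.smul_prod']
        refine Finset.prod_congr rfl fun a ha => ?_
        rw [← mul_smul, (hcomm u (hιE j hu) a (hιE i (Finset.mem_filter.1 ha).2)).eq, mul_smul, hv u hu]
  obtain ⟨k, hk⟩ := hdvd
  have hlt := c.small
  rcases Nat.lt_or_ge k 2 with hk2 | hk2
  · have hk1 : Fintype.card ι * y ≤ A0.index := by
      rw [hk]
      exact (Nat.mul_le_mul_left _ (Nat.le_of_lt_succ hk2)).trans (by rw [mul_one])
    have h1 := index_mul_card_le A0 c.cover (hER.trans Subgroup.le_normalizer) (hER.trans c.le) Z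
      hZinv (x := w1) ⟨hw1, i0, hUw⟩ fun a _ ha e => hw1 (c.out a ha w1 e)
    rw [hZc] at h1
    have h2 : Nat.card E ≤ Nat.card (E ⊓ stabilizer A w1 : Subgroup A) := by
      refine Nat.le_of_mul_le_mul_left ?_ (show 0 < A0.index by have := c.idx; omega)
      exact h1.trans (Nat.mul_le_mul_right _ hk1)
    have h3 := Subgroup.eq_of_le_of_card_ge (inf_le_left : E ⊓ stabilizer A w1 ≤ E) h2
    exact hw1 (c.fix_trivial hEne hnorm fun u hu =>
      show u ∈ stabilizer A w1 from (h3.ge hu).2)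
  · have h1 := sq_le_four_mul_pow y hl
    have h2 : 2 * A0.index ≤ Fintype.card ι * y := by
      rw [hk, mul_comm 2]; exact Nat.mul_le_mul_left _ hk2
    have h3 := Nat.pow_le_pow_left (Nat.add_le_add_right h2 2) 2
    nlinarith

/-- Abelian subgroups normalised by the normalizer of `R` are cyclic. -/
theorem Ctx.abel_cyclic (c : Ctx A W A0 r R) [Nontrivial W] (B : Subgroup A) (hBR : B ≤ R)
    (hnorm : ∀ n ∈ normalizer (R : Set A), ∀ u ∈ B, n * u * n⁻¹ ∈ B)
    (hcomm : ∀ a ∈ B, ∀ b ∈ B, Commute a b) : IsCyclic B := by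
  haveI := Fact.mk c.hr
  letI : CommGroup B :=
    { (inferInstance : Group B) with mul_comm := fun a b => Subtype.ext (hcomm a a.2 b b.2).eq }
  by_contra hnc
  obtain ⟨q, a, b, hq, ha1, haq, hbq, hba⟩ := Cfsg.Lib.Coprime.exists_two_independent_of_not_isCyclic hnc
  have hqr : q = r := by
    haveI := Fact.mk hq
    obtain ⟨k, hk⟩ := IsPGroup.iff_orderOf.1 (c.pgrp.to_le hBR) a
    have h1 : q ∣ r ^ k := by rw [← hk, orderOf_eq_prime haq ha1]
    exact (Nat.prime_dvd_prime_iff_eq hq c.hr).1 (hq.dvd_of_dvd_pow h1)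
  subst hqr
  obtain ⟨e, he⟩ := c.elem_cyclic
    { carrier := {x | x ∈ B ∧ x ^ q = 1}
      one_mem' := ⟨B.one_mem, one_pow _⟩
      mul_mem' := fun {x y} hx hy => ⟨B.mul_mem hx.1 hy.1, by
        rw [(hcomm x hx.1 y hy.1).mul_pow, hx.2, hy.2, one_mul]⟩
      inv_mem' := fun {x} hx => ⟨B.inv_mem hx.1, by rw [inv_pow, hx.2, inv_one]⟩ }
    (fun x hx => hBR hx.1) (fun n hn u hu => ⟨hnorm n hn u hu.1, by rw [conj_pow, hu.2]; simp⟩)
    (fun x hx y hy => hcomm x hx.1 y hy.1) (fun x hx => hx.2)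
  have hae : (a : A) ∈ zpowers e := he ⟨a.2, by simpa using congrArg Subtype.val haq⟩
  have hbe : (b : A) ∈ zpowers e := he ⟨b.2, by simpa using congrArg Subtype.val hbq⟩
  obtain ⟨i, hi⟩ := mem_zpowers_of_cyclic (B := zpowers e) c.hr hae hbe
    (by simpa using congrArg Subtype.val haq) (fun h => ha1 (Subtype.ext h))
    (by simpa using congrArg Subtype.val hbq)
  exact hba ⟨i, Subtype.ext ((SubgroupClass.coe_zpow a i).trans hi)⟩

/-- The element `z` with the properties used below. -/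
theorem Ctx.exists_z (c : Ctx A W A0 r R) [Nontrivial W] (hR : R ≠ ⊥) :
    ∃ z : A, z ∈ R ∧ z ≠ 1 ∧ z ^ r = 1 ∧ (∀ x ∈ R, Commute z x) ∧
      (∀ x ∈ R, (∀ y ∈ R, Commute x y) → x ^ r = 1 → x ∈ zpowers z) ∧
      (∀ n ∈ normalizer (R : Set A), n * z * n⁻¹ ∈ zpowers z) ∧
      ∀ w : W, z • w = w → w = 1 := by
  haveI := Fact.mk c.hr
  haveI : Nontrivial R := (nontrivial_iff_ne_bot R).2 hR
  haveI : Nontrivial (center R) := c.pgrp.center_nontrivial
  set Z0 := (center R).map R.subtype with hZ0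
  have hmem : ∀ x, x ∈ Z0 ↔ x ∈ R ∧ ∀ y ∈ R, Commute x y := by
    intro x
    constructor
    · rintro ⟨u, hu, rfl⟩
      exact ⟨u.2, fun y hy => (congrArg Subtype.val (mem_center_iff.1 hu ⟨y, hy⟩)).symm⟩
    · rintro ⟨hx, h⟩
      exact ⟨⟨x, hx⟩, mem_center_iff.2 fun y => Subtype.ext (h y y.2).symm.eq, rfl⟩
  have hnorm : ∀ n ∈ normalizer (R : Set A), ∀ u ∈ Z0, n * u * n⁻¹ ∈ Z0 := by
    intro n hn u hu
    rw [hmem] at hu ⊢
    refine ⟨(mem_normalizer_iff.1 hn u).1 hu.1, fun y hy => ?_⟩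
    have h := (hu.2 _ ((mem_normalizer_iff''.1 hn y).1 hy)).map (MulAut.conj n).toMonoidHom
    simpa [mul_assoc] using h
  haveI := c.abel_cyclic Z0 (fun x hx => ((hmem x).1 hx).1) hnorm
    fun a ha b hb => ((hmem a).1 ha).2 b ((hmem b).1 hb).1
  obtain ⟨u, hu⟩ : ∃ u : center R, orderOf u = r := by
    refine exists_prime_orderOf_dvd_card' r ?_
    obtain ⟨k, hk⟩ := IsPGroup.iff_card.1 (c.pgrp.to_subgroup (center R))
    rcases k with _ | k
    · have := Finite.one_lt_card (α := center R)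
      rw [pow_zero] at hk
      omega
    · rw [hk]; exact dvd_pow_self r (Nat.succ_ne_zero k)
  set z : A := ((u : R) : A) with hz
  have hzo : orderOf z = r := by rw [hz, Subgroup.orderOf_coe, Subgroup.orderOf_coe, hu]
  have hzZ : z ∈ Z0 := ⟨u, u.2, rfl⟩
  have hz1 : z ≠ 1 := fun h => by rw [h, orderOf_one] at hzo; exact c.hr.one_lt.ne hzo
  have hzr : z ^ r = 1 := by rw [← hzo]; exact pow_orderOf_eq_one z
  have hnz : ∀ n ∈ normalizer (R : Set A), n * z * n⁻¹ ∈ zpowers z := fun n hn =>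
    mem_zpowers_of_cyclic c.hr hzZ (hnorm n hn z hzZ) hzr hz1 (by rw [conj_pow, hzr]; simp)
  refine ⟨z, ((hmem z).1 hzZ).1, hz1, hzr, ((hmem z).1 hzZ).2, fun x hx hxc hxr =>
    mem_zpowers_of_cyclic c.hr hzZ ((hmem x).2 ⟨hx, hxc⟩) hzr hz1 hxr, hnz, fun w hw => ?_⟩
  refine c.fix_trivial (U := zpowers z) (zpowers_ne_bot.2 hz1) (fun n hn v hv => ?_)
    fun v hv => zpowers_le.2 (show z ∈ stabilizer A w from hw) hv
  obtain ⟨i, rfl⟩ := hv
  show n * z ^ i * n⁻¹ ∈ _
  rw [← conj_zpow]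
  exact zpow_mem (hnz n hn) i

/-- No element of `R` fixes a nontrivial point. -/
theorem Ctx.no_fixed (c : Ctx A W A0 r R) [Nontrivial W] {g : A} (hg : g ∈ R) (hgr : g ^ r = 1)
    (hg1 : g ≠ 1) {w0 : W} (hw0 : w0 ≠ 1) : g • w0 ≠ w0 := by
  classical
  intro hgw
  haveI := Fintype.ofFinite A
  haveI := Fintype.ofFinite W
  haveI := Fact.mk c.hr
  obtain ⟨z, hzR, hz1, hzr, hzc, hzcen, hzn, hzfp⟩ := c.exists_z (fun h => hg1 (by
    rw [h, mem_bot] at hg; exact hg))
  set N := normalizer (R : Set A) with hN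
  have hzpR : zpowers z ≤ R := zpowers_le.2 hzR
  have hzp : ∀ v ∈ zpowers z, ∀ x ∈ R, Commute v x := by
    rintro _ ⟨i, rfl⟩ x hx; exact (hzc x hx).zpow_left i
  have hzord : orderOf z = r := orderOf_eq_prime hzr hz1
  have hzpow : ∀ v ∈ zpowers z, v ^ r = 1 := by
    rintro _ ⟨i, rfl⟩
    show (z ^ i) ^ r = 1
    rw [← zpow_natCast (z ^ i), ← zpow_mul, mul_comm, zpow_mul, zpow_natCast, hzr, one_zpow]
  have hzgen : ∀ v ∈ zpowers z, v ≠ 1 → z ∈ zpowers v := by
    intro v hv hv1
    have : zpowers v = zpowers z := Subgroup.eq_of_le_of_card_ge (zpowers_le.2 hv) (by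
      rw [Nat.card_zpowers, Nat.card_zpowers, hzord, orderOf_eq_prime (hzpow v hv) hv1])
    rw [this]; exact mem_zpowers z
  have hfpz : ∀ v ∈ zpowers z, v ≠ 1 → ∀ w : W, v • w = w → w = 1 := fun v hv hv1 w hw =>
    hzfp w (zpowers_le.2 (show v ∈ stabilizer A w from hw) (hzgen v hv hv1))
  have hgz : g ∉ zpowers z := fun h => hw0 (hfpz g h hg1 w0 hgw)
  have hnz' : ∀ n ∈ N, ∀ v ∈ zpowers z, n * v * n⁻¹ ∈ zpowers z := by
    rintro n hn _ ⟨i, rfl⟩
    show n * z ^ i * n⁻¹ ∈ _
    rw [← conj_zpow]; exact zpow_mem (hzn n hn) i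
  -- the subgroup `E0`
  set P : Subgroup A := if r = 2 then zpowers z else ⊥ with hP
  have hPz : P ≤ zpowers z := by
    rw [hP]; split_ifs
    · exact le_rfl
    · exact bot_le
  have hcomm_mul : ∀ a ∈ R, ∀ b ∈ R, ∀ x ∈ R, ⁅a, x⁆ ∈ zpowers z → ⁅b, x⁆ ∈ zpowers z →
      ⁅a * b, x⁆ = ⁅a, x⁆ * ⁅b, x⁆ := by
    intro a ha b _ x hx h1 h2
    rw [← (hzp _ h2 ⁅a, x⁆ (hzpR h1)).eq]
    have h3 := hzp _ h2 a ha
    calc ⁅a * b, x⁆ = a * ⁅b, x⁆ * (x * a⁻¹ * x⁻¹) := by simp only [commutatorElement_def]; group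
      _ = ⁅b, x⁆ * ⁅a, x⁆ := by rw [← h3.eq]; simp only [commutatorElement_def]; group
  let E0 : Subgroup A :=
    { carrier := {a | a ∈ R ∧ (∀ x ∈ R, ⁅a, x⁆ ∈ zpowers z) ∧ a ^ r ∈ P}
      one_mem' := ⟨R.one_mem, fun x _ => by simp [commutatorElement_def], by
        rw [one_pow]; exact P.one_mem⟩
      mul_mem' := fun {a b} ha hb => by
        refine ⟨R.mul_mem ha.1 hb.1, fun x hx => ?_, ?_⟩
        · rw [hcomm_mul a ha.1 b hb.1 x hx (ha.2.1 x hx) (hb.2.1 x hx)]
          exact mul_mem (ha.2.1 x hx) (hb.2.1 x hx)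
        · have hc := hb.2.1 a ha.1
          rw [mul_pow_of_central (c := ⁅b, a⁆) (by rw [commutatorElement_def]; group)
            (hzp _ hc a ha.1) (hzp _ hc b hb.1)]
          refine P.mul_mem (P.mul_mem ?_ ha.2.2) hb.2.2
          by_cases h2 : r = 2
          · rw [hP, if_pos h2]; exact Subgroup.pow_mem _ hc _
          · obtain ⟨d, hd⟩ := c.hr.dvd_choose_self two_ne_zero
              (lt_of_le_of_ne c.hr.two_le (Ne.symm h2))
            rw [hd, pow_mul, hzpow _ hc, one_pow]
            exact P.one_mem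
      inv_mem' := fun {a} ha => by
        refine ⟨R.inv_mem ha.1, fun x hx => ?_, by rw [inv_pow]; exact P.inv_mem ha.2.2⟩
        have h1 := ha.2.1 x hx
        have e : ⁅a⁻¹, x⁆ = ⁅a, x⁆⁻¹ := by
          have h3 := hzp _ (inv_mem h1) a ha.1
          calc ⁅a⁻¹, x⁆ = a⁻¹ * (⁅a, x⁆⁻¹ * a) := by simp only [commutatorElement_def]; group
            _ = _ := by rw [h3.eq]; group
        rw [e]; exact inv_mem h1 }
  have hE0R : E0 ≤ R := fun a ha => ha.1
  have hE0n : ∀ n ∈ N, ∀ a ∈ E0, n * a * n⁻¹ ∈ E0 := by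
    intro n hn a ha
    refine ⟨(mem_normalizer_iff.1 hn a).1 ha.1, fun x hx => ?_, ?_⟩
    · have h := hnz' n hn _ (ha.2.1 _ ((mem_normalizer_iff''.1 hn x).1 hx))
      convert h using 1
      simp only [commutatorElement_def]; group
    · rw [conj_pow]
      have h2 : a ^ r ∈ P := ha.2.2
      rw [hP] at h2 ⊢
      split_ifs at h2 ⊢ with h
      · exact hnz' n hn _ h2
      · rw [mem_bot] at h2; rw [h2]; simp
  have hzE : z ∈ E0 := ⟨hzR, fun x hx => by
    rw [commutatorElement_eq_one_iff_mul_comm.2 (hzc x hx).eq]; exact one_mem _, by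
    rw [hzr]; exact P.one_mem⟩
  by_cases hab : ∀ a ∈ E0, ∀ b ∈ E0, Commute a b
  · -- `E0` is abelian
    haveI := c.abel_cyclic E0 hE0R hE0n hab
    have hsmall : ∀ v ∈ E0, v ^ r = 1 → v ∈ zpowers z := fun v hv hvr =>
      mem_zpowers_of_cyclic c.hr hzE hv hzr hz1 hvr
    have hcyc : ∀ B : Subgroup R, B.Normal → IsMulCommutative B → IsCyclic B := by
      intro B hBn hBc
      by_contra hnc
      letI : CommGroup B :=
        { (inferInstance : Group B) with mul_comm := fun a b => hBc.is_comm.comm a b }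
      obtain ⟨q, a, b, hq, ha1, haq, hbq, hba⟩ :=
        Cfsg.Lib.Coprime.exists_two_independent_of_not_isCyclic hnc
      obtain rfl : q = r := by
        haveI := Fact.mk hq
        obtain ⟨k, hk⟩ := IsPGroup.iff_orderOf.1 (c.pgrp.to_subgroup B) a
        have h1 : q ∣ r ^ k := by rw [← hk, orderOf_eq_prime haq ha1]
        exact (Nat.prime_dvd_prime_iff_eq hq c.hr).1 (hq.dvd_of_dvd_pow h1)
      have hBcomm : ∀ x ∈ B, ∀ y ∈ B, Commute x y := fun x hx y hy =>
        congrArg Subtype.val (mul_comm (⟨x, hx⟩ : B) ⟨y, hy⟩)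
      let Ω : Subgroup R :=
        { carrier := {x | x ∈ B ∧ x ^ q = 1}
          one_mem' := ⟨B.one_mem, one_pow _⟩
          mul_mem' := fun {x y} hx hy => ⟨B.mul_mem hx.1 hy.1, by
            rw [(hBcomm x hx.1 y hy.1).mul_pow, hx.2, hy.2, one_mul]⟩
          inv_mem' := fun {x} hx => ⟨B.inv_mem hx.1, by rw [inv_pow, hx.2, inv_one]⟩ }
      haveI : Ω.Normal := ⟨fun x hx y => ⟨hBn.conj_mem x hx.1 y, by rw [conj_pow, hx.2]; simp⟩⟩
      haveI : ((zpowers z).subgroupOf R).Normal := ⟨fun x hx y => by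
        rw [mem_subgroupOf] at hx ⊢
        simp only [Subgroup.coe_mul, InvMemClass.coe_inv]
        rw [← (hzp _ hx y y.2).eq, mul_inv_cancel_right]
        exact hx⟩
      have hΩ : ¬ Ω ≤ (zpowers z).subgroupOf R := by
        intro h
        have haz : (((a : B) : R) : A) ∈ zpowers z := h ⟨a.2, by simpa using congrArg Subtype.val haq⟩
        have hbz : (((b : B) : R) : A) ∈ zpowers z := h ⟨b.2, by simpa using congrArg Subtype.val hbq⟩
        have := mem_zpowers_of_cyclic c.hr haz hbz (hzpow _ haz)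
          (fun e => ha1 (Subtype.ext (Subtype.ext e))) (hzpow _ hbz)
        obtain ⟨i, hi⟩ := this
        refine hba ⟨i, Subtype.ext (Subtype.ext ?_)⟩
        show ((((a : B) ^ i : B) : R) : A) = _
        rw [SubgroupClass.coe_zpow, SubgroupClass.coe_zpow]
        exact hi
      obtain ⟨v, hv, hvz, hvc⟩ := exists_central_mod c.pgrp ((zpowers z).subgroupOf R) Ω hΩ
      refine hvz (hsmall (v : A) ⟨v.2, fun x hx => ?_, ?_⟩ (by simpa using congrArg Subtype.val hv.2))
      · have := hvc ⟨x, hx⟩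
        rw [mem_subgroupOf] at this
        simpa [commutatorElement_def] using this
      · rw [show (v : A) ^ q = 1 from (SubgroupClass.coe_pow v q).symm.trans (congrArg Subtype.val hv.2)]
        exact P.one_mem
    by_cases hRc : IsCyclic R
    · haveI := hRc
      exact hgz (mem_zpowers_of_cyclic c.hr hzR hg hzr hz1 hgr)
    obtain ⟨h2, a, M, hao, hidx, hout⟩ :=
      Cfsg.Lib.CyclicNormalAbelian.two_group_data r c.pgrp hcyc hRc
    subst h2
    set a' : A := (a : A) with ha'
    have hao' : orderOf a' = 2 ^ (M + 2) := by rw [ha', Subgroup.orderOf_coe, hao]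
    set j := a' ^ 2 ^ (M + 1) with hj
    set i := a' ^ 2 ^ M with hi
    have hi2 : i ^ 2 = j := by rw [hi, hj, ← pow_mul, ← pow_succ]
    have hj2 : j ^ 2 = 1 := by
      rw [hj, ← pow_mul, ← pow_succ, show M + 1 + 1 = M + 2 from rfl, ← hao', pow_orderOf_eq_one]
    have hj1 : j ≠ 1 := fun e => by
      have := orderOf_dvd_of_pow_eq_one (x := a') e
      rw [hao', Nat.pow_dvd_pow_iff_le_right (by norm_num)] at this
      omega
    have hRdec : ∀ x ∈ R, x ∈ zpowers a' ∨ ∃ k : ℕ, x * a' * x⁻¹ = a' ^ k ∧ k % 4 = 3 := by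
      intro x hx
      by_cases h : (⟨x, hx⟩ : R) ∈ zpowers a
      · left
        obtain ⟨l, hl⟩ := h
        exact ⟨l, (SubgroupClass.coe_zpow a l).symm.trans (congrArg Subtype.val hl)⟩
      · obtain ⟨-, k, hk, -, hk4⟩ := hout _ h
        exact Or.inr ⟨k, by simpa using congrArg Subtype.val hk, hk4⟩
    have hjc : ∀ x ∈ R, Commute j x := by
      intro x hx
      rcases hRdec x hx with ⟨l, rfl⟩ | ⟨k, hk, hk4⟩
      · exact (Commute.refl a').pow_left _ |>.zpow_right l
      · have : x * j * x⁻¹ = j := by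
          rw [hj, ← conj_pow, hk, ← pow_mul, mul_comm, pow_mul, ← hj,
            show k = 2 * (k / 2) + 1 by omega, pow_succ, pow_mul, hj2, one_pow, one_mul]
        exact (show x * j = j * x by rw [← mul_inv_eq_iff_eq_mul]; exact this).symm
    have haR : a' ∈ R := a.2
    have hjz : j = z := by
      have hjR : j ∈ R := R.pow_mem haR _
      obtain ⟨l, hl⟩ := hzcen j hjR hjc hj2
      change z ^ l = j at hl
      rcases Int.emod_two_eq_zero_or_one l with h | h
      · exact absurd (by rw [← hl, ← zpow_mod_orderOf, hzord]; simp [h]) hj1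
      · rw [← hl, ← zpow_mod_orderOf, hzord]; simp [h]
    have hnotA : ∀ x : A, x ^ 2 = 1 → x ∉ zpowers z → x ∉ zpowers a' := fun x hx2 hxz hxa =>
      hxz (mem_zpowers_of_cyclic c.hr (B := zpowers a') (hjz ▸ Subgroup.pow_mem _ (mem_zpowers a') _)
        hxa hzr hz1 hx2)
    set Z : Set W := {w | w ≠ 1 ∧ ∃ x ∈ R, x ^ 2 = 1 ∧ x ∉ zpowers z ∧ x • w = w} with hZ
    have hZinv : ∀ n ∈ N, ∀ w ∈ Z, n • w ∈ Z := by
      rintro n hn w ⟨hw1, x, hx, hx2, hxz, hxw⟩
      refine ⟨fun e => hw1 (by rwa [smul_eq_iff_eq_inv_smul, smul_one] at e), n * x * n⁻¹,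
        (mem_normalizer_iff.1 hn x).1 hx, by rw [conj_pow, hx2]; simp, fun h => hxz ?_, ?_⟩
      · have := hnz' n⁻¹ (inv_mem hn) _ h
        simpa [mul_assoc] using this
      · rw [mul_smul, mul_smul, inv_smul_smul, hxw]
    have h1 := index_mul_card_le A0 c.cover (Subgroup.le_normalizer (H := R)) c.le Z hZinv
      (x := w0) ⟨hw0, g, hg, hgr, hgz, hgw⟩ fun b _ hb e => hw0 (c.out b hb w0 e)
    have hidx' : Nat.card R = 2 * Nat.card (zpowers a') := by
      rw [Nat.card_zpowers, ha', Subgroup.orderOf_coe, ← Nat.card_zpowers,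
        ← hidx, Subgroup.index_mul_card]
    have h2 : Nat.card (R ⊓ stabilizer A w0 : Subgroup A) ≤ 2 := by
      have hdis : ∀ x ∈ zpowers a', x • w0 = w0 → x = 1 := by
        intro x hx hxw
        by_contra hx1
        haveI := Fintype.ofFinite (zpowers x)
        obtain ⟨k, hk⟩ := IsPGroup.iff_orderOf.1 c.pgrp ⟨x, zpowers_le.2 haR hx⟩
        rw [Subgroup.orderOf_mk] at hk
        rcases k with _ | k
        · exact hx1 (orderOf_eq_one_iff.1 (by rw [hk, pow_zero]))
        · have e1 : orderOf (x ^ 2 ^ k) = 2 := by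
            rw [orderOf_pow_of_dvd (by positivity) (hk ▸ pow_dvd_pow 2 (Nat.le_succ k)), hk, pow_succ]
            simp
          have e2 : (x ^ 2 ^ k) ^ 2 = 1 := by
            have := pow_orderOf_eq_one (x ^ 2 ^ k)
            rwa [e1] at this
          have e3 : x ^ 2 ^ k ∈ zpowers z := by
            by_contra hn
            exact hnotA _ e2 hn (Subgroup.pow_mem _ hx _)
          exact hw0 (hfpz _ e3 (fun e => by rw [e, orderOf_one] at e1; omega) w0
            ((stabilizer A w0).pow_mem (show x ∈ stabilizer A w0 from hxw) _))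
      have : Nat.card (R ⊓ stabilizer A w0 : Subgroup A) ≤ Nat.card (R ⧸ zpowers a) := by
        refine Nat.card_le_card_of_injective
          (fun x => (QuotientGroup.mk ⟨(x : A), x.2.1⟩ : R ⧸ zpowers a)) fun x y hxy => ?_
        rw [QuotientGroup.eq] at hxy
        obtain ⟨l, hl⟩ := hxy
        have e : (x : A)⁻¹ * (y : A) ∈ zpowers a' :=
          ⟨l, (SubgroupClass.coe_zpow a l).symm.trans (congrArg Subtype.val hl)⟩
        have e' := hdis _ e ((stabilizer A w0).mul_mem ((stabilizer A w0).inv_mem x.2.2) y.2.2)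
        exact Subtype.ext (inv_mul_eq_one.1 e')
      rwa [← Subgroup.index, hidx] at this
    -- each noncentral involution fixes at most `m` points
    have h3 : ∀ x ∈ R, x ^ 2 = 1 → x ∉ zpowers z → Nat.card (fixSub W x) ≤ A0.index := by
      intro x hx hx2 hxz
      obtain ⟨k, hk, hk4⟩ := (hRdec x hx).resolve_left (hnotA x hx2 hxz)
      have hi4 : i ^ 4 = 1 := by rw [show 4 = 2 * 2 from rfl, pow_mul, hi2, hj2]
      have hxi : x * i * x⁻¹ = i ^ 3 := by
        rw [hi, ← conj_pow, hk, ← pow_mul, mul_comm, pow_mul, ← hi,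
          show k = 4 * (k / 4) + 3 by omega, pow_add, pow_mul, hi4, one_pow, one_mul]
      have hzx := hzc x hx
      have hixi : i * x * i⁻¹ = z * x := by
        have e1 : i ^ 3 = i⁻¹ := eq_inv_of_mul_eq_one_left (by rw [← pow_succ, hi4])
        rw [e1] at hxi
        have e2 : x * i = i⁻¹ * x := mul_inv_eq_iff_eq_mul.1 hxi
        calc i * x * i⁻¹ = i * (i * (i⁻¹ * x)) * i⁻¹ := by group
          _ = i ^ 2 * (x * i) * i⁻¹ := by rw [← e2, sq]; group
          _ = z * x := by rw [hi2, hjz]; group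
      have hs : Nat.card (fixSub W (z * x)) = Nat.card (fixSub W x) := Nat.card_congr
        { toFun := fun v => ⟨i⁻¹ • (v : W), by
            have h' : (i * x * i⁻¹) • (v : W) = v := by rw [hixi]; exact v.2
            rw [mul_smul, mul_smul, smul_eq_iff_eq_inv_smul] at h'
            exact mem_fixSub.2 h'⟩
          invFun := fun v => ⟨i • (v : W), by
            rw [mem_fixSub, ← hixi, mul_smul, mul_smul, inv_smul_smul, v.2]⟩
          left_inv := fun v => Subtype.ext (smul_inv_smul _ _)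
          right_inv := fun v => Subtype.ext (inv_smul_smul _ _) }
      have hzxz : (z * x) ^ 2 = 1 := by rw [hzx.mul_pow, hzr, hx2, one_mul]
      have hkill : ∀ v : W, x • v = v → (z * x) • v = v → v = 1 := fun v h1 h2 => by
        rw [mul_smul, h1] at h2
        exact hzfp v h2
      have hinj : Nat.card (fixSub W x) * Nat.card (fixSub W (z * x)) ≤ Nat.card W := by
        rw [← Nat.card_prod]
        refine Nat.card_le_card_of_injective
          (fun p : fixSub W x × fixSub W (z * x) => (p.1 : W) * (p.2 : W)) fun p q h => ?_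
        simp only at h
        have hd : (p.1 : W) / q.1 = (q.2 : W) / p.2 := by
          rw [div_eq_div_iff_mul_eq_mul, h, mul_comm]
        have e1 : (p.1 : W) / q.1 = 1 := hkill _ (by rw [smul_div', p.1.2, q.1.2]) (by
          rw [hd, smul_div', q.2.2, p.2.2])
        rw [div_eq_one] at e1
        refine Prod.ext (Subtype.ext e1) (Subtype.ext ?_)
        simp only [e1] at h
        exact mul_left_cancel h
      rw [hs] at hinj
      have := c.small
      by_contra hlt
      have h5 : (A0.index + 1) ^ 2 ≤ Nat.card (fixSub W x) * Nat.card (fixSub W x) := by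
        rw [sq]; exact Nat.mul_le_mul (by omega) (by omega)
      omega
    set O := Finset.univ.filter fun x : A => x ∈ R ∧ x ^ 2 = 1 ∧ x ∉ zpowers z with hO
    have h4 : O.card ≤ Nat.card (zpowers a') := by
      have hd : O.card + Nat.card (zpowers a') ≤ Nat.card R := by
        rw [Nat.card_eq_fintype_card, Nat.card_eq_fintype_card, Fintype.card_subtype,
          Fintype.card_subtype, ← Finset.card_union_of_disjoint]
        · refine Finset.card_le_card fun x hx => Finset.mem_filter.2 ⟨Finset.mem_univ _, ?_⟩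
          rcases Finset.mem_union.1 hx with h | h
          · exact (Finset.mem_filter.1 h).2.1
          · exact zpowers_le.2 haR (Finset.mem_filter.1 h).2
        · rw [Finset.disjoint_left]
          intro x h h'
          obtain ⟨-, -, hx2, hxz⟩ := Finset.mem_filter.1 h
          exact hnotA x hx2 hxz (Finset.mem_filter.1 h').2
      omega
    have h5 : Nat.card Z ≤ O.card * (A0.index - 1) := by
      rw [Nat.card_coe_set_eq, Set.ncard_eq_toFinset_card' Z]
      refine le_trans (Finset.card_le_card (t := O.biUnion fun x =>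
        (Finset.univ.filter fun w : W => x • w = w).erase 1) fun w hw => ?_) (Finset.card_biUnion_le_card_mul _ _ _ ?_)
      · obtain ⟨hw1, x, hx, hx2, hxz, hxw⟩ := Set.mem_toFinset.1 hw
        refine Finset.mem_biUnion.2 ⟨x, Finset.mem_filter.2 ⟨Finset.mem_univ _, hx, hx2, hxz⟩, ?_⟩
        exact Finset.mem_erase.2 ⟨hw1, Finset.mem_filter.2 ⟨Finset.mem_univ _, hxw⟩⟩
      · intro x hx
        obtain ⟨-, hxR, hx2, hxz⟩ := Finset.mem_filter.1 hx
        have hmem : (1 : W) ∈ Finset.univ.filter fun w : W => x • w = w :=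
          Finset.mem_filter.2 ⟨Finset.mem_univ _, smul_one x⟩
        refine le_trans (le_of_eq (Finset.card_erase_of_mem hmem)) ?_
        refine Nat.sub_le_sub_right ?_ 1
        refine le_trans (le_of_eq ?_) (h3 x hxR hx2 hxz)
        rw [Nat.card_eq_fintype_card]
        exact (Fintype.card_subtype _).symm
    have hmpos := c.idx
    have h6 : A0.index * Nat.card R ≤ (A0.index - 1) * Nat.card R := by
      calc A0.index * Nat.card R ≤ Nat.card Z * 2 := h1.trans (Nat.mul_le_mul_left _ h2)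
        _ ≤ O.card * (A0.index - 1) * 2 := Nat.mul_le_mul_right _ h5
        _ ≤ Nat.card (zpowers a') * (A0.index - 1) * 2 :=
            Nat.mul_le_mul_right _ (Nat.mul_le_mul_right _ h4)
        _ = _ := by rw [hidx']; ring
    have := Nat.le_of_mul_le_mul_right h6 Nat.card_pos
    omega
  -- `E0` is not abelian
  push Not at hab
  obtain ⟨a, ha, b, hb, hnab⟩ := hab
  set z0 : E0 := ⟨z, hzE⟩ with hz0
  have hmemz : ∀ x : E0, (x : A) ∈ zpowers z ↔ x ∈ zpowers z0 := by
    intro x
    constructor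
    · rintro ⟨l, hl⟩; exact ⟨l, Subtype.ext ((SubgroupClass.coe_zpow z0 l).trans hl)⟩
    · rintro ⟨l, rfl⟩; exact ⟨l, (SubgroupClass.coe_zpow z0 l).symm⟩
  let C0 : Subgroup A := (center E0).map E0.subtype
  have hC0 : ∀ x, x ∈ C0 ↔ x ∈ E0 ∧ ∀ y ∈ E0, Commute x y := by
    intro x
    constructor
    · rintro ⟨u, hu, rfl⟩
      exact ⟨u.2, fun y hy => (congrArg Subtype.val (mem_center_iff.1 hu ⟨y, hy⟩)).symm⟩
    · rintro ⟨hx, h⟩
      exact ⟨⟨x, hx⟩, mem_center_iff.2 fun y => Subtype.ext (h y y.2).symm.eq, rfl⟩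
  haveI := c.abel_cyclic C0 (fun x hx => hE0R ((hC0 x).1 hx).1) (fun n hn u hu => by
      rw [hC0] at hu ⊢
      refine ⟨hE0n n hn u hu.1, fun y hy => ?_⟩
      have h0 := hE0n n⁻¹ (inv_mem hn) y hy
      have h := (hu.2 _ h0).map (MulAut.conj n).toMonoidHom
      simpa [mul_assoc] using h)
    fun x hx y hy => ((hC0 x).1 hx).2 y ((hC0 y).1 hy).1
  have hsym : Sym r E0 W z0 :=
    { hr := c.hr
      cop := c.cop
      nt := inferInstance
      zr := Subtype.ext hzr
      zc := fun x => Subtype.ext (hzc x (hE0R x.2)).eq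
      fpf := fun w hw => hzfp w hw
      comm := fun x y => (hmemz _).1 (x.2.2.1 y (hE0R y.2))
      pw := fun x => by
        have := x.2.2.2
        rw [hP] at this
        split_ifs with h
        · rw [if_pos h] at this; exact (hmemz _).1 this
        · rw [if_neg h, mem_bot] at this; rw [mem_bot]; exact Subtype.ext this
      cen := fun x hxr hxc => (hmemz x).1 (mem_zpowers_of_cyclic c.hr (B := C0)
        ((hC0 z).2 ⟨hzE, fun y hy => hzc y (hE0R hy)⟩)
        ((hC0 x).2 ⟨x.2, fun y hy => congrArg Subtype.val (hxc ⟨y, hy⟩)⟩)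
        hzr hz1 (congrArg Subtype.val hxr))
      faith := fun e he => Subtype.ext (c.faith e he) }
  by_cases hex : ∃ x, Good r z0 x
  · obtain ⟨t, O, ⟨w, hw1, hwt⟩, hO, hO2⟩ := hsym.exists_bound hex
    have hst : ∀ v : W, Nat.card (E0 ⊓ stabilizer A v : Subgroup A) = Nat.card (stabilizer E0 v) :=
      fun v => Nat.card_congr
        { toFun := fun x => ⟨⟨x.1, x.2.1⟩, x.2.2⟩
          invFun := fun x => ⟨x.1.1, x.1.2, x.2⟩
          left_inv := fun x => rfl
          right_inv := fun x => rfl }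
    have hinv : ∀ n ∈ N, ∀ v ∈ bigSet E0 W t, n • v ∈ bigSet E0 W t := by
      rintro n hn v ⟨hv1, hvt⟩
      refine ⟨fun e => hv1 (by rwa [smul_eq_iff_eq_inv_smul, smul_one] at e), ?_⟩
      rw [← hvt]
      exact Nat.card_congr
        { toFun := fun x => ⟨⟨n⁻¹ * (x.1 : A) * n, by
              have := hE0n n⁻¹ (inv_mem hn) _ x.1.2
              rwa [inv_inv] at this⟩, by
              show (n⁻¹ * (x.1 : A) * n) • v = v
              rw [mul_smul, mul_smul, inv_smul_eq_iff]
              exact x.2⟩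
          invFun := fun x => ⟨⟨n * (x.1 : A) * n⁻¹, hE0n n hn _ x.1.2⟩, by
              show (n * (x.1 : A) * n⁻¹) • (n • v) = n • v
              rw [mul_smul, mul_smul, inv_smul_smul]
              exact congrArg (n • ·) x.2⟩
          left_inv := fun x => Subtype.ext (Subtype.ext (by simp [mul_assoc]))
          right_inv := fun x => Subtype.ext (Subtype.ext (by simp [mul_assoc])) }
    have h1 := index_mul_card_le A0 c.cover (hE0R.trans Subgroup.le_normalizer) (hE0R.trans c.le)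
      (bigSet E0 W t) hinv (x := w) ⟨hw1, hwt⟩ fun d _ hd e => hw1 (c.out d hd w e)
    rw [hst, hwt] at h1
    have h2 : A0.index ≤ O := by
      refine Nat.le_of_mul_le_mul_right ?_ (Nat.card_pos (α := E0))
      rw [mul_comm O]
      exact h1.trans hO
    have := Nat.pow_le_pow_left (Nat.succ_le_succ h2) 2
    exact absurd c.small (not_lt.2 (this.trans hO2))
  -- the quaternion case
  have hnogood : ∀ x ∈ E0, x ^ r = 1 → x ∈ zpowers z := fun x hx hxr => by
    by_contra hn
    exact hex ⟨⟨x, hx⟩, Subtype.ext hxr, fun h => hn ((hmemz _).2 h)⟩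
  have hr2 : r = 2 := by
    by_contra h
    have hone : ∀ x ∈ E0, x ∈ zpowers z := fun x hx => hnogood x hx (by
      have := hx.2.2
      rwa [hP, if_neg h, mem_bot] at this)
    exact hnab (hzp a (hone a ha) b (hE0R hb))
  subst hr2
  have hsq : ∀ x ∈ E0, x ∉ zpowers z → x ^ 2 = z := by
    intro x hx hxz
    obtain ⟨l, hl⟩ := hPz hx.2.2
    change z ^ l = x ^ 2 at hl
    rcases Int.emod_two_eq_zero_or_one l with h | h
    · exact absurd (hnogood x hx (by rw [← hl, ← zpow_mod_orderOf, hzord]; simp [h])) hxz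
    · rw [← hl, ← zpow_mod_orderOf, hzord]; simp [h]
  have haz : a ∉ zpowers z := fun h => hnab (hzp a h b (hE0R hb))
  have hbz : b ∉ zpowers z := fun h => hnab (hzp b h a (hE0R ha)).symm
  have hcent : ∀ x ∈ E0, Commute x a → Commute x b → x ∈ zpowers z := by
    intro x hx hxa hxb
    by_contra hxz
    have h1 : x * a ∈ zpowers z := hnogood _ (mul_mem hx ha) (by
      rw [hxa.mul_pow, hsq x hx hxz, hsq a ha haz, ← sq, hzr])
    have h2 : Commute (x⁻¹ * (x * a)) b := hxb.inv_left.mul_left (hzp _ h1 b (hE0R hb))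
    rw [inv_mul_cancel_left] at h2
    exact hnab h2
  have hz2 : ∀ v ∈ zpowers z, v = 1 ∨ v = z := fun v hv => by
    obtain ⟨l, rfl⟩ := hv
    rcases Int.emod_two_eq_zero_or_one l with h | h <;> [left; right] <;> show z ^ l = _ <;>
      rw [← zpow_mod_orderOf, hzord] <;> simp [h]
  have hZ0 : ∀ x ∈ R, (∀ y ∈ R, Commute x y) → x ∈ zpowers z := by
    intro x hx hxc
    by_contra hxz
    obtain ⟨k, hk⟩ := IsPGroup.iff_orderOf.1 c.pgrp ⟨x, hx⟩
    rw [Subgroup.orderOf_mk] at hk
    rcases k with _ | _ | k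
    · exact hxz (by rw [show x = 1 from orderOf_eq_one_iff.1 (hk.trans (pow_zero 2))]; exact one_mem _)
    · exact hxz (hzcen x hx hxc (by rw [show 2 = orderOf x by rw [hk]; rfl, pow_orderOf_eq_one]))
    · set i := x ^ 2 ^ k with hi
      have hi2 : i ^ 2 ∈ zpowers z := hzcen _ (R.pow_mem (R.pow_mem hx _) _)
        (fun y hy => ((hxc y hy).pow_left _).pow_left _) (by
          rw [hi, ← pow_mul, ← pow_mul, show 2 ^ k * (2 * 2) = orderOf x by rw [hk]; ring,
            pow_orderOf_eq_one])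
      have hiE : i ∈ E0 := ⟨R.pow_mem hx _, fun y hy => by
        rw [commutatorElement_eq_one_iff_mul_comm.2 ((hxc y hy).pow_left _).eq]; exact one_mem _,
        by rw [hP, if_pos rfl]; exact hi2⟩
      have hiz := hcent i hiE ((hxc a (hE0R ha)).pow_left _) ((hxc b (hE0R hb)).pow_left _)
      have e := orderOf_dvd_of_pow_eq_one (x := x)
        (show x ^ (2 ^ k * 2) = 1 by rw [pow_mul, ← hi]; exact hzpow i hiz)
      rw [hk, ← pow_succ, Nat.pow_dvd_pow_iff_le_right (by norm_num)] at e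
      omega
  let X : Subgroup R :=
    { carrier := {x | Commute (x : A) a ∧ Commute (x : A) b}
      one_mem' := ⟨Commute.one_left a, Commute.one_left b⟩
      mul_mem' := fun {x y} hx hy => ⟨hx.1.mul_left hy.1, hx.2.mul_left hy.2⟩
      inv_mem' := fun {x} hx => ⟨hx.1.inv_left, hx.2.inv_left⟩ }
  haveI : X.Normal := ⟨fun x hx y => by
    have key : ∀ d ∈ E0, Commute (x : A) d → Commute ((y : A) * x * (y : A)⁻¹) d := by
      intro d hd hxd
      have h0 : (y : A)⁻¹ * d * y = d * ⁅d⁻¹, (y : A)⁻¹⁆ := by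
        rw [commutatorElement_def]; group
      have h1 : Commute (x : A) ((y : A)⁻¹ * d * y) := by
        rw [h0]
        exact hxd.mul_right (hzp _ ((inv_mem hd : d⁻¹ ∈ E0).2.1 _ (R.inv_mem y.2)) x x.2).symm
      have h2 := h1.map (MulAut.conj (y : A)).toMonoidHom
      simpa [mul_assoc] using h2
    exact ⟨key a ha hx.1, key b hb hx.2⟩⟩
  haveI : ((zpowers z).subgroupOf R).Normal := ⟨fun x hx y => by
    rw [mem_subgroupOf] at hx ⊢
    simp only [Subgroup.coe_mul, InvMemClass.coe_inv]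
    rw [← (hzp _ hx y y.2).eq, mul_inv_cancel_right]
    exact hx⟩
  have hX : X ≤ (zpowers z).subgroupOf R := by
    by_contra hX
    obtain ⟨v, hv, hvz, hvc⟩ := exists_central_mod c.pgrp _ X hX
    have hvc' : ∀ x ∈ R, ⁅(v : A), x⁆ ∈ zpowers z := fun x hx => by
      have := hvc ⟨x, hx⟩
      rw [mem_subgroupOf] at this
      simpa [commutatorElement_def] using this
    have hv2 : (v : A) ^ 2 ∈ zpowers z := hZ0 _ (R.pow_mem v.2 2) fun x hx => by
      rw [← commutatorElement_eq_one_iff_commute, sq,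
        hcomm_mul _ v.2 _ v.2 x hx (hvc' x hx) (hvc' x hx), ← sq]
      exact hzpow _ (hvc' x hx)
    exact hvz (hcent v ⟨v.2, hvc', by rw [hP, if_pos rfl]; exact hv2⟩ hv.1 hv.2)
  have hab' : ⁅b, a⁆ = z := (hz2 _ (hb.2.1 a (hE0R ha))).resolve_left fun e =>
    hnab (commutatorElement_eq_one_iff_commute.1 e).symm
  have hba' : ⁅a, b⁆ = z := (hz2 _ (ha.2.1 b (hE0R hb))).resolve_left fun e =>
    hnab (commutatorElement_eq_one_iff_commute.1 e)
  obtain ⟨e, he, hea, heb⟩ : ∃ e ∈ E0, ⁅e * g, a⁆ = 1 ∧ ⁅e * g, b⁆ = 1 := by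
    have hgk : ∀ d ∈ E0, ⁅g, d⁆ ∈ zpowers z := fun d hd => by
      rw [← commutatorElement_inv]; exact inv_mem (hd.2.1 g hg)
    have key : ∀ e ∈ E0, ∀ d ∈ E0, ⁅e * g, d⁆ = ⁅e, d⁆ * ⁅g, d⁆ := fun e he d hd =>
      hcomm_mul e (hE0R he) g hg d (hE0R hd) (he.2.1 d (hE0R hd)) (hgk d hd)
    have hzz : z * z = 1 := by rw [← sq]; exact hzr
    have haa : ⁅a, a⁆ = 1 := commutatorElement_self a
    have hbb : ⁅b, b⁆ = 1 := commutatorElement_self b
    rcases hz2 _ (hgk a ha) with h1 | h1 <;> rcases hz2 _ (hgk b hb) with h2 | h2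
    · exact ⟨1, E0.one_mem, by rw [one_mul, h1], by rw [one_mul, h2]⟩
    · exact ⟨a, ha, by rw [key a ha a ha, haa, h1, mul_one],
        by rw [key a ha b hb, hba', h2, hzz]⟩
    · exact ⟨b, hb, by rw [key b hb a ha, hab', h1, hzz],
        by rw [key b hb b hb, hbb, h2, mul_one]⟩
    · refine ⟨a * b, mul_mem ha hb, ?_, ?_⟩
      · rw [key _ (mul_mem ha hb) a ha,
          hcomm_mul a (hE0R ha) b (hE0R hb) a (hE0R ha) (ha.2.1 a (hE0R ha)) (hb.2.1 a (hE0R ha)),
          haa, hab', h1, one_mul, hzz]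
      · rw [key _ (mul_mem ha hb) b hb,
          hcomm_mul a (hE0R ha) b (hE0R hb) b (hE0R hb) (ha.2.1 b (hE0R hb)) (hb.2.1 b (hE0R hb)),
          hbb, hba', h2, mul_one, hzz]
  have hge : e * g ∈ zpowers z := hX (show (⟨e * g, R.mul_mem (hE0R he) hg⟩ : R) ∈ X from
    ⟨commutatorElement_eq_one_iff_commute.1 hea, commutatorElement_eq_one_iff_commute.1 heb⟩)
  have hzle : zpowers z ≤ E0 := zpowers_le.2 hzE
  have hgE : g ∈ E0 := by
    have := mul_mem (inv_mem he) (hzle hge)
    rwa [inv_mul_cancel_left] at this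
  exact hgz (hnogood g hgE hgr)

/-- Everything is fixed point free. -/
theorem fpf_of_index_large [A0.Normal] (hf : ∀ a : A, (∀ w : W, a • w = w) → a = 1)
    (hcop : (Nat.card A0).Coprime (Nat.card W)) (hout : ∀ a, a ∉ A0 → ∀ w : W, a • w = w → w = 1)
    (hm : 2 ≤ A0.index) (hn : Nat.card W < (A0.index + 1) ^ 2)
    (hirr : ∀ K : Subgroup W, K ≠ ⊥ → A0.index ∣ Nat.card K - 1 → K = ⊤) (a : A) (ha1 : a ≠ 1)
    (w : W) (haw : a • w = w) : w = 1 := by
  by_contra hw
  by_cases ha : a ∈ A0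
  swap
  · exact hw (hout a ha w haw)
  haveI : Nontrivial W := ⟨⟨w, 1, hw⟩⟩
  obtain ⟨r, hr, hdvd⟩ := Nat.exists_prime_and_dvd (fun h => ha1 (orderOf_eq_one_iff.1 h))
  haveI := Fact.mk hr
  set g : A := a ^ (orderOf a / r) with hg
  have hgo : orderOf g = r := by
    rw [hg, orderOf_pow_of_dvd (Nat.div_pos (Nat.le_of_dvd (orderOf_pos a) hdvd) hr.pos).ne'
      (Nat.div_dvd_of_dvd hdvd), Nat.div_div_self hdvd (orderOf_pos a).ne']
  have hgA : g ∈ A0 := A0.pow_mem ha _
  have hrW : r.Coprime (Nat.card W) := hcop.coprime_dvd_left (hdvd.trans (by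
    have := orderOf_dvd_natCard (⟨a, ha⟩ : A0)
    rwa [Subgroup.orderOf_mk] at this))
  obtain ⟨P, hP⟩ := IsPGroup.exists_le_sylow (p := r) (P := zpowers (⟨g, hgA⟩ : A0))
    (IsPGroup.of_card (n := 1) (by rw [Nat.card_zpowers, Subgroup.orderOf_mk, hgo, pow_one]))
  have hc : Ctx A W A0 r ((P : Subgroup A0).map A0.subtype) :=
    { faith := hf
      out := hout
      idx := hm
      small := hn
      irr := hirr
      hr := hr
      cop := hrW
      le := map_subtype_le _
      pgrp := P.2.map _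
      cover := Sylow.normalizer_sup_eq_top P }
  refine hc.no_fixed ⟨⟨g, hgA⟩, hP (mem_zpowers _), rfl⟩ ?_ ?_ hw ?_
  · rw [← hgo]; exact pow_orderOf_eq_one g
  · intro h
    have h' : g = 1 := h
    rw [h', orderOf_one] at hgo
    exact hr.one_lt.ne hgo
  · exact (stabilizer A w).pow_mem (show a ∈ stabilizer A w from haw) _

end Cfsg.Lib.DerSub
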