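import Cfsg.Agent.Lib.Perm.DerangementSubgroup.Linear
import Cfsg.Agent.Lib.Perm.DerangementSubgroup.Exceptional

/-!
# The index of the subgroup generated by the derangements

For a transitive group of degree `n` in which the subgroup generated by the derangements has index
`m ≥ 2` with `n < (m + 1) ^ 2`, there is a regular abelian normal subgroup and the group is a
primitive Frobenius group.
-/

set_option autoImplicit false
set_option linter.style.haveILetI false

namespace Cfsg.Lib.DerSub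

open MulAction Subgroup
open scoped Pointwise

universe u v

section Sylow

variable {G : Type u} [Group G] [Finite G] {q : ℕ} [Fact q.Prime]

/-- `A` is a Sylow `q`-subgroup of the subgroup `K`. -/
def IsSyl (q : ℕ) (A K : Subgroup G) : Prop :=
  A ≤ K ∧ IsPGroup q A ∧ ¬ q ∣ A.relIndex K

theorem exists_isSyl_ge {B K : Subgroup G} (hB : IsPGroup q B) (hBK : B ≤ K) :
    ∃ A, IsSyl q A K ∧ B ≤ A := by
  obtain ⟨P, hP⟩ := (IsPGroup.comap_of_injective hB K.subtype K.subtype_injective).exists_le_sylow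
  refine ⟨(P : Subgroup K).map K.subtype, ⟨map_subtype_le _, P.2.map _, ?_⟩,
    fun x hx => ⟨⟨x, hBK hx⟩, hP hx, rfl⟩⟩
  rw [Subgroup.relIndex, Subgroup.subgroupOf, Subgroup.comap_map_eq_self_of_injective K.subtype_injective]
  exact P.not_dvd_index

theorem IsSyl.card_le {A K B : Subgroup G} (hA : IsSyl q A K) (hB : IsPGroup q B) (hBK : B ≤ K)
    (hAB : A ≤ B) : A = B := by
  obtain ⟨k, hk⟩ := IsPGroup.iff_card.1 hB
  have h1 : A.relIndex B ∣ q ^ k := hk ▸ ⟨Nat.card A, by
    rw [Subgroup.relIndex, ← Nat.card_congr (Subgroup.subgroupOfEquivOfLe hAB).toEquiv]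
    exact ((A.subgroupOf B).index_mul_card).symm⟩
  obtain ⟨i, -, hi⟩ := (Nat.dvd_prime_pow Fact.out).1 h1
  rcases i with _ | i
  · rw [pow_zero, Subgroup.relIndex_eq_one] at hi
    exact le_antisymm hAB hi
  · exact absurd ((hi ▸ dvd_pow_self q (Nat.succ_ne_zero i) : q ∣ A.relIndex B).trans
      ⟨B.relIndex K, (Subgroup.relIndex_mul_relIndex A B K hAB hBK).symm⟩) hA.2.2

theorem IsSyl.exists_conj {A B K : Subgroup G} (hA : IsSyl q A K) (hB : IsSyl q B K) :
    ∃ k ∈ K, A.map (MulAut.conj k).toMonoidHom = B := by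
  obtain ⟨P, hP⟩ := (IsPGroup.comap_of_injective hA.2.1 K.subtype K.subtype_injective).exists_le_sylow
  obtain ⟨Q, hQ⟩ := (IsPGroup.comap_of_injective hB.2.1 K.subtype K.subtype_injective).exists_le_sylow
  have hPA : A = (P : Subgroup K).map K.subtype :=
    hA.card_le (P.2.map _) (map_subtype_le _) fun x hx => ⟨⟨x, hA.1 hx⟩, hP hx, rfl⟩
  have hQB : B = (Q : Subgroup K).map K.subtype :=
    hB.card_le (Q.2.map _) (map_subtype_le _) fun x hx => ⟨⟨x, hB.1 hx⟩, hQ hx, rfl⟩
  obtain ⟨k, hk⟩ := exists_smul_eq K P Q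
  refine ⟨k, k.2, ?_⟩
  rw [hPA, hQB, ← hk, Sylow.coe_subgroup_smul, Subgroup.map_map]
  ext x
  simp only [Subgroup.mem_map, Subgroup.mem_pointwise_smul_iff_inv_smul_mem]
  constructor
  · rintro ⟨y, hy, rfl⟩
    exact ⟨k * y * k⁻¹, by simpa [MulAut.smul_def, mul_assoc] using hy, by simp [MulAut.conj_apply]⟩
  · rintro ⟨y, hy, rfl⟩
    exact ⟨k⁻¹ * y * k, by simpa [MulAut.smul_def, mul_assoc] using hy,
      by simp [MulAut.conj_apply, mul_assoc]⟩

theorem IsSyl.map_conj {A K : Subgroup G} (hA : IsSyl q A K) (g : G) :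
    IsSyl q (A.map (MulAut.conj g).toMonoidHom) (K.map (MulAut.conj g).toMonoidHom) :=
  ⟨Subgroup.map_mono hA.1, hA.2.1.map _, by
    rw [Subgroup.relIndex_map_map_of_injective _ _ (MulAut.conj g).injective]; exact hA.2.2⟩

/-- The Frattini argument. -/
theorem IsSyl.frattini {A K : Subgroup G} (hA : IsSyl q A K) {g : G}
    (hg : g ∈ normalizer (K : Set G)) : ∃ k ∈ K, k * g ∈ normalizer (A : Set G) := by
  have hK : K.map (MulAut.conj g).toMonoidHom = K := by
    ext x
    constructor
    · rintro ⟨y, hy, rfl⟩; exact (mem_normalizer_iff.1 hg y).1 hy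
    · intro hx
      exact ⟨g⁻¹ * x * g, (mem_normalizer_iff''.1 hg x).1 hx, by simp [MulAut.conj_apply, mul_assoc]⟩
  have hB := hA.map_conj g
  rw [hK] at hB
  obtain ⟨k, hk, hkA⟩ := hB.exists_conj hA
  refine ⟨k, hk, ?_⟩
  have e : A.map (MulAut.conj (k * g)).toMonoidHom = A := by
    rw [Subgroup.map_map] at hkA
    conv_rhs => rw [← hkA]
    congr 1
    exact MonoidHom.ext fun x => by simp [MulAut.conj_apply, mul_assoc]
  rw [mem_normalizer_iff]
  intro x
  conv_rhs => rw [← e]
  exact (Subgroup.mem_map_iff_mem (f := (MulAut.conj (k * g)).toMonoidHom)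
    (MulAut.conj (k * g)).injective).symm

end Sylow

variable {G : Type u} [Group G] [Finite G] {Ω : Type v} [MulAction G Ω] [FaithfulSMul G Ω]
  [Fintype Ω]

/-- The subgroup generated by the derangements. -/
def derSub (G : Type u) (Ω : Type v) [Group G] [MulAction G Ω] : Subgroup G :=
  Subgroup.closure {g : G | ∀ ω : Ω, g • ω ≠ ω}

instance derSub_normal : (derSub G Ω).Normal := by
  refine ⟨fun x hx g => ?_⟩
  refine Subgroup.closure_induction (p := fun y _ => g * y * g⁻¹ ∈ derSub G Ω)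
    (fun y hy => Subgroup.subset_closure fun ω hω => ?_) (by simp [Subgroup.one_mem])
    (fun y z _ _ hy hz => ?_) (fun y _ hy => ?_) hx
  · refine hy (g⁻¹ • ω) ?_
    rw [mul_smul, mul_smul] at hω
    exact eq_inv_smul_iff.2 hω
  · have := Subgroup.mul_mem _ hy hz
    simpa [mul_assoc] using this
  · have := Subgroup.inv_mem _ hy
    simpa [mul_assoc] using this

/-- The derangement subgroup is transitive and every element outside it fixes exactly one point. -/
theorem derSub_basic [IsPretransitive G Ω] [Nonempty Ω] :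
    (∀ a b : Ω, ∃ d ∈ derSub G Ω, d • a = b) ∧
    ∀ x, x ∉ derSub G Ω → ∃ ω : Ω, x • ω = ω ∧ ∀ η : Ω, x • η = η → η = ω := by
  classical
  haveI := Fintype.ofFinite G
  set D := derSub G Ω
  haveI := Fintype.ofFinite D
  have h1 := Cfsg.Lib.Derange.sum_fx (G := G) (Ω := Ω) inferInstance
  have h2 := sum_card_fixedBy_eq_card_orbits_mul_card_group D Ω
  have e : ∀ x : D, Fintype.card (fixedBy Ω x) = Cfsg.Lib.Derange.fx Ω (x : G) := fun x => by
    rw [Cfsg.Lib.Derange.fx, Cfsg.Lib.Derange.fixSet, ← Fintype.card_subtype]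
    exact Fintype.card_congr (Equiv.refl _)
  rw [Finset.sum_congr rfl fun x _ => e x,
    ← Finset.sum_subtype (Finset.univ.filter fun g : G => g ∈ D) (fun g => by simp)
      (fun g => Cfsg.Lib.Derange.fx Ω g)] at h2
  have hout : ∀ x, x ∉ D → 1 ≤ Cfsg.Lib.Derange.fx Ω x := by
    intro x hx
    by_contra h
    refine hx (Subgroup.subset_closure fun ω hω => ?_)
    have : 0 < Cfsg.Lib.Derange.fx Ω x :=
      Finset.card_pos.2 ⟨ω, Cfsg.Lib.Derange.mem_fixSet.2 hω⟩
    omega
  have hsplit := Finset.sum_filter_add_sum_filter_not Finset.univ (fun g : G => g ∈ D)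
    (fun g => Cfsg.Lib.Derange.fx Ω g)
  rw [h1, h2] at hsplit
  have hcards := Finset.card_filter_add_card_filter_not (s := (Finset.univ : Finset G))
    (fun g : G => g ∈ D)
  rw [← Fintype.card_subtype (fun g : G => g ∈ D), Finset.card_univ] at hcards
  change Fintype.card D + _ = _ at hcards
  set X := Finset.univ.filter fun g : G => g ∉ D with hX
  have hge : X.card ≤ ∑ g ∈ X, Cfsg.Lib.Derange.fx Ω g := by
    rw [Finset.card_eq_sum_ones]
    exact Finset.sum_le_sum fun g hg => hout g (Finset.mem_filter.1 hg).2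
  set k := Fintype.card (Quotient (orbitRel D Ω)) with hk
  haveI : Nonempty (Quotient (orbitRel D Ω)) := ⟨Quotient.mk _ (Classical.arbitrary Ω)⟩
  have hk0 : 1 ≤ k := Fintype.card_pos
  have hk1 : k = 1 := by
    by_contra hne
    have : 2 * Fintype.card D ≤ k * Fintype.card D := Nat.mul_le_mul_right _ (by omega)
    have := Fintype.card_pos (α := D)
    omega
  refine ⟨fun a b => ?_, fun x hx => ?_⟩
  · haveI : Subsingleton (Quotient (orbitRel D Ω)) := Fintype.card_le_one_iff_subsingleton.1 hk1.le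
    haveI := (pretransitive_iff_subsingleton_quotient D Ω).2 ‹_›
    obtain ⟨d, hd⟩ := MulAction.exists_smul_eq D a b
    exact ⟨d, d.2, hd⟩
  · rw [hk1, one_mul] at hsplit
    have heq : ∑ g ∈ X, (1 : ℕ) = ∑ g ∈ X, Cfsg.Lib.Derange.fx Ω g := by
      rw [← Finset.card_eq_sum_ones]; omega
    have hx1 := (Finset.sum_eq_sum_iff_of_le (fun g hg => hout g (Finset.mem_filter.1 hg).2)).1 heq x
      (Finset.mem_filter.2 ⟨Finset.mem_univ _, hx⟩)
    obtain ⟨ω, hω⟩ := Finset.card_eq_one.1 hx1.symm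
    refine ⟨ω, Cfsg.Lib.Derange.mem_fixSet.1 (hω.symm ▸ Finset.mem_singleton_self ω), fun η hη => ?_⟩
    have := Cfsg.Lib.Derange.mem_fixSet.2 hη
    rw [hω, Finset.mem_singleton] at this
    exact this

/-- A subgroup covering `G / D` whose elements outside `D` all fix a point of `F` has a point
stabilizer that still covers. -/
theorem exists_cover_fixed (D : Subgroup G) [D.Normal] (hD : D ≠ ⊤)
    (huniq : ∀ x, x ∉ D → ∀ a b : Ω, x • a = a → x • b = b → a = b) {N : Subgroup G}
    (hN : N ⊔ D = ⊤) (F : Set Ω) (hF : ∀ x ∈ N, x ∉ D → ∃ η ∈ F, x • η = η) :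
    ∃ η ∈ F, (N ⊓ stabilizer G η) ⊔ D = ⊤ := by
  classical
  haveI := Fintype.ofFinite G
  set ND := Finset.univ.filter fun x : G => x ∈ N ∧ x ∉ D with hND
  set st : Ω → ℕ := fun η => (Finset.univ.filter fun x : G => x ∈ N ∧ x • η = η).card with hst
  set sd : Ω → ℕ := fun η => (ND.filter fun x => x • η = η).card with hsd
  set bd : Ω → ℕ := fun η => (Finset.univ.filter fun x : G => (x ∈ N ∧ x • η = η) ∧ x ∈ D).card with hbd
  have hsum : ∀ η, bd η + sd η = st η := by
    intro η
    simp only [hbd, hsd, hst]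
    rw [← Finset.card_filter_add_card_filter_not
      (s := Finset.univ.filter fun x : G => x ∈ N ∧ x • η = η) (fun x => x ∈ D), Finset.filter_filter]
    congr 1
    simp only [hND, Finset.filter_filter]
    exact congrArg Finset.card (by ext x; simp only [Finset.mem_filter]; tauto)
  have htot : ∀ O : Finset Ω, ∑ η ∈ O, sd η ≤ ND.card := by
    intro O
    simp only [hsd]
    rw [← Finset.card_biUnion]
    · exact Finset.card_le_card fun x hx => by
        obtain ⟨η, -, hx⟩ := Finset.mem_biUnion.1 hx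
        exact (Finset.mem_filter.1 hx).1
    · intro a _ b _ hab
      rw [Function.onFun, Finset.disjoint_left]
      intro x hx hx'
      exact hab (huniq x (Finset.mem_filter.1 (Finset.mem_filter.1 hx).1).2.2 a b
        (Finset.mem_filter.1 hx).2 (Finset.mem_filter.1 hx').2)
  have hhalf : ∀ η, sd η ≠ 0 → st η ≤ 2 * sd η := by
    intro η hη
    obtain ⟨x0, hx0⟩ := Finset.card_ne_zero.1 hη
    obtain ⟨hx0', hx0f⟩ := Finset.mem_filter.1 hx0
    obtain ⟨hx0N, hx0D⟩ := (Finset.mem_filter.1 hx0').2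
    have : bd η ≤ sd η := by
      refine Finset.card_le_card_of_injOn (fun d => x0 * d) (fun d hd => ?_) fun a _ b _ h => mul_left_cancel h
      obtain ⟨⟨hdN, hdf⟩, hdD⟩ := (Finset.mem_filter.1 hd).2
      refine Finset.mem_filter.2 ⟨Finset.mem_filter.2 ⟨Finset.mem_univ _, N.mul_mem hx0N hdN,
        fun h => hx0D ?_⟩, by rw [mul_smul, hdf, hx0f]⟩
      exact (D.mul_mem_cancel_right hdD).1 h
    have := hsum η
    omega
  set O : Ω → Finset Ω := fun η => (MulAction.orbit N η).toFinset with hO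
  have hconj : ∀ η, ∀ θ ∈ O η, sd θ = sd η := by
    intro η θ hθ
    obtain ⟨u, rfl⟩ := Set.mem_toFinset.1 hθ
    refine Finset.card_bij' (fun x _ => (u : G)⁻¹ * x * u) (fun x _ => (u : G) * x * (u : G)⁻¹)
      ?_ ?_ ?_ ?_
    · intro x hx
      simp only [hND, Finset.mem_filter, Finset.mem_univ, true_and] at hx ⊢
      refine ⟨⟨N.mul_mem (N.mul_mem (N.inv_mem u.2) hx.1.1) u.2, fun h => hx.1.2 ?_⟩, ?_⟩
      · have := Subgroup.Normal.conj_mem ‹D.Normal› _ h (u : G)
        simpa [mul_assoc] using this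
      · rw [mul_smul, mul_smul, inv_smul_eq_iff]; exact hx.2
    · intro x hx
      simp only [hND, Finset.mem_filter, Finset.mem_univ, true_and] at hx ⊢
      refine ⟨⟨N.mul_mem (N.mul_mem u.2 hx.1.1) (N.inv_mem u.2), fun h => hx.1.2 ?_⟩, ?_⟩
      · have := Subgroup.Normal.conj_mem ‹D.Normal› _ h (u : G)⁻¹
        simpa [mul_assoc] using this
      · show ((u : G) * x * (u : G)⁻¹) • ((u : G) • η) = (u : G) • η
        rw [mul_smul, mul_smul, inv_smul_smul, hx.2]
    · intro x _; group
    · intro x _; group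
  have hOst : ∀ η, (O η).card * st η = (Finset.univ.filter fun x : G => x ∈ N).card := by
    intro η
    have := MulAction.card_orbit_mul_card_stabilizer_eq_card_group N η
    simp only [hO, hst]
    rw [Set.toFinset_card, ← Fintype.card_subtype, ← Fintype.card_subtype]
    rw [show Fintype.card {x : G // x ∈ N} = Fintype.card N from rfl, ← this]
    congr 1
    exact Fintype.card_congr
      { toFun := fun x => ⟨⟨x.1, x.2.1⟩, x.2.2⟩
        invFun := fun x => ⟨x.1.1, x.1.2, x.2⟩
        left_inv := fun x => rfl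
        right_inv := fun x => rfl }
  have hOsum : ∀ η, ∑ θ ∈ O η, sd θ = (O η).card * sd η := fun η => by
    rw [Finset.sum_congr rfl (hconj η), Finset.sum_const, smul_eq_mul]
  obtain ⟨x, hxN, hxD⟩ : ∃ x ∈ N, x ∉ D := by
    by_contra! h
    exact hD (by rwa [sup_eq_right.2 h] at hN)
  obtain ⟨η0, hη0F, hη0⟩ := hF x hxN hxD
  have hsd0 : ∀ x : G, x ∈ N → x ∉ D → ∀ η, x • η = η → sd η ≠ 0 := fun x h1 h2 η h3 =>
    Finset.card_ne_zero.2 ⟨x, Finset.mem_filter.2 ⟨Finset.mem_filter.2 ⟨Finset.mem_univ _, h1, h2⟩, h3⟩⟩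
  refine ⟨η0, hη0F, ?_⟩
  -- everything outside `D` fixes a point of the orbit of `η0`
  have hfull : (O η0).card * sd η0 = ND.card := by
    refine le_antisymm ((hOsum η0).symm ▸ htot _) ?_
    by_contra hlt
    push Not at hlt
    obtain ⟨y, hy, hyO⟩ : ∃ y ∈ ND, ∀ θ ∈ O η0, y • θ ≠ θ := by
      by_contra! hall
      have : ND.card ≤ ∑ θ ∈ O η0, sd θ := by
        simp only [hsd]
        refine le_trans (Finset.card_le_card fun y hy => ?_) Finset.card_biUnion_le
        obtain ⟨θ, hθ, hyθ⟩ := hall y hy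
        exact Finset.mem_biUnion.2 ⟨θ, hθ, Finset.mem_filter.2 ⟨hy, hyθ⟩⟩
      rw [hOsum] at this
      omega
    obtain ⟨hyN, hyD⟩ := (Finset.mem_filter.1 hy).2
    obtain ⟨η1, -, hη1⟩ := hF y hyN hyD
    have hdisj : Disjoint (O η0) (O η1) := by
      rw [Finset.disjoint_left]
      intro θ h0 h1
      simp only [hO, Set.mem_toFinset] at h0 h1
      refine hyO η1 ?_ hη1
      simp only [hO, Set.mem_toFinset]
      rw [← orbit_eq_iff] at h0 h1 ⊢
      exact h1.symm.trans h0
    have h3 := htot (O η0 ∪ O η1)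
    rw [Finset.sum_union hdisj, hOsum, hOsum] at h3
    have h4 := hOst η0
    have h5 := hOst η1
    have h6 := Nat.mul_le_mul_left (O η0).card (hhalf η0 (hsd0 x hxN hxD η0 hη0))
    have h7 := Nat.mul_le_mul_left (O η1).card (hhalf η1 (hsd0 y hyN hyD η1 hη1))
    have h8 : ND.card < (Finset.univ.filter fun x : G => x ∈ N).card := by
      refine Finset.card_lt_card ((Finset.ssubset_iff_of_subset fun z hz =>
        Finset.mem_filter.2 ⟨Finset.mem_univ _, (Finset.mem_filter.1 hz).2.1⟩).2
        ⟨1, by simp [N.one_mem], by simp [hND, D.one_mem]⟩)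
    rw [mul_left_comm] at h6 h7
    omega
  -- so the stabilizer covers
  set K := N ⊓ stabilizer G η0 with hK
  have hKN : D.relIndex K = D.relIndex N := by
    have hKc : Nat.card K = st η0 := by
      simp only [hst]; rw [← Nat.card_eq_finsetCard]
      exact Nat.card_congr (Equiv.subtypeEquivRight fun x => by simp [hK])
    have hKDc : Nat.card (D ⊓ K : Subgroup G) = bd η0 := by
      rw [Nat.card_eq_fintype_card]
      refine (Fintype.card_subtype _).trans (congrArg Finset.card ?_)
      ext z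
      simp only [Finset.mem_filter, Finset.mem_univ, true_and, Subgroup.mem_inf]
      exact ⟨fun h => ⟨h.2, h.1⟩, fun h => ⟨h.2, h.1⟩⟩
    have hNc : Nat.card N = (Finset.univ.filter fun x : G => x ∈ N).card := by
      rw [Nat.card_eq_fintype_card]; exact Fintype.card_subtype _
    have hNDc : Nat.card (D ⊓ N : Subgroup G) + ND.card = Nat.card N := by
      rw [hNc, hND, ← Finset.card_filter_add_card_filter_not
        (s := Finset.univ.filter fun x : G => x ∈ N) (fun x => x ∈ D), Finset.filter_filter,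
        Finset.filter_filter, Nat.card_eq_fintype_card]
      congr 1
      refine (Fintype.card_subtype _).trans (congrArg Finset.card ?_)
      ext z
      simp only [Finset.mem_filter, Finset.mem_univ, true_and, Subgroup.mem_inf]
      exact and_comm
    have e1 : D.relIndex K * bd η0 = st η0 := by
      rw [← hKc, ← hKDc]
      have := (D.subgroupOf K).index_mul_card
      rwa [← Subgroup.relIndex, ← Subgroup.inf_subgroupOf_right,
        Nat.card_congr (Subgroup.subgroupOfEquivOfLe inf_le_right).toEquiv] at this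
    have e2 : D.relIndex N * Nat.card (D ⊓ N : Subgroup G) = Nat.card N := by
      have := (D.subgroupOf N).index_mul_card
      rwa [← Subgroup.relIndex, ← Subgroup.inf_subgroupOf_right,
        Nat.card_congr (Subgroup.subgroupOfEquivOfLe inf_le_right).toEquiv] at this
    have e3 : Nat.card (D ⊓ N : Subgroup G) = (O η0).card * bd η0 := by
      have h1 := hOst η0
      rw [← hsum η0, mul_add, hfull, ← hNc] at h1
      omega
    have e4 : D.relIndex N * ((O η0).card * bd η0) = D.relIndex K * ((O η0).card * bd η0) := by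
      rw [← e3, e2, hNc, ← hOst η0, e3, ← e1]; ring
    refine (Nat.eq_of_mul_eq_mul_right ?_ e4).symm
    rw [← e3]
    exact Nat.card_pos
  have h1 : D.relIndex (K ⊔ D) = D.index := by
    rw [Subgroup.relIndex_sup_right, hKN, relIndex_eq_of_cover D hN]
  have h2 := Subgroup.relIndex_mul_index (le_sup_right : D ≤ K ⊔ D)
  rw [h1] at h2
  exact Subgroup.index_eq_one.1 ((mul_eq_left₀ (Subgroup.index_ne_zero_of_finite)).1 h2)

/-- The data produced by a prime divisor of the degree. -/
theorem prime_step [IsPretransitive G Ω] (hm : 2 ≤ (derSub G Ω).index) {q : ℕ} [Fact q.Prime]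
    (hq : q ∣ Fintype.card Ω) :
    ∃ (ω : Ω) (S0 S T : Subgroup G) (c : ℕ),
      1 ≤ c ∧ q ^ c ∣ Fintype.card Ω ∧ (derSub G Ω).index ∣ q ^ c - 1 ∧
      S ≤ derSub G Ω ∧ IsPGroup q S ∧ S ≤ normalizer (S0 : Set G) ∧
      Nat.card S = q ^ c * Nat.card S0 ∧ Nat.card (orbit S ω) = q ^ c ∧
      IsSyl q S0 (derSub G Ω ⊓ stabilizer G ω) ∧ S0 ≤ S ∧
      T ≤ stabilizer G ω ∧ T ≤ normalizer (S : Set G) ∧ T ⊔ derSub G Ω = ⊤ := by
  classical
  haveI := Fintype.ofFinite G
  have hq1 : q.Prime := Fact.out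
  haveI : Nonempty Ω := Fintype.card_pos_iff.1 (Nat.pos_of_ne_zero fun h => by
    haveI : IsEmpty Ω := Fintype.card_eq_zero_iff.1 h
    haveI : Subsingleton G := ⟨fun a b => eq_of_smul_eq_smul (α := Ω) fun x => isEmptyElim x⟩
    have h1 : (derSub G Ω).index ≤ 1 := by
      rw [Subgroup.index]; exact Finite.card_le_one_iff_subsingleton.2 inferInstance
    omega)
  set D := derSub G Ω with hD
  obtain ⟨htr, hfix⟩ := derSub_basic (G := G) (Ω := Ω)
  have huniq : ∀ x, x ∉ D → ∀ a b : Ω, x • a = a → x • b = b → a = b := fun x hx a b ha hb => by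
    obtain ⟨w, -, hw⟩ := hfix x hx
    exact (hw a ha).trans (hw b hb).symm
  have hDtop : D ≠ ⊤ := fun h => by rw [h, Subgroup.index_top] at hm; omega
  set ω0 : Ω := Classical.arbitrary Ω
  obtain ⟨S0, hS0, -⟩ := exists_isSyl_ge (q := q) (B := (⊥ : Subgroup G))
    (IsPGroup.of_bot) (bot_le : ⊥ ≤ D ⊓ stabilizer G ω0)
  set M0 := normalizer (S0 : Set G) with hM0
  set P := M0 ⊓ D with hP
  set F : Set Ω := {η | ∀ s ∈ S0, s • η = η} with hF
  have hDω : ∀ (d : G) (η : Ω), (D ⊓ stabilizer G η).map (MulAut.conj d).toMonoidHom =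
      D ⊓ stabilizer G (d • η) := by
    intro d η
    ext x
    simp only [Subgroup.mem_map, Subgroup.mem_inf, mem_stabilizer_iff]
    constructor
    · rintro ⟨y, ⟨hyD, hy⟩, rfl⟩
      refine ⟨(inferInstance : D.Normal).conj_mem y hyD d, ?_⟩
      simp [MulAut.conj_apply, mul_smul, hy]
    · rintro ⟨hxD, hx⟩
      refine ⟨d⁻¹ * x * d, ⟨?_, ?_⟩, by simp [MulAut.conj_apply, mul_assoc]⟩
      · simpa using (inferInstance : D.Normal).conj_mem x hxD d⁻¹
      · rw [mul_smul, mul_smul, hx, inv_smul_smul]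
  -- `P` is transitive on `F`
  have hFinv : ∀ x ∈ M0, ∀ η ∈ F, x • η ∈ F := by
    intro x hx η hη s hs
    have := hη _ ((mem_normalizer_iff''.1 hx s).1 hs)
    rwa [mul_smul, mul_smul, inv_smul_eq_iff] at this
  have hω0 : ω0 ∈ F := fun s hs => (hS0.1 hs).2
  have hS0syl : ∀ η ∈ F, IsSyl q S0 (D ⊓ stabilizer G η) ∧ ∃ u ∈ P, u • ω0 = η := by
    intro η hη
    obtain ⟨d, hd, hdη⟩ := htr ω0 η
    have hB := hS0.map_conj d
    rw [hDω, hdη] at hB
    have hle : S0 ≤ D ⊓ stabilizer G η := fun s hs => ⟨(hS0.1 hs).1, hη s hs⟩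
    obtain ⟨B, hBsyl, hBge⟩ := exists_isSyl_ge hS0.2.1 hle
    obtain ⟨e, he, heB⟩ := hB.exists_conj hBsyl
    have hcard : Nat.card B ≤ Nat.card S0 := by
      rw [← heB, Nat.card_congr (Subgroup.equivMapOfInjective _ _ (MulAut.conj e).injective).toEquiv.symm,
        Nat.card_congr (Subgroup.equivMapOfInjective _ _ (MulAut.conj d).injective).toEquiv.symm]
    obtain rfl := Subgroup.eq_of_le_of_card_ge hBge hcard
    refine ⟨hBsyl, e * d, ⟨?_, D.mul_mem he.1 hd⟩, by rw [mul_smul, hdη]; exact he.2⟩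
    rw [Subgroup.map_map] at heB
    show e * d ∈ M0
    rw [hM0, mem_normalizer_iff]
    intro x
    conv_rhs => rw [← heB]
    have e1 : (MulAut.conj e).toMonoidHom.comp (MulAut.conj d).toMonoidHom =
        (MulAut.conj (e * d)).toMonoidHom :=
      MonoidHom.ext fun x => by simp [MulAut.conj_apply, mul_assoc]
    rw [e1]
    exact (Subgroup.mem_map_iff_mem (f := (MulAut.conj (e * d)).toMonoidHom)
      (MulAut.conj (e * d)).injective).symm
  -- `M0` covers, inside the stabilizer of `ω0`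
  have hM0cov : ∀ g : G, ∃ y ∈ M0, y • ω0 = ω0 ∧ g * y⁻¹ ∈ D := by
    intro g
    obtain ⟨d, hd, hdω⟩ := htr (g • ω0) ω0
    have hgn : d * g ∈ normalizer ((D ⊓ stabilizer G ω0 : Subgroup G) : Set G) := by
      rw [mem_normalizer_iff]
      intro x
      have hst : (d * g) • ω0 = ω0 := by rw [mul_smul]; exact hdω
      simp only [Subgroup.mem_inf, mem_stabilizer_iff]
      refine and_congr ⟨fun h => (inferInstance : D.Normal).conj_mem x h _, fun h => ?_⟩ ?_
      · simpa [mul_assoc] using (inferInstance : D.Normal).conj_mem _ h (d * g)⁻¹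
      · have hst' : (d * g)⁻¹ • ω0 = ω0 := inv_smul_eq_iff.2 hst.symm
        rw [mul_smul _ (d * g)⁻¹, hst', mul_smul (d * g) x]
        exact ⟨fun h => by rw [h, hst], fun h => MulAction.injective (d * g) (h.trans hst.symm)⟩
    obtain ⟨k, hk, hkn⟩ := hS0.frattini hgn
    refine ⟨k * (d * g), hkn, by rw [mul_smul, mul_smul, hdω]; exact hk.2, ?_⟩
    have e : g * (k * (d * g))⁻¹ = (k * d)⁻¹ := by group
    rw [e]
    exact D.inv_mem (D.mul_mem hk.1 hd)
  -- every element of `M0` outside `D` fixes a point of `F`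
  have hM0fix : ∀ x ∈ M0, x ∉ D → ∃ η ∈ F, x • η = η := by
    intro x hx hxD
    obtain ⟨y, hy, hyω, hxy⟩ := hM0cov x
    have hyD : y ∉ D := fun h => hxD (by simpa using D.mul_mem hxy h)
    set p0 := x * y⁻¹
    have hp0 : p0 ∈ P := ⟨M0.mul_mem hx (M0.inv_mem hy), hxy⟩
    choose u hu huη using fun η : F => (hS0syl η.1 η.2).2
    have hPy : ∀ p ∈ P, ∀ s ∈ P, p * s * (y * p⁻¹ * y⁻¹) ∈ P := by
      intro p hp s hs
      refine P.mul_mem (P.mul_mem hp hs) ⟨M0.mul_mem (M0.mul_mem hy (M0.inv_mem hp.1)) (M0.inv_mem hy), ?_⟩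
      exact (inferInstance : D.Normal).conj_mem _ (D.inv_mem hp.2) y
    let Φ : F × (P ⊓ stabilizer G ω0 : Subgroup G) → P := fun a =>
      ⟨u a.1 * (a.2 : G) * (y * (u a.1)⁻¹ * y⁻¹), hPy _ (hu a.1) _ a.2.2.1⟩
    have hΦy : ∀ a, (Φ a : G) * y = u a.1 * ((a.2 : G) * y) * (u a.1)⁻¹ := fun a => by
      simp [Φ, mul_assoc]
    have hΦfix : ∀ a, ((Φ a : G) * y) • (a.1 : Ω) = a.1 := fun a => by
      rw [hΦy, mul_smul, mul_smul, (inv_smul_eq_iff.2 (huη a.1).symm), mul_smul, hyω,
        show (a.2 : G) • ω0 = ω0 from a.2.2.2, huη]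
    have hinj : Function.Injective Φ := by
      intro a b hab
      have h1 : a.1 = b.1 := by
        refine Subtype.ext (huniq ((Φ a : G) * y) (fun h => hyD ?_) _ _ (hΦfix a) (hab ▸ hΦfix b))
        exact (D.mul_mem_cancel_left (Φ a).2.2).1 h
      refine Prod.ext h1 (Subtype.ext ?_)
      have h2 := hΦy a
      rw [hab, hΦy b, h1] at h2
      exact (mul_right_cancel (mul_left_cancel (mul_right_cancel h2))).symm
    have hcard : Nat.card (F × (P ⊓ stabilizer G ω0 : Subgroup G)) = Nat.card P := by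
      rw [Nat.card_prod]
      have h1 : (stabilizer G ω0).relIndex P = Nat.card F := by
        rw [Subgroup.relIndex, show (stabilizer G ω0).subgroupOf P = stabilizer P ω0 from
          Subgroup.ext fun _ => Iff.rfl, index_stabilizer, ← Nat.card_coe_set_eq]
        refine congrArg (fun s : Set Ω => Nat.card s) (Set.Subset.antisymm ?_ fun η hη => ?_)
        · rintro _ ⟨p, rfl⟩
          exact hFinv p p.2.1 ω0 hω0
        · obtain ⟨v, hv, hvη⟩ := (hS0syl η hη).2
          exact ⟨⟨v, hv⟩, hvη⟩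
      have h2 := ((stabilizer G ω0).subgroupOf P).index_mul_card
      rw [← Subgroup.relIndex, h1, ← Subgroup.inf_subgroupOf_left,
        Nat.card_congr (Subgroup.subgroupOfEquivOfLe inf_le_left).toEquiv] at h2
      exact h2
    haveI := Fintype.ofFinite F
    haveI := Fintype.ofFinite (P ⊓ stabilizer G ω0 : Subgroup G)
    haveI := Fintype.ofFinite P
    obtain ⟨a, ha⟩ := ((Fintype.bijective_iff_injective_and_card Φ).2 ⟨hinj, by
      rw [← Nat.card_eq_fintype_card, ← Nat.card_eq_fintype_card]; exact hcard⟩).2 ⟨p0, hp0⟩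
    refine ⟨a.1, a.1.2, ?_⟩
    have e : x = (Φ a : G) * y := by rw [ha]; simp [p0]
    rw [e]; exact hΦfix a
  -- the Sylow subgroup of `P`
  have hS0P : S0 ≤ P := fun s hs => ⟨Subgroup.le_normalizer hs, (hS0.1 hs).1⟩
  obtain ⟨S, hS, hS0S⟩ := exists_isSyl_ge hS0.2.1 hS0P
  set N := M0 ⊓ normalizer (S : Set G) with hN
  have hNcov : N ⊔ D = ⊤ := by
    refine top_le_iff.1 fun g _ => ?_
    obtain ⟨y, hy, -, hgy⟩ := hM0cov g
    obtain ⟨k, hk, hkn⟩ := hS.frattini (g := y) (by
      rw [mem_normalizer_iff]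
      intro x
      simp only [hP, Subgroup.mem_inf]
      refine and_congr ⟨fun h => M0.mul_mem (M0.mul_mem hy h) (M0.inv_mem hy), fun h => ?_⟩
        ⟨fun h => (inferInstance : D.Normal).conj_mem x h y, fun h => ?_⟩
      · simpa [mul_assoc] using M0.mul_mem (M0.mul_mem (M0.inv_mem hy) h) hy
      · simpa [mul_assoc] using (inferInstance : D.Normal).conj_mem _ h y⁻¹)
    have e : g = (g * y⁻¹ * k⁻¹) * (k * y) := by group
    rw [e]
    exact Subgroup.mul_mem _ (Subgroup.mem_sup_right (D.mul_mem hgy (D.inv_mem hk.2)))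
      (Subgroup.mem_sup_left ⟨M0.mul_mem hk.1 hy, hkn⟩)
  obtain ⟨ω, hω, hcov⟩ := exists_cover_fixed D hDtop huniq hNcov F fun x hx hxD => hM0fix x hx.1 hxD
  set T := N ⊓ stabilizer G ω with hT
  have hSstab : (stabilizer G ω) ⊓ S = S0 := by
    refine ((hS0syl ω hω).1.card_le (hS.2.1.to_le inf_le_right)
      (fun x hx => ⟨(hS.1 hx.2).2, hx.1⟩) fun s hs => ⟨hω s hs, hS0S hs⟩).symm
  obtain ⟨c, hc⟩ : ∃ c, (stabilizer G ω).relIndex S = q ^ c := by
    obtain ⟨k, hk⟩ := IsPGroup.iff_card.1 hS.2.1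
    obtain ⟨i, -, hi⟩ := (Nat.dvd_prime_pow hq1).1
      (show (stabilizer G ω).relIndex S ∣ q ^ k by rw [← hk]; exact Subgroup.index_dvd_card _)
    exact ⟨i, hi⟩
  have hScard : Nat.card S = q ^ c * Nat.card S0 := by
    rw [← hc, ← hSstab]
    have := ((stabilizer G ω).subgroupOf S).index_mul_card
    rw [← Subgroup.relIndex, ← Subgroup.inf_subgroupOf_right,
      Nat.card_congr (Subgroup.subgroupOfEquivOfLe inf_le_right).toEquiv] at this
    exact this.symm
  have horb : Nat.card (orbit S ω) = q ^ c := by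
    rw [← hc, Subgroup.relIndex, show (stabilizer G ω).subgroupOf S = stabilizer S ω from
      Subgroup.ext fun _ => Iff.rfl, index_stabilizer, Nat.card_coe_set_eq]
  -- sizes
  have hDcard : Fintype.card Ω * Nat.card (D ⊓ stabilizer G ω : Subgroup G) = Nat.card D := by
    have h1 : (stabilizer G ω).relIndex D = Fintype.card Ω := by
      rw [Subgroup.relIndex, show (stabilizer G ω).subgroupOf D = stabilizer D ω from
        Subgroup.ext fun _ => Iff.rfl, index_stabilizer, ← Nat.card_eq_fintype_card, ← Set.ncard_univ]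
      congr 1
      refine Set.eq_univ_of_forall fun η => ?_
      obtain ⟨d, hd, hdη⟩ := htr ω η
      exact ⟨⟨d, hd⟩, hdη⟩
    have := ((stabilizer G ω).subgroupOf D).index_mul_card
    rwa [← Subgroup.relIndex, h1, ← Subgroup.inf_subgroupOf_left,
      Nat.card_congr (Subgroup.subgroupOfEquivOfLe inf_le_left).toEquiv] at this
  have hsyl := (hS0syl ω hω).1
  have hS0card : Nat.card (D ⊓ stabilizer G ω : Subgroup G) =
      Nat.card S0 * S0.relIndex (D ⊓ stabilizer G ω) := by
    have := (S0.subgroupOf (D ⊓ stabilizer G ω)).index_mul_card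
    rw [← Subgroup.relIndex, Nat.card_congr (Subgroup.subgroupOfEquivOfLe hsyl.1).toEquiv] at this
    rw [mul_comm]; exact this.symm
  obtain ⟨a, ha⟩ := IsPGroup.iff_card.1 hS0.2.1
  have hc1 : 1 ≤ c := by
    by_contra hc0
    have hc0' : c = 0 := by omega
    have hSS0 : S0 = S := Subgroup.eq_of_le_of_card_ge hS0S (by rw [hScard, hc0']; simp)
    refine hS.2.2 ?_
    rw [← hSS0]
    have hdvd : q ^ (a + 1) ∣ Nat.card D := by
      rw [← hDcard, hS0card, ha, pow_succ, mul_comm (q ^ a) q]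
      exact mul_dvd_mul hq (dvd_mul_right _ _)
    have hS0D : S0 ≤ D := fun s hs => (hS0.1 hs).1
    have hcardD : Nat.card (S0.subgroupOf D) = q ^ a :=
      (Nat.card_congr (Subgroup.subgroupOfEquivOfLe hS0D).toEquiv).trans ha
    obtain ⟨K, hK, hle⟩ := Sylow.exists_subgroup_card_pow_succ hdvd hcardD
    set K' := K.map D.subtype with hK'
    have hK'c : Nat.card K' = q ^ (a + 1) := by
      rw [← hK]; exact (Nat.card_congr (K.equivMapOfInjective _ D.subtype_injective).toEquiv).symm
    have hS0K' : S0 ≤ K' := fun s hs => ⟨⟨s, hS0D hs⟩, hle hs, rfl⟩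
    have hidx : (S0.subgroupOf K').index = q := by
      have := (S0.subgroupOf K').index_mul_card
      rw [Nat.card_congr (Subgroup.subgroupOfEquivOfLe hS0K').toEquiv, ha, hK'c, pow_succ,
        mul_comm (q ^ a) q] at this
      exact Nat.eq_of_mul_eq_mul_right (pow_pos hq1.pos a) this
    have hnormal : (S0.subgroupOf K').Normal :=
      Subgroup.normal_of_index_eq_minFac_card (by
        rw [hidx, hK'c, Nat.pow_minFac (Nat.succ_ne_zero a), hq1.minFac_eq])
    have hK'P : K' ≤ P := le_inf ((Subgroup.normal_subgroupOf_iff_le_normalizer hS0K').1 hnormal)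
      (map_subtype_le K)
    have : q ∣ S0.relIndex P := by
      rw [← Subgroup.relIndex_mul_relIndex S0 K' P hS0K' hK'P, Subgroup.relIndex, hidx]
      exact dvd_mul_right _ _
    exact this
  have hqn : q ^ c ∣ Fintype.card Ω := by
    have h1 : Nat.card S ∣ Nat.card D := Subgroup.card_dvd_of_le fun s hs => (hS.1 hs).2
    rw [hScard, ← hDcard, hS0card, ← mul_assoc, mul_comm (Fintype.card Ω) (Nat.card S0), mul_assoc,
      mul_comm (q ^ c) (Nat.card S0)] at h1
    have h2 := Nat.dvd_of_mul_dvd_mul_left Nat.card_pos h1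
    exact (Nat.Coprime.pow_left c ((hq1.coprime_iff_not_dvd).2 hsyl.2.2)).dvd_of_dvd_mul_right h2
  have hdvd : D.index ∣ q ^ c - 1 := by
    have h1 := dvd_card_of_fpf D (N := T) hcov {η : Ω | η ∈ orbit S ω ∧ η ≠ ω} ?_ ?_
    · have e : Nat.card {η : Ω | η ∈ orbit S ω ∧ η ≠ ω} = q ^ c - 1 := by
        rw [← horb, Nat.card_coe_set_eq, Nat.card_coe_set_eq,
          ← Set.ncard_sdiff_singleton_of_mem (mem_orbit_self ω)]
        rfl
      rwa [e] at h1
    · rintro t ⟨⟨-, htS⟩, htω⟩ η ⟨⟨s, rfl⟩, hη⟩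
      refine ⟨⟨⟨t * s * t⁻¹, (mem_normalizer_iff.1 htS _).1 s.2⟩, ?_⟩, fun e => hη ?_⟩
      · show (t * (s : G) * t⁻¹) • ω = t • ((s : G) • ω)
        rw [mul_smul, mul_smul, inv_smul_eq_iff.2 (htω : t • ω = ω).symm]
      · exact MulAction.injective t (e.trans (htω : t • ω = ω).symm)
    · rintro t ⟨-, htω⟩ htD η ⟨-, hη⟩ e
      exact hη (huniq t htD η ω e htω)
  exact ⟨ω, S0, S, T, c, hc1, hqn, hdvd, fun s hs => (hS.1 hs).2, hS.2.1,
    fun s hs => (hS.1 hs).1, hScard, horb, hsyl, hS0S, inf_le_right,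
    fun t ht => ht.1.2, hcov⟩

/-- The main structure theorem. -/
theorem derSub_structure [IsPretransitive G Ω] (hm : 2 ≤ (derSub G Ω).index)
    (hn : Fintype.card Ω < ((derSub G Ω).index + 1) ^ 2) :
    ∃ S : Subgroup G, S.Normal ∧ S ≠ ⊥ ∧ IsMulCommutative S ∧ IsPreprimitive G Ω ∧
      (∃ g : G, g ≠ 1 ∧ ∃ ω : Ω, g • ω = ω) ∧
      ∀ g : G, g ≠ 1 → ∀ a b : Ω, g • a = a → g • b = b → a = b := by
  classical
  haveI := Fintype.ofFinite G
  set D := derSub G Ω with hD
  set m := D.index with hmdef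
  have hDtop : D ≠ ⊤ := fun h => by rw [hmdef, h, Subgroup.index_top] at hm; omega
  have hn2 : 2 ≤ Fintype.card Ω := by
    by_contra hlt
    haveI : Subsingleton Ω := Fintype.card_le_one_iff_subsingleton.1 (by omega)
    haveI : Subsingleton G := ⟨fun a b => eq_of_smul_eq_smul (α := Ω) fun x => Subsingleton.elim _ _⟩
    exact hDtop (Subsingleton.elim _ _)
  haveI : Nonempty Ω := Fintype.card_pos_iff.1 (by omega)
  haveI : Nontrivial Ω := Fintype.one_lt_card_iff_nontrivial.1 (by omega)
  obtain ⟨htr, hfix⟩ := derSub_basic (G := G) (Ω := Ω)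
  have huniq : ∀ x, x ∉ D → ∀ a b : Ω, x • a = a → x • b = b → a = b := fun x hx a b ha hb => by
    obtain ⟨w, -, hw⟩ := hfix x hx
    exact (hw a ha).trans (hw b hb).symm
  set q := (Fintype.card Ω).minFac with hqdef
  have hqp : q.Prime := Nat.minFac_prime (by omega)
  haveI := Fact.mk hqp
  obtain ⟨ω, S0, S, T0, c, hc1, hqn, hmq, hSD, hSp, hSN, hScard, horb, hsyl, -, hTω, hTS, hTcov⟩ :=
    prime_step (G := G) (Ω := Ω) hm (Nat.minFac_dvd (Fintype.card Ω))
  -- the degree is a prime power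
  have hbound : ∀ (p i : ℕ), p.Prime → m ∣ p ^ i - 1 → 1 ≤ i → m + 1 ≤ p ^ i := by
    intro p i hp hd hi
    have : 1 < p ^ i := Nat.one_lt_pow (by omega) hp.one_lt
    have := Nat.le_of_dvd (by omega) hd
    omega
  have hppow : ∀ {p : ℕ}, p.Prime → p ∣ Fintype.card Ω → p = q := by
    intro p hp hpn
    by_contra hne
    haveI := Fact.mk hp
    obtain ⟨-, -, -, -, i, hi1, hin, hmp, -⟩ := prime_step (G := G) (Ω := Ω) hm hpn
    have h1 : q ^ c * p ^ i ∣ Fintype.card Ω :=
      Nat.Coprime.mul_dvd_of_dvd_of_dvd (((Nat.coprime_primes hqp hp).2 (Ne.symm hne)).pow c i) hqn hin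
    have h2 := Nat.le_of_dvd (by omega) h1
    have h3 := Nat.mul_le_mul (hbound q c hqp hmq hc1) (hbound p i hp hmp hi1)
    rw [← sq] at h3
    omega
  obtain ⟨v, hv⟩ : ∃ v, Fintype.card Ω = q ^ v :=
    ⟨_, Nat.eq_prime_pow_of_unique_prime_dvd (by omega) hppow⟩
  have hfixdvd : ∀ (R : Subgroup G), R ≤ stabilizer G ω → R ⊔ D = ⊤ → D.index ∣ Fintype.card Ω - 1 := by
    intro R hR hRcov
    have h1 := dvd_card_of_fpf D (N := R) hRcov {η : Ω | η ≠ ω}
      (fun t ht η hη e => hη (MulAction.injective t (e.trans (hR ht : t • ω = ω).symm)))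
      (fun t ht htD η hη e => hη (huniq t htD η ω e (hR ht)))
    have e : Nat.card {η : Ω | η ≠ ω} = Fintype.card Ω - 1 := by
      rw [Nat.card_eq_fintype_card, ← Fintype.card_subtype_eq ω, ← Fintype.card_subtype_compl]
      rfl
    rwa [e] at h1
  have hmn : m ∣ q ^ v - 1 := by rw [← hv]; exact hfixdvd T0 hTω hTcov
  have hcv : c = v := by
    have hle : c ≤ v := (Nat.pow_le_pow_iff_right hqp.one_lt).1 (hv ▸ Nat.le_of_dvd (by omega) hqn)
    by_contra hne
    have := sq_le_pow_of_dvd (m := m) hqp.two_le hc1 (lt_of_le_of_ne hle hne) hmq hmn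
    omega
  -- `S` is regular
  have horbU : ∀ η : Ω, ∃ s : S, (s : G) • ω = η := by
    intro η
    have : orbit S ω = Set.univ := by
      refine Set.eq_of_subset_of_ncard_le (Set.subset_univ _) ?_
      rw [Set.ncard_univ, Nat.card_eq_fintype_card, hv, ← hcv, ← horb, Nat.card_coe_set_eq]
    obtain ⟨s, hs⟩ := (this.ge (Set.mem_univ η) : η ∈ orbit S ω)
    exact ⟨s, hs⟩
  have hS0 : S0 = ⊥ := (Subgroup.eq_bot_iff_forall _).2 fun x hx =>
    eq_of_smul_eq_smul (α := Ω) fun η => by
      obtain ⟨s, rfl⟩ := horbU η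
      rw [one_smul]
      have h1 : ((s : G)⁻¹ * x * s) • ω = ω := (hsyl.1 ((mem_normalizer_iff''.1 (hSN s.2) x).1 hx)).2
      rw [mul_smul, mul_smul, inv_smul_eq_iff] at h1
      exact h1
  have hSn : Nat.card S = Fintype.card Ω := by
    rw [hScard, hS0, Subgroup.card_bot, mul_one, hcv]; exact hv.symm
  have hqD : ¬ q ∣ Nat.card (D ⊓ stabilizer G ω : Subgroup G) := by
    have := hsyl.2.2
    rwa [hS0, Subgroup.relIndex_bot_left] at this
  haveI := Fintype.ofFinite S
  have hbij : Function.Bijective fun s : S => (s : G) • ω :=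
    (Fintype.bijective_iff_surjective_and_card _).2
      ⟨horbU, by rw [← Nat.card_eq_fintype_card]; exact hSn⟩
  have hreg : ∀ x ∈ S, x ≠ 1 → ∀ η : Ω, x • η ≠ η := by
    intro x hx hx1 η hη
    obtain ⟨s, rfl⟩ := horbU η
    have h1 := @hbij.1 ⟨(s : G)⁻¹ * x * s, S.mul_mem (S.mul_mem (S.inv_mem s.2) hx) s.2⟩ 1 (by
      show ((s : G)⁻¹ * x * s) • ω = ((1 : S) : G) • ω
      rw [mul_smul, mul_smul, hη, inv_smul_smul, Subgroup.coe_one, one_smul])
    have h2 : (s : G)⁻¹ * x * s = 1 := congrArg Subtype.val h1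
    refine hx1 ?_
    calc x = s * ((s : G)⁻¹ * x * s) * (s : G)⁻¹ := by group
      _ = 1 := by rw [h2]; group
  have hSne : S ≠ ⊥ := fun h => by rw [h, Subgroup.card_bot] at hSn; omega
  set T := normalizer (S : Set G) ⊓ stabilizer G ω with hT
  have hTcov' : T ⊔ D = ⊤ := top_le_iff.1 (hTcov.ge.trans (sup_le_sup_right (le_inf hTS hTω) _))
  have hout : ∀ t ∈ T, t ∉ D → ∀ s ∈ S, t * s * t⁻¹ = s → s = 1 := by
    intro t ht htD s hs hts
    by_contra hs1
    have h1 : t • (s • ω) = s • ω := by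
      conv_rhs => rw [← hts]
      rw [mul_smul, mul_smul, inv_smul_eq_iff.2 (ht.2 : t • ω = ω).symm]
    exact hreg s hs hs1 ω (huniq t htD _ _ h1 ht.2)
  have hinv : ∀ K : Subgroup G, K ≤ S → K ≠ ⊥ → (∀ t ∈ T, ∀ k ∈ K, t * k * t⁻¹ ∈ K) → K = S := by
    intro K hKS hK hKinv
    have hdvd := dvd_card_of_fpf D (N := T) hTcov' {η : Ω | (∃ k ∈ K, k • ω = η) ∧ η ≠ ω}
      (fun t ht η hη => by
        obtain ⟨⟨k, hk, rfl⟩, hne⟩ := hη
        refine ⟨⟨t * k * t⁻¹, hKinv t ht k hk, ?_⟩, fun e => hne ?_⟩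
        · rw [mul_smul, mul_smul, inv_smul_eq_iff.2 (ht.2 : t • ω = ω).symm]
        · exact MulAction.injective t (e.trans (ht.2 : t • ω = ω).symm))
      (fun t ht htD η hη e => hη.2 (huniq t htD η ω e ht.2))
    have e : Nat.card {η : Ω | (∃ k ∈ K, k • ω = η) ∧ η ≠ ω} = Nat.card K - 1 := by
      haveI := Fintype.ofFinite K
      rw [Nat.card_eq_fintype_card (α := K), ← Fintype.card_subtype_eq (1 : K),
        ← Fintype.card_subtype_compl, ← Nat.card_eq_fintype_card]
      refine Nat.card_congr (Equiv.ofBijective (fun k : {k : K // ¬ k = 1} =>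
        (⟨(k.1 : G) • ω, ⟨k.1, k.1.2, rfl⟩, hreg _ (hKS k.1.2) (fun e => k.2 (Subtype.ext e)) ω⟩ :
          {η : Ω | (∃ k ∈ K, k • ω = η) ∧ η ≠ ω})) ⟨?_, ?_⟩).symm
      · intro a b hab
        exact Subtype.ext (Subtype.ext (congrArg (fun z : S => (z : G))
          (@hbij.1 ⟨a.1, hKS a.1.2⟩ ⟨b.1, hKS b.1.2⟩ (congrArg Subtype.val hab))))
      · rintro ⟨η, ⟨k, hk, rfl⟩, hne⟩
        exact ⟨⟨⟨k, hk⟩, fun e => hne (by rw [show k = 1 from congrArg Subtype.val e, one_smul])⟩, rfl⟩
    rw [e] at hdvd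
    obtain ⟨a, ha⟩ := IsPGroup.iff_card.1 (hSp.to_le hKS)
    have ha0 : 0 < a := Nat.pos_of_ne_zero fun h0 => hK (Subgroup.card_eq_one.1 (by rw [ha, h0, pow_zero]))
    rw [ha] at hdvd
    refine Subgroup.eq_of_le_of_card_ge hKS ?_
    rw [hSn, hv, ha]
    refine Nat.pow_le_pow_right hqp.pos ?_
    by_contra hlt
    have := sq_le_pow_of_dvd (m := m) hqp.two_le ha0 (by omega) hdvd hmn
    omega
  -- `S` is abelian
  have hScomm : ∀ a ∈ S, ∀ b ∈ S, a * b = b * a := by
    haveI : Nontrivial S := (Subgroup.nontrivial_iff_ne_bot S).2 hSne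
    haveI : Nontrivial (center S) := hSp.center_nontrivial
    have hK := hinv ((center S).map S.subtype) (map_subtype_le _) (fun h => by
      obtain ⟨x, hx⟩ := exists_ne (1 : center S)
      have : ((x : S) : G) ∈ (center S).map S.subtype := ⟨x, x.2, rfl⟩
      rw [h, Subgroup.mem_bot] at this
      exact hx (Subtype.ext (Subtype.ext this))) (by
      rintro t ht _ ⟨k, hk, rfl⟩
      refine ⟨⟨t * k * t⁻¹, (mem_normalizer_iff.1 ht.1 k).1 k.2⟩, mem_center_iff.2 fun y => ?_, rfl⟩
      refine Subtype.ext ?_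
      have h1 := congrArg Subtype.val (mem_center_iff.1 hk
        ⟨t⁻¹ * y * t, (mem_normalizer_iff''.1 ht.1 y).1 y.2⟩)
      simp only [Subgroup.coe_mul] at h1 ⊢
      calc (y : G) * (t * k * t⁻¹) = t * ((t⁻¹ * y * t) * k) * t⁻¹ := by group
        _ = t * (k * (t⁻¹ * y * t)) * t⁻¹ := by rw [h1]
        _ = t * k * t⁻¹ * y := by group)
    intro a ha b hb
    obtain ⟨a', ha', rfl⟩ := hK.ge ha
    exact (congrArg Subtype.val (mem_center_iff.1 ha' ⟨b, hb⟩)).symm
  -- `T` is fixed point free on `S`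
  have hTfpf : ∀ t ∈ T, t ≠ 1 → ∀ s ∈ S, t * s * t⁻¹ = s → s = 1 := by
    letI : CommGroup S :=
      { (inferInstance : Group S) with mul_comm := fun a b => Subtype.ext (hScomm a a.2 b b.2) }
    letI : MulDistribMulAction T S :=
      { smul := fun t s => ⟨(t : G) * s * (t : G)⁻¹, (mem_normalizer_iff.1 t.2.1 s).1 s.2⟩
        one_smul := fun s => Subtype.ext (by
          show ((1 : T) : G) * s * ((1 : T) : G)⁻¹ = s
          simp)
        mul_smul := fun a b s => Subtype.ext (by
          show ((a * b : T) : G) * s * ((a * b : T) : G)⁻¹ = (a : G) * ((b : G) * s * (b : G)⁻¹) * (a : G)⁻¹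
          simp [mul_assoc])
        smul_one := fun a => Subtype.ext (by
          show (a : G) * ((1 : S) : G) * (a : G)⁻¹ = ((1 : S) : G)
          simp)
        smul_mul := fun a x y => Subtype.ext (by
          show (a : G) * ((x * y : S) : G) * (a : G)⁻¹ =
            ((a : G) * x * (a : G)⁻¹) * ((a : G) * y * (a : G)⁻¹)
          simp [mul_assoc]) }
    have hsmul : ∀ (t : T) (s : S), ((t • s : S) : G) = (t : G) * s * (t : G)⁻¹ := fun t s => rfl
    have hfix : ∀ (t : T) (s : S), t • s = s ↔ (t : G) * s * (t : G)⁻¹ = s := fun t s =>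
      ⟨fun h => (hsmul t s).symm.trans (congrArg Subtype.val h), fun h => Subtype.ext ((hsmul t s).trans h)⟩
    set A0 := D.subgroupOf T with hA0
    have hidx : A0.index = m := relIndex_eq_of_cover D hTcov'
    intro t ht ht1 s hs hts
    by_contra hs1
    refine hs1 (congrArg Subtype.val (fpf_of_index_large (A0 := A0) (W := S) ?_ ?_ ?_ (by omega) ?_ ?_
      (⟨t, ht⟩ : T) (fun e => ht1 (congrArg Subtype.val e)) ⟨s, hs⟩ ((hfix _ _).2 hts)))
    · intro a ha
      refine Subtype.ext (eq_of_smul_eq_smul (α := Ω) fun η => ?_)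
      obtain ⟨x, rfl⟩ := horbU η
      conv_rhs => rw [← (hfix a x).1 (ha x)]
      rw [mul_smul ((a : G) * x), inv_smul_eq_iff.2 (a.2.2 : (a : G) • ω = ω).symm, mul_smul,
        Subgroup.coe_one, one_smul]
    · have h1 : Nat.card A0 ∣ Nat.card (D ⊓ stabilizer G ω : Subgroup G) := by
        rw [hA0, ← Subgroup.inf_subgroupOf_right,
          Nat.card_congr (Subgroup.subgroupOfEquivOfLe inf_le_right).toEquiv]
        exact Subgroup.card_dvd_of_le fun x hx => ⟨hx.1, hx.2.2⟩
      rw [hSn, hv]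
      exact (((hqp.coprime_iff_not_dvd).2 fun hd => hqD (hd.trans h1)).symm).pow_right v
    · intro a ha w hw
      exact Subtype.ext (hout a a.2 ha w w.2 ((hfix a w).1 hw))
    · rw [hidx, hSn]; exact hn
    · intro K hK hKd
      rw [hidx] at hKd
      obtain ⟨a, ha⟩ := IsPGroup.iff_card.1 (hSp.to_subgroup K)
      have ha0 : 0 < a := Nat.pos_of_ne_zero fun h0 => hK (Subgroup.card_eq_one.1 (by rw [ha, h0, pow_zero]))
      refine Subgroup.eq_top_of_le_card K ?_
      rw [hSn, hv, ha]
      refine Nat.pow_le_pow_right hqp.pos ?_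
      by_contra hlt
      rw [ha] at hKd
      have := sq_le_pow_of_dvd (m := m) hqp.two_le ha0 (by omega) hKd hmn
      omega
  -- centralizers
  have hSqD : ∀ K : Subgroup G, K ≤ D → S ≤ K → ¬ q ∣ S.relIndex K := by
    intro K hKD hSK h
    have h1 : q ∣ S.relIndex D :=
      h.trans ⟨K.relIndex D, (Subgroup.relIndex_mul_relIndex S K D hSK hKD).symm⟩
    have hD1 : (stabilizer G ω).relIndex D = Fintype.card Ω := by
      rw [Subgroup.relIndex, show (stabilizer G ω).subgroupOf D = stabilizer D ω from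
        Subgroup.ext fun _ => Iff.rfl, index_stabilizer, ← Nat.card_eq_fintype_card, ← Set.ncard_univ]
      congr 1
      refine Set.eq_univ_of_forall fun η => ?_
      obtain ⟨d, hd, hdη⟩ := htr ω η
      exact ⟨⟨d, hd⟩, hdη⟩
    have h2 := (S.subgroupOf D).index_mul_card
    have h3 := ((stabilizer G ω).subgroupOf D).index_mul_card
    rw [← Subgroup.relIndex, Nat.card_congr (Subgroup.subgroupOfEquivOfLe hSD).toEquiv, hSn] at h2
    rw [← Subgroup.relIndex, hD1, ← Subgroup.inf_subgroupOf_left,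
      Nat.card_congr (Subgroup.subgroupOfEquivOfLe inf_le_left).toEquiv, ← h2, mul_comm] at h3
    exact hqD (Nat.eq_of_mul_eq_mul_right (by omega) h3 ▸ h1)
  have hSylow : ∀ K : Subgroup G, K ≤ D → S ≤ K → ∃ P : Sylow q K, (P : Subgroup K) = S.subgroupOf K := by
    intro K hKD hSK
    exact ⟨(hSp.comap_of_injective K.subtype K.subtype_injective).toSylow (hSqD K hKD hSK),
      rfl⟩
  have hcent : ∀ s ∈ S, s ≠ 1 → Subgroup.centralizer ({s} : Set G) = S := by
    intro s hs hs1
    refine le_antisymm (fun x hx => ?_)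
      fun x hx => mem_centralizer_singleton_iff.2 (hScomm x hx s hs)
    have hxs := mem_centralizer_singleton_iff.1 hx
    have hxD : x ∈ D := by
      by_contra hxD
      obtain ⟨η, hη, hηu⟩ := hfix x hxD
      refine hreg s hs hs1 η (hηu _ ?_)
      rw [← mul_smul, hxs, mul_smul, hη]
    set C := Subgroup.centralizer ({s} : Set G) ⊓ D with hC
    have hSC : S ≤ C := fun y hy => ⟨mem_centralizer_singleton_iff.2 (hScomm y hy s hs), hSD hy⟩
    obtain ⟨P, hP⟩ := hSylow C inf_le_right hSC
    haveI := Fintype.ofFinite C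
    have hNC : ∀ y ∈ C, y ∈ normalizer (S : Set G) → y ∈ S := by
      intro y hy hyN
      obtain ⟨u, hu⟩ := horbU (y • ω)
      set t := (u : G)⁻¹ * y with ht
      have htT : t ∈ T := ⟨Subgroup.mul_mem _ (Subgroup.inv_mem _ (Subgroup.le_normalizer u.2)) hyN, by
        show ((u : G)⁻¹ * y) • ω = ω
        rw [mul_smul, ← hu, inv_smul_smul]⟩
      have hts : t * s * t⁻¹ = s := by
        have h1 := mem_centralizer_singleton_iff.1 hy.1
        have h2 := hScomm (u : G)⁻¹ (S.inv_mem u.2) s hs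
        calc t * s * t⁻¹ = (u : G)⁻¹ * (y * s) * t⁻¹ := by rw [ht]; group
          _ = ((u : G)⁻¹ * s) * y * t⁻¹ := by rw [h1]; group
          _ = s := by rw [h2, ht]; group
      by_cases ht1 : t = 1
      · rw [ht, inv_mul_eq_one] at ht1; rw [← ht1]; exact u.2
      · exact absurd (hTfpf t htT ht1 s hs hts) hs1
    have hnorm : (P : Subgroup C).Normal := by
      refine normal_of_normalizer_le (Ω := Ω) P ?_ ?_ ?_
      · rw [hP, Nat.card_congr (Subgroup.subgroupOfEquivOfLe hSC).toEquiv, hSn]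
      · intro y hy hy1 η
        rw [hP] at hy
        exact hreg y hy (fun e => hy1 (Subtype.ext e)) η
      · rw [hP]
        intro y hy
        have hyS : (y : G) ∈ S := hNC y y.2 (by
          rw [mem_normalizer_iff]
          intro z
          constructor
          · intro hz
            exact (mem_normalizer_iff.1 hy ⟨z, hSC hz⟩).1 hz
          · intro hz
            have := (mem_normalizer_iff''.1 hy ⟨(y : G) * z * (y : G)⁻¹, hSC hz⟩).1 hz
            rw [mem_subgroupOf] at this
            simpa [mul_assoc] using this)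
        exact mem_centralizer_iff.2 fun z hz => Subtype.ext (hScomm z hz y hyS)
    refine hNC x ⟨hx, hxD⟩ ?_
    rw [hP] at hnorm
    exact (Subgroup.normal_subgroupOf_iff_le_normalizer hSC).1 hnorm ⟨hx, hxD⟩
  -- `S` is normal
  have hSnormal : S.Normal := by
    set M := Subgroup.normalClosure (S : Set G) with hM
    have hSM : S ≤ M := Subgroup.subset_normalClosure
    have hMD : M ≤ D := Subgroup.normalClosure_le_normal hSD
    obtain ⟨P, hP⟩ := hSylow M hMD hSM
    haveI := Fintype.ofFinite M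
    have hsyl' : IsSyl q S M := ⟨hSM, hSp, hSqD M hMD hSM⟩
    have hfrat : ∀ g : G, ∃ k ∈ M, k * g ∈ normalizer (S : Set G) := fun g =>
      hsyl'.frattini (by rw [Subgroup.normalizer_eq_top]; exact mem_top g)
    have hMtr : IsPretransitive M Ω := ⟨fun a b => by
      obtain ⟨x, hx⟩ := horbU a
      obtain ⟨y, hy⟩ := horbU b
      exact ⟨⟨y * (x : G)⁻¹, M.mul_mem (hSM y.2) (M.inv_mem (hSM x.2))⟩, by
        show ((y : G) * (x : G)⁻¹) • a = b
        rw [mul_smul, ← hx, inv_smul_smul, hy]⟩⟩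
    have hnormal : (P : Subgroup M).Normal := by
      refine sylow_normal_of_small (Ω := Ω) P hMtr ?_ ?_ ?_ ?_ ?_ ?_
      · rw [hP, Nat.card_congr (Subgroup.subgroupOfEquivOfLe hSM).toEquiv, hSn]
      · intro y hy hy1 η
        rw [hP] at hy
        exact hreg y hy (fun e => hy1 (Subtype.ext e)) η
      · intro y hy hy1
        rw [hP] at hy ⊢
        ext z
        rw [mem_subgroupOf, ← hcent y hy (fun e => hy1 (Subtype.ext e)),
          mem_centralizer_singleton_iff, mem_centralizer_singleton_iff, Subtype.ext_iff]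
        rfl
      · intro K hK hPK
        rw [hP] at hPK
        refine eq_top_iff.2 fun x _ => ?_
        have hle : M ≤ K.map M.subtype := by
          refine (Subgroup.closure_le _).2 fun y hy => ?_
          obtain ⟨z, hz, hzy⟩ := Group.mem_conjugatesOfSet_iff.1 hy
          obtain ⟨g, rfl⟩ := isConj_iff.1 hzy
          obtain ⟨k, hk, hkg⟩ := hfrat g
          have h1 : (k * g) * z * (k * g)⁻¹ ∈ S := (mem_normalizer_iff.1 hkg z).1 hz
          refine ⟨(⟨k, hk⟩ : M)⁻¹ * ⟨_, hSM h1⟩ * (⟨k, hk⟩ : M)⁻¹⁻¹,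
            hK.conj_mem _ (hPK (by rw [mem_subgroupOf]; exact h1)) _, ?_⟩
          simp [mul_assoc]
        obtain ⟨k, hk, hkx⟩ := hle x.2
        exact (M.subtype_injective hkx) ▸ hk
      · intro h2
        obtain ⟨t, htT, htD⟩ : ∃ t ∈ T, t ∉ D := by
          by_contra! h
          exact hDtop (by rwa [sup_eq_right.2 h] at hTcov')
        obtain ⟨η, hη⟩ := exists_ne ω
        have hne : t • η ≠ ω := fun e => hη (MulAction.injective t (e.trans (htT.2 : t • ω = ω).symm))
        obtain ⟨d, hd1, hd2⟩ := h2 ω (t • η) ω η hne.symm hη.symm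
        have hdt : (d : G) * t ∉ D := fun h => htD ((D.mul_mem_cancel_left (hMD d.2)).1 h)
        exact hη (huniq _ hdt η ω (by rw [mul_smul]; exact hd2) (by
          rw [mul_smul, (htT.2 : t • ω = ω)]; exact hd1))
      · set R := T ⊓ M with hR
        have hNN : Nat.card (normalizer ((P : Subgroup M) : Set M)) = Fintype.card Ω * Nat.card R := by
          set NN := normalizer ((P : Subgroup M) : Set M) with hNNdef
          have hNmem : ∀ y : M, y ∈ NN ↔ (y : G) ∈ normalizer (S : Set G) := by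
            intro y
            rw [hNNdef, hP, mem_normalizer_iff, mem_normalizer_iff]
            constructor
            · intro h z
              constructor
              · intro hz
                exact (h ⟨z, hSM hz⟩).1 hz
              · intro hz
                have hzM : z ∈ M := by
                  have := M.mul_mem (M.mul_mem (M.inv_mem y.2) (hSM hz)) y.2
                  simpa [mul_assoc] using this
                exact (h ⟨z, hzM⟩).2 hz
            · intro h z
              exact h z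
          have horbN : (stabilizer NN ω).index = Fintype.card Ω := by
            rw [index_stabilizer, ← Nat.card_eq_fintype_card, ← Set.ncard_univ]
            congr 1
            refine Set.eq_univ_of_forall fun η => ?_
            obtain ⟨x, hx⟩ := horbU η
            exact ⟨⟨⟨x, hSM x.2⟩, (hNmem _).2 (Subgroup.le_normalizer x.2)⟩, hx⟩
          rw [← (stabilizer NN ω).index_mul_card, horbN]
          congr 1
          exact Nat.card_congr
            { toFun := fun y => ⟨((y.1 : M) : G), ⟨(hNmem _).1 y.1.2, y.2⟩, y.1.1.2⟩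
              invFun := fun y => ⟨⟨⟨(y : G), y.2.2⟩, (hNmem _).2 y.2.1.1⟩, y.2.1.2⟩
              left_inv := fun y => rfl
              right_inv := fun y => rfl }
        have hCC : Subgroup.centralizer ((P : Subgroup M) : Set M) = (P : Subgroup M) := by
          obtain ⟨z, hz, hz1⟩ := S.bot_or_exists_ne_one.resolve_left hSne
          refine le_antisymm (fun y hy => ?_) fun y hy => mem_centralizer_iff.2 fun w hw => ?_
          · rw [hP] at hy ⊢
            have h1 := congrArg Subtype.val (mem_centralizer_iff.1 hy ⟨z, hSM hz⟩ hz)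
            show (y : G) ∈ S
            rw [← hcent z hz hz1, mem_centralizer_singleton_iff]
            exact h1.symm
          · rw [hP] at hy hw
            exact Subtype.ext (hScomm _ hw _ hy)
        have hE : Cfsg.Lib.Char.ucE q P = Nat.card R := by
          rw [Cfsg.Lib.Char.ucE, hNN, hCC, hP,
            Nat.card_congr (Subgroup.subgroupOfEquivOfLe hSM).toEquiv, hSn,
            Nat.mul_div_cancel_left _ (by omega)]
        obtain ⟨η, hη⟩ := exists_ne ω
        have h1 := index_mul_card_le D hTcov' (inf_le_left : R ≤ T) (inf_le_right.trans hMD)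
          {η : Ω | η ≠ ω} (fun t ht θ hθ e => hθ (MulAction.injective t (e.trans (ht.2 : t • ω = ω).symm)))
          (x := η) hη fun t ht htD e => hη (huniq t htD η ω e ht.2)
        have h2 : R ⊓ stabilizer G η = ⊥ := by
          refine (Subgroup.eq_bot_iff_forall _).2 fun t ht => ?_
          by_contra ht1
          obtain ⟨u, rfl⟩ := horbU η
          have hu1 : (u : G) ≠ 1 := fun e => hη (by rw [e, one_smul])
          have h3 := @hbij.1 ⟨t * u * t⁻¹, (mem_normalizer_iff.1 ht.1.1.1 u).1 u.2⟩ u (by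
            show (t * (u : G) * t⁻¹) • ω = (u : G) • ω
            rw [mul_smul, mul_smul, inv_smul_eq_iff.2 (ht.1.1.2 : t • ω = ω).symm]
            exact ht.2)
          exact hu1 (hTfpf t ht.1.1 ht1 u u.2 (congrArg Subtype.val h3))
        have h3 : Nat.card {η : Ω | η ≠ ω} = Fintype.card Ω - 1 := by
          rw [Nat.card_eq_fintype_card, ← Fintype.card_subtype_eq ω, ← Fintype.card_subtype_compl]
          rfl
        rw [h2, Subgroup.card_bot, mul_one, h3] at h1
        rw [hE]
        replace h1 : m * Nat.card R + 1 ≤ Fintype.card Ω := by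
          have : m * Nat.card R ≤ Fintype.card Ω - 1 := h1
          omega
        replace hn : Fintype.card Ω < (m + 1) ^ 2 := hn
        obtain ⟨n', hn'⟩ : ∃ n', Fintype.card Ω = n' + 1 := ⟨Fintype.card Ω - 1, by omega⟩
        rw [hn', Nat.add_sub_cancel]
        rw [hn'] at h1 hn
        have he : Nat.card R ≤ m + 1 := by
          by_contra hlt
          have := Nat.mul_le_mul_left m (show m + 2 ≤ Nat.card R by omega)
          nlinarith
        nlinarith
    rw [hP] at hnormal
    refine ⟨fun x hx g => ?_⟩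
    obtain ⟨k, hk, hkg⟩ := hfrat g
    have hkN : k ∈ normalizer (S : Set G) :=
      (Subgroup.normal_subgroupOf_iff_le_normalizer hSM).1 hnormal hk
    have := Subgroup.mul_mem _ (Subgroup.inv_mem _ hkN) hkg
    rw [inv_mul_cancel_left] at this
    exact (mem_normalizer_iff.1 this x).1 hx
  -- conclusions
  have hTstab : ∀ g : G, g • ω = ω → g ∈ T := fun g hg =>
    ⟨by rw [Subgroup.normalizer_eq_top]; exact mem_top g, hg⟩
  refine ⟨S, hSnormal, hSne, ⟨⟨fun a b => Subtype.ext (hScomm a a.2 b b.2)⟩⟩, ?_, ?_, ?_⟩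
  · rw [← isCoatom_stabilizer_iff_preprimitive G ω]
    refine ⟨fun h => ?_, fun K hK => ?_⟩
    · obtain ⟨η, hη⟩ := exists_ne ω
      obtain ⟨s, hs⟩ := horbU η
      exact hη (by rw [← hs]; exact h.ge (mem_top (s : G)))
    · obtain ⟨x, hxK, hxω⟩ := SetLike.exists_of_lt hK
      obtain ⟨s, hs⟩ := horbU (x • ω)
      have hst : (s : G)⁻¹ * x ∈ stabilizer G ω := by
        rw [mem_stabilizer_iff, mul_smul, ← hs, inv_smul_smul]
      have hsK : (s : G) ∈ K := by
        have := K.mul_mem hxK (K.inv_mem (hK.le hst))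
        simpa [mul_assoc] using this
      have hKS := hinv (K ⊓ S) inf_le_right (fun h => hxω (by
          have h1 : (s : G) ∈ K ⊓ S := ⟨hsK, s.2⟩
          rw [h, Subgroup.mem_bot] at h1
          rw [mem_stabilizer_iff, ← hs, h1, one_smul]))
        (fun t ht k hk => ⟨K.mul_mem (K.mul_mem (hK.le ht.2) hk.1) (K.inv_mem (hK.le ht.2)),
          hSnormal.conj_mem k hk.2 t⟩)
      refine eq_top_iff.2 fun g _ => ?_
      obtain ⟨u, hu⟩ := horbU (g • ω)
      have hgu : (u : G)⁻¹ * g ∈ stabilizer G ω := by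
        rw [mem_stabilizer_iff, mul_smul, ← hu, inv_smul_smul]
      have := K.mul_mem (hKS.ge u.2).1 (hK.le hgu)
      rwa [mul_inv_cancel_left] at this
  · obtain ⟨t, htT, htD⟩ : ∃ t ∈ T, t ∉ D := by
      by_contra! h
      exact hDtop (by rwa [sup_eq_right.2 h] at hTcov')
    exact ⟨t, fun e => htD (e ▸ D.one_mem), ω, htT.2⟩
  · intro g hg a b ha hb
    obtain ⟨u, hu⟩ := horbU a
    obtain ⟨w, hw⟩ := horbU ((u : G)⁻¹ • b)
    have hg' : ((u : G)⁻¹ * g * u) • ω = ω := by rw [mul_smul, mul_smul, hu, ha, inv_smul_eq_iff, hu]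
    by_contra hab
    have hw1 : (w : G) ≠ 1 := fun e => hab (by
      rw [e, one_smul] at hw
      rw [← hu, hw, smul_inv_smul])
    have h1 : ((u : G)⁻¹ * g * u) • ((w : G) • ω) = (w : G) • ω := by
      rw [hw, mul_smul, mul_smul, smul_inv_smul, hb]
    have hconj : (u : G)⁻¹ * g * u * w * ((u : G)⁻¹ * g * u)⁻¹ ∈ S := hSnormal.conj_mem _ w.2 _
    have h2 := @hbij.1 ⟨_, hconj⟩ w (by
      show ((u : G)⁻¹ * g * u * w * ((u : G)⁻¹ * g * u)⁻¹) • ω = (w : G) • ω
      rw [mul_smul, mul_smul, inv_smul_eq_iff.2 hg'.symm]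
      exact h1)
    refine hw1 (hTfpf _ (hTstab _ hg') (fun e => hg ?_) _ w.2 (congrArg Subtype.val h2))
    calc g = (u : G) * ((u : G)⁻¹ * g * u) * (u : G)⁻¹ := by group
      _ = 1 := by rw [e]; group

/-- A group acting faithfully on at most three points has an abelian normal subgroup. -/
theorem exists_abelian_normal_small [Nontrivial G] (h : Fintype.card Ω ≤ 3) :
    ∃ N : Subgroup G, N.Normal ∧ IsMulCommutative N ∧ N ≠ ⊥ := by
  classical
  have hcard : Nat.card G ∣ (Fintype.card Ω).factorial := by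
    have h1 := Subgroup.card_dvd_of_injective (MulAction.toPermHom G Ω) MulAction.toPerm_injective
    rwa [Nat.card_perm, Nat.card_eq_fintype_card (α := Ω)] at h1
  have h6 : Nat.card G ∣ 6 := by
    refine hcard.trans ?_
    interval_cases Fintype.card Ω <;> decide
  haveI : Fact (Nat.Prime 3) := ⟨by norm_num⟩
  have h2 : Nat.card G ≠ 1 := Finite.one_lt_card.ne'
  by_cases h3 : 3 ∣ Nat.card G
  · obtain ⟨P⟩ := (inferInstance : Nonempty (Sylow 3 G))
    have hle := Nat.le_of_dvd (by norm_num) h6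
    have hpos := Nat.card_pos (α := G)
    have hPc : Nat.card (P : Subgroup G) = 3 := by
      obtain ⟨k, hk⟩ := IsPGroup.iff_card.1 P.2
      have hd : 3 ^ k ∣ 6 := hk ▸ (Subgroup.card_subgroup_dvd_card _).trans h6
      have hk1 : k ≤ 1 := by
        by_contra hk1
        have := (pow_dvd_pow 3 (show 2 ≤ k by omega)).trans hd
        norm_num at this
      rcases Nat.eq_zero_or_pos k with rfl | hk0
      · exfalso
        refine P.not_dvd_index ?_
        have h7 := (P : Subgroup G).index_mul_card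
        rw [hk, pow_zero, mul_one] at h7
        rw [h7]; exact h3
      · rw [hk, show k = 1 by omega, pow_one]
    have hi : (P : Subgroup G).index ≤ 2 := by
      have h7 := (P : Subgroup G).index_mul_card
      rw [hPc] at h7
      omega
    have hnorm : (P : Subgroup G).Normal := by
      rcases Nat.lt_or_ge (P : Subgroup G).index 2 with h7 | h7
      · exact Subgroup.normal_of_index_eq_one (by
          have : (P : Subgroup G).index ≠ 0 := Subgroup.index_ne_zero_of_finite
          omega)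
      · exact Subgroup.normal_of_index_eq_two (by omega)
    haveI := isCyclic_of_prime_card hPc
    refine ⟨P, hnorm, ⟨⟨fun a b => ?_⟩⟩, fun e => ?_⟩
    · letI := IsCyclic.commGroup (α := (P : Subgroup G))
      exact mul_comm a b
    · rw [e, Subgroup.card_bot] at hPc; omega
  · have hG2 : Nat.card G = 2 := by
      have hle := Nat.le_of_dvd (by norm_num) h6
      have hpos := Nat.card_pos (α := G)
      interval_cases (Nat.card G) <;> omega
    haveI := isCyclic_of_prime_card hG2
    letI := IsCyclic.commGroup (α := G)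
    exact ⟨⊤, inferInstance, ⟨⟨fun a b => Subtype.ext (mul_comm _ _)⟩⟩, top_ne_bot⟩

end Cfsg.Lib.DerSub
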