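import Cfsg.Agent.Lib.Perm.DerangementSubgroup.Count

/-!
# Groups of symplectic type acting coprimely with a fixed point free centre

The centralizer of a noncentral element of order `r` acts on the fixed points of that element as a
group of the same type, which gives the sizes of the largest point stabilizers.
-/

set_option autoImplicit false

namespace Cfsg.Lib.DerSub

open MulAction Subgroup
open scoped commutatorElement

universe u

/-- Number of elements of order dividing `r`. -/
noncomputable def sCard (r : ℕ) (E : Type u) [Group E] : ℕ := Nat.card {a : E // a ^ r = 1}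

/-- The points with stabilizer of order `t`. -/
def bigSet (E W : Type u) [Group E] [CommGroup W] [MulDistribMulAction E W] (t : ℕ) : Set W :=
  {w | w ≠ 1 ∧ Nat.card (stabilizer E w) = t}

/-- The fixed points of an element. -/
def fixSub {E : Type u} (W : Type u) [Group E] [CommGroup W] [MulDistribMulAction E W] (g : E) :
    Subgroup W where
  carrier := {w | g • w = w}
  one_mem' := smul_one g
  mul_mem' {a b} (ha : g • a = a) (hb : g • b = b) := show g • (a * b) = a * b by rw [smul_mul', ha, hb]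
  inv_mem' {a} (ha : g • a = a) := show g • a⁻¹ = a⁻¹ by rw [smul_inv', ha]

variable {E W : Type u} [Group E] [CommGroup W] [MulDistribMulAction E W]

theorem mem_fixSub {g : E} {w : W} : w ∈ fixSub W g ↔ g • w = w := Iff.rfl

/-- The centralizer of `g` acting on the fixed points of `g`. -/
def resHom (g : E) : centralizer ({g} : Set E) →* MulAut (fixSub W g) where
  toFun c :=
    { toFun := fun v => ⟨(c : E) • (v : W), by
        rw [mem_fixSub, ← mul_smul, ← (mem_centralizer_singleton_iff.1 c.2), mul_smul, v.2]⟩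
      invFun := fun v => ⟨(c : E)⁻¹ • (v : W), by
        rw [mem_fixSub, ← mul_smul,
          ← (mem_centralizer_singleton_iff.1 ((centralizer ({g} : Set E)).inv_mem c.2)), mul_smul, v.2]⟩
      left_inv := fun v => Subtype.ext (inv_smul_smul _ _)
      right_inv := fun v => Subtype.ext (smul_inv_smul _ _)
      map_mul' := fun a b => Subtype.ext (smul_mul' _ _ _) }
  map_one' := MulEquiv.ext fun v => Subtype.ext (one_smul _ _)
  map_mul' a b := MulEquiv.ext fun v => Subtype.ext (mul_smul _ _ _)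

theorem resHom_apply (g : E) (c : centralizer ({g} : Set E)) (v : fixSub W g) :
    ((resHom (W := W) g c v : fixSub W g) : W) = (c : E) • (v : W) := rfl

theorem card_subtype_preimage {A B : Type*} [Group A] [Group B] [Finite A] (f : A →* B)
    (P : f.range → Prop) :
    Nat.card {a : A // P (f.rangeRestrict a)} = Nat.card f.ker * Nat.card {b : f.range // P b} := by
  classical
  have hs := f.rangeRestrict_surjective
  choose sec hsec using hs
  rw [mul_comm, ← Nat.card_prod]
  exact Nat.card_congr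
    { toFun := fun a => (⟨f.rangeRestrict a.1, a.2⟩, ⟨(sec (f.rangeRestrict a.1))⁻¹ * a.1, by
        rw [← MonoidHom.ker_rangeRestrict, MonoidHom.mem_ker, map_mul, map_inv, hsec, inv_mul_cancel]⟩)
      invFun := fun p => ⟨sec p.1.1 * p.2.1, by
        have : f.rangeRestrict p.2.1 = 1 := by
          rw [← MonoidHom.mem_ker, MonoidHom.ker_rangeRestrict]; exact p.2.2
        rw [map_mul, hsec, this, mul_one]; exact p.1.2⟩
      left_inv := fun a => Subtype.ext (mul_inv_cancel_left _ _)
      right_inv := fun p => by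
        have h1 : f.rangeRestrict p.2.1 = 1 := by
          rw [← MonoidHom.mem_ker, MonoidHom.ker_rangeRestrict]; exact p.2.2
        have h2 : f.rangeRestrict (sec p.1.1 * p.2.1) = p.1.1 := by rw [map_mul, hsec, h1, mul_one]
        refine Prod.ext (Subtype.ext h2) (Subtype.ext ?_)
        show (sec (f.rangeRestrict (sec p.1.1 * p.2.1)))⁻¹ * (sec p.1.1 * p.2.1) = p.2.1
        rw [h2, inv_mul_cancel_left] }

/-- An `r`-group of symplectic type acting faithfully and coprimely, with `z` fixed point free. -/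
structure Sym (r : ℕ) (E W : Type u) [Group E] [CommGroup W] [MulDistribMulAction E W] (z : E) :
    Prop where
  hr : r.Prime
  cop : r.Coprime (Nat.card W)
  nt : Nontrivial W
  zr : z ^ r = 1
  zc : ∀ a : E, Commute z a
  fpf : ∀ w : W, z • w = w → w = 1
  comm : ∀ a b : E, ⁅a, b⁆ ∈ zpowers z
  pw : ∀ a : E, a ^ r ∈ if r = 2 then zpowers z else ⊥
  cen : ∀ a : E, a ^ r = 1 → (∀ b : E, Commute a b) → a ∈ zpowers z
  faith : ∀ e : E, (∀ w : W, e • w = w) → e = 1

variable {r : ℕ} {z : E}

theorem Sym.z_ne_one (h : Sym r E W z) : z ≠ 1 := by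
  rintro rfl
  haveI := h.nt
  obtain ⟨w, hw⟩ := exists_ne (1 : W)
  exact hw (h.fpf w (one_smul _ _))

theorem Sym.orderOf_z (h : Sym r E W z) : orderOf z = r := by
  haveI := Fact.mk h.hr
  exact orderOf_eq_prime h.zr h.z_ne_one

theorem Sym.pow_mem (h : Sym r E W z) (a : E) : a ^ r ∈ zpowers z := by
  have := h.pw a
  split_ifs at this with h2
  · exact this
  · rw [mem_bot.1 this]; exact one_mem _

theorem Sym.zpowers_eq (h : Sym r E W z) {x : E} (hx : x ∈ zpowers z) (hx1 : x ≠ 1) :
    zpowers x = zpowers z := by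
  haveI := Fact.mk h.hr
  have hf : IsOfFinOrder z := isOfFinOrder_iff_pow_eq_one.2 ⟨r, h.hr.pos, h.zr⟩
  haveI : Finite (zpowers z) := Nat.finite_of_card_ne_zero (by
    rw [Nat.card_zpowers, h.orderOf_z]; exact h.hr.pos.ne')
  refine Subgroup.eq_of_le_of_card_ge (zpowers_le.2 hx) ?_
  have hxr : x ^ r = 1 := by
    obtain ⟨i, rfl⟩ := hx
    show (z ^ i) ^ r = 1
    rw [← zpow_natCast (z ^ i), ← zpow_mul, mul_comm, zpow_mul, zpow_natCast, h.zr, one_zpow]
  rw [Nat.card_zpowers, Nat.card_zpowers, h.orderOf_z, orderOf_eq_prime hxr hx1]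

theorem Sym.fpf_pow (h : Sym r E W z) {x : E} (hx : x ∈ zpowers z) (hx1 : x ≠ 1) {w : W}
    (hw : x • w = w) : w = 1 := by
  refine h.fpf w (show z ∈ stabilizer E w from ?_)
  have : zpowers x ≤ stabilizer E w := zpowers_le.2 hw
  exact this (by rw [h.zpowers_eq hx hx1]; exact mem_zpowers z)

theorem Sym.central (h : Sym r E W z) {x : E} (hx : x ∈ zpowers z) (a : E) : Commute x a := by
  obtain ⟨i, rfl⟩ := hx
  exact (h.zc a).zpow_left i

/-- Stabilizers are elementary abelian and meet `⟨z⟩` trivially. -/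
theorem Sym.stab_data (h : Sym r E W z) {w : W} (hw : w ≠ 1) {a : E} (ha : a • w = w) :
    a ^ r = 1 ∧ (a ∈ zpowers z → a = 1) ∧ ∀ b : E, b • w = w → Commute a b := by
  have h1 : ∀ x : E, x • w = w → x ∈ zpowers z → x = 1 := fun x hx hxz => by
    by_contra h1
    exact hw (h.fpf_pow hxz h1 hx)
  refine ⟨h1 _ ?_ (h.pow_mem a), h1 a ha, fun b hb => ?_⟩
  · exact (stabilizer E w).pow_mem (show a ∈ stabilizer E w from ha) r
  · refine commutatorElement_eq_one_iff_commute.1 (h1 _ ?_ (h.comm a b))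
    have ha' : a ∈ stabilizer E w := ha
    have hb' : b ∈ stabilizer E w := hb
    rw [commutatorElement_def]
    exact (stabilizer E w).mul_mem ((stabilizer E w).mul_mem ((stabilizer E w).mul_mem ha' hb')
      ((stabilizer E w).inv_mem ha')) ((stabilizer E w).inv_mem hb')

/-- The noncentral elements of order `r`. -/
def Good (r : ℕ) (z g : E) : Prop := g ^ r = 1 ∧ g ∉ zpowers z

section Step

variable [Finite E] [Finite W]

theorem Sym.good_of_stab (h : Sym r E W z) {w : W} (hw : w ≠ 1) {a : E} (ha : a • w = w)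
    (ha1 : a ≠ 1) : Good r z a :=
  ⟨(h.stab_data hw ha).1, fun hz => ha1 ((h.stab_data hw ha).2.1 hz)⟩

theorem Good.zpowers_inf (h : Sym r E W z) {g : E} (hg : Good r z g) {x : E}
    (hx : x ∈ zpowers g) (hxz : x ∈ zpowers z) : x = 1 := by
  by_contra hx1
  haveI := Fact.mk h.hr
  apply hg.2
  have hg1 : g ≠ 1 := fun e => hg.2 (e ▸ one_mem _)
  have he : zpowers x = zpowers g := by
    refine Subgroup.eq_of_le_of_card_ge (zpowers_le.2 hx) ?_
    rw [Nat.card_zpowers, Nat.card_zpowers, orderOf_eq_prime hg.1 hg1]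
    obtain ⟨i, rfl⟩ := hxz
    refine le_of_eq (orderOf_eq_prime ?_ hx1).symm
    show (z ^ i) ^ r = 1
    rw [← zpow_natCast (z ^ i), ← zpow_mul, mul_comm, zpow_mul, zpow_natCast, h.zr, one_zpow]
  exact zpowers_le.2 hxz (he ▸ mem_zpowers g : g ∈ zpowers x)

/-- An element `b` with `b g b⁻¹ = u g`, `1 ≠ u ∈ ⟨z⟩`. -/
theorem Good.exists_move (h : Sym r E W z) {g : E} (hg : Good r z g) :
    ∃ b u : E, u ∈ zpowers z ∧ u ≠ 1 ∧ b * g * b⁻¹ = u * g ∧
      (∀ i : ℕ, b ^ i * g * (b ^ i)⁻¹ = u ^ i * g) ∧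
      ∀ a : E, ∃ j : ℕ, Commute g (a * b ^ j) := by
  obtain ⟨b, hb⟩ : ∃ b, ¬ Commute g b := by
    by_contra! hall
    exact hg.2 (h.cen g hg.1 hall)
  refine ⟨b, ⁅b, g⁆, h.comm b g, fun e => hb (commutatorElement_eq_one_iff_commute.1 e).symm, ?_, ?_, ?_⟩
  · rw [commutatorElement_def]; group
  · intro i
    induction i with
    | zero => simp
    | succ i ih =>
      have hc := h.central (Subgroup.pow_mem _ (h.comm b g) i) b
      calc b ^ (i + 1) * g * (b ^ (i + 1))⁻¹ = b * (b ^ i * g * (b ^ i)⁻¹) * b⁻¹ := by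
            rw [pow_succ']; group
        _ = ⁅b, g⁆ ^ i * (b * g * b⁻¹) := by rw [ih, ← mul_assoc b, ← hc.eq]; group
        _ = _ := by rw [commutatorElement_def, pow_succ]; group
  · intro a
    have hu := h.comm b g
    have hu1 : ⁅b, g⁆ ≠ 1 := fun e => hb (commutatorElement_eq_one_iff_commute.1 e).symm
    have ha : (⁅a, g⁆)⁻¹ ∈ zpowers ⁅b, g⁆ := by
      rw [h.zpowers_eq hu hu1]; exact inv_mem (h.comm a g)
    rw [← mem_powers_iff_mem_zpowers, Submonoid.mem_powers_iff] at ha
    obtain ⟨j, hj⟩ := ha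
    refine ⟨j, (commutatorElement_eq_one_iff_commute.1 ?_).symm⟩
    have hbj : b ^ j * g * (b ^ j)⁻¹ = ⁅b, g⁆ ^ j * g := by
      clear hj
      induction j with
      | zero => simp
      | succ i ih =>
        have hc := h.central (Subgroup.pow_mem _ hu i) b
        calc b ^ (i + 1) * g * (b ^ (i + 1))⁻¹ = b * (b ^ i * g * (b ^ i)⁻¹) * b⁻¹ := by
              rw [pow_succ']; group
          _ = ⁅b, g⁆ ^ i * (b * g * b⁻¹) := by rw [ih, ← mul_assoc b, ← hc.eq]; group
          _ = _ := by rw [commutatorElement_def, pow_succ]; group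
    have hc := h.central (Subgroup.pow_mem _ hu j) a
    calc ⁅a * b ^ j, g⁆ = a * (b ^ j * g * (b ^ j)⁻¹) * a⁻¹ * g⁻¹ := by
          rw [commutatorElement_def]; group
      _ = ⁅b, g⁆ ^ j * ⁅a, g⁆ := by
          rw [hbj, commutatorElement_def a g, ← mul_assoc a, ← hc.eq]; group
      _ = 1 := by rw [hj, inv_mul_cancel]

theorem Good.smul_fix (h : Sym r E W z) {g b u : E} (hb : ∀ i : ℕ, b ^ i * g * (b ^ i)⁻¹ = u ^ i * g)
    (i : ℕ) {v : W} (hv : (u ^ i * g) • v = v) : (b ^ i)⁻¹ • v ∈ fixSub W g := by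
  have _ := h.hr
  rw [mem_fixSub, ← mul_smul, eq_inv_smul_iff, ← mul_smul, ← mul_assoc, hb, hv]

/-- Any `w` is built from the fixed points of the `u ^ i g`. -/
theorem Good.eq_one_of_fix (h : Sym r E W z) {g b u : E} (hg : Good r z g) (hu : u ∈ zpowers z)
    (hu1 : u ≠ 1) (hb : ∀ i : ℕ, b ^ i * g * (b ^ i)⁻¹ = u ^ i * g) (F : W →* W)
    (hF : ∀ i : ℕ, ∀ v ∈ fixSub W g, F (b ^ i • v) = 1) (w : W) : F w = 1 := by
  have hc : ∀ i : ℕ, Commute (u ^ i) g := fun i => h.central (Subgroup.pow_mem _ hu i) g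
  have hur : u ^ r = 1 := by
    obtain ⟨j, rfl⟩ := hu
    show (z ^ j) ^ r = 1
    rw [← zpow_natCast (z ^ j), ← zpow_mul, mul_comm, zpow_mul, zpow_natCast, h.zr, one_zpow]
  have hp := pow_eq_prod_nrm h.hr (⊤ : Subgroup W) (g := g) (z := u)
    (by simpa using (hc 1).symm) hur (fun v _ => mem_top _) (fun v _ => mem_top _)
    (fun v _ hv => h.fpf_pow hu hu1 hv) (mem_top w)
  refine eq_one_of_pow_eq_one h.cop ?_
  rw [← map_pow, hp, map_prod]
  refine Finset.prod_eq_one fun i _ => ?_
  set v := nrm r (g * u ^ i) w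
  have hv : (g * u ^ i) • v = v :=
    smul_nrm (by rw [(hc i).symm.mul_pow, hg.1, ← pow_mul, mul_comm, pow_mul, hur, one_pow, one_mul]) w
  rw [← (hc i).eq] at hv
  simpa using hF i _ (Good.smul_fix h hb i hv)

theorem Good.fix_nontrivial (h : Sym r E W z) {g : E} (hg : Good r z g) :
    Nontrivial (fixSub W g) := by
  obtain ⟨b, u, hu, hu1, -, hb, -⟩ := hg.exists_move h
  rw [Subgroup.nontrivial_iff_ne_bot]
  intro hbot
  haveI := h.nt
  obtain ⟨w, hw⟩ := exists_ne (1 : W)
  refine hw (Good.eq_one_of_fix h hg hu hu1 hb (MonoidHom.id W) (fun i v hv => ?_) w)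
  rw [hbot, mem_bot] at hv
  simp [hv]

theorem Good.card_fix_pow_le (h : Sym r E W z) {g : E} (hg : Good r z g) :
    Nat.card (fixSub W g) ^ r ≤ Nat.card W := by
  obtain ⟨b, u, hu, hu1, -, hb, -⟩ := hg.exists_move h
  haveI := Fact.mk h.hr
  have hur : u ^ r = 1 := by
    obtain ⟨j, rfl⟩ := hu
    show (z ^ j) ^ r = 1
    rw [← zpow_natCast (z ^ j), ← zpow_mul, mul_comm, zpow_mul, zpow_natCast, h.zr, one_zpow]
  have hou : orderOf u = r := orderOf_eq_prime hur hu1
  have hc : ∀ i : ℕ, Commute (u ^ i) g := fun i => h.central (Subgroup.pow_mem _ hu i) g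
  have hpr : ∀ i : ℕ, (u ^ i * g) ^ r = 1 := fun i => by
    rw [(hc i).mul_pow, hg.1, ← pow_mul, mul_comm, pow_mul, hur, one_pow, mul_one]
  have hcard : ∀ i : ℕ, Nat.card (fixSub W (u ^ i * g)) = Nat.card (fixSub W g) := fun i =>
    Nat.card_congr
      { toFun := fun v => ⟨(b ^ i)⁻¹ • (v : W), Good.smul_fix h hb i v.2⟩
        invFun := fun v => ⟨b ^ i • (v : W), by
          rw [mem_fixSub, ← hb i, mul_smul, mul_smul, inv_smul_smul, v.2]⟩
        left_inv := fun v => Subtype.ext (smul_inv_smul _ _)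
        right_inv := fun v => Subtype.ext (inv_smul_smul _ _) }
  have := prod_card_le (fun i : Fin r => fixSub W (u ^ (i : ℕ) * g))
    (fun i => nrm r (u ^ (i : ℕ) * g)) h.cop (fun i v hv => nrm_of_fixed hv) ?_
  · simpa [hcard] using this
  intro i j hij v hv
  set y := nrm r (u ^ (i : ℕ) * g) v
  have h1 : (u ^ (i : ℕ) * g) • y = y := smul_nrm (hpr _) v
  have hcij : Commute (u ^ (j : ℕ) * g) (u ^ (i : ℕ) * g) :=
    (Commute.mul_left (((Commute.refl u).pow_pow _ _).mul_right (hc _))
      ((hc i).symm.mul_right (Commute.refl g)))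
  have h2 : (u ^ (j : ℕ) * g) • y = y := by rw [smul_nrm_comm hcij, hv]
  have h3 : u ^ (i : ℕ) • (g • y) = u ^ (j : ℕ) • (g • y) := by rw [← mul_smul, ← mul_smul, h1, h2]
  have h4 : ((u ^ (j : ℕ))⁻¹ * u ^ (i : ℕ)) • (g • y) = g • y := by
    rw [mul_smul, h3, inv_smul_smul]
  have h5 : (u ^ (j : ℕ))⁻¹ * u ^ (i : ℕ) ≠ 1 := by
    intro e
    rw [inv_mul_eq_one] at e
    have := pow_inj_mod.1 e
    rw [hou, Nat.mod_eq_of_lt i.2, Nat.mod_eq_of_lt j.2] at this
    exact hij (Fin.ext this.symm)
  exact smul_eq_iff_eq_inv_smul _ |>.1 (h.fpf_pow (mul_mem (inv_mem (Subgroup.pow_mem _ hu _))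
    (Subgroup.pow_mem _ hu _)) h5 h4) |>.trans (smul_one _)

theorem Good.card_centralizer (h : Sym r E W z) {g : E} (hg : Good r z g) :
    Nat.card E = r * Nat.card (centralizer ({g} : Set E)) := by
  obtain ⟨b, u, hu, hu1, hbu, -, -⟩ := hg.exists_move h
  haveI := Fact.mk h.hr
  let φ : E →* zpowers z :=
    { toFun := fun x => ⟨⁅x, g⁆, h.comm x g⟩
      map_one' := Subtype.ext (by simp [commutatorElement_def])
      map_mul' := fun x y => Subtype.ext (by
        have hc := h.central (h.comm y g) x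
        show ⁅x * y, g⁆ = ⁅x, g⁆ * ⁅y, g⁆
        rw [← (h.central (h.comm y g) ⁅x, g⁆).eq]
        calc ⁅x * y, g⁆ = x * ⁅y, g⁆ * (g * x⁻¹ * g⁻¹) := by
              simp only [commutatorElement_def]; group
          _ = ⁅y, g⁆ * ⁅x, g⁆ := by rw [← hc.eq]; simp only [commutatorElement_def]; group) }
  have hker : φ.ker = centralizer ({g} : Set E) := by
    ext x
    rw [MonoidHom.mem_ker, mem_centralizer_singleton_iff, Subtype.ext_iff]
    exact commutatorElement_eq_one_iff_mul_comm
  have hr : φ.range = ⊤ := by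
    have hp : Nat.card (zpowers z) = r := by rw [Nat.card_zpowers, h.orderOf_z]
    haveI := Fact.mk (hp ▸ h.hr : (Nat.card (zpowers z)).Prime)
    refine φ.range.eq_bot_or_eq_top_of_prime_card.resolve_left fun e => hu1 ?_
    have : φ b ∈ φ.range := ⟨b, rfl⟩
    rw [e, mem_bot, Subtype.ext_iff] at this
    have hb : ⁅b, g⁆ = u := by rw [commutatorElement_def, hbu]; group
    rw [← hb]; exact this
  have := φ.ker.index_mul_card
  rw [Subgroup.index_ker, hr, card_top, Nat.card_zpowers, h.orderOf_z, hker] at this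
  exact this.symm

/-- The restriction to the fixed points of `g` has kernel `⟨g⟩`. -/
theorem Good.ker_resHom (h : Sym r E W z) {g : E} (hg : Good r z g)
    (c : centralizer ({g} : Set E)) : c ∈ (resHom (W := W) g).ker ↔ (c : E) ∈ zpowers g := by
  constructor
  · intro hc
    obtain ⟨b, u, hu, hu1, hbu, hb, -⟩ := hg.exists_move h
    have hfix : ∀ v ∈ fixSub W g, (c : E) • v = v := fun v hv => by
      have := congrArg (fun φ : MulAut (fixSub W g) => ((φ ⟨v, hv⟩ : fixSub W g) : W))
        (MonoidHom.mem_ker.1 hc)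
      simpa [resHom_apply] using this
    -- adjust `c` by a power of `g` so that it commutes with `b`
    have hcb : ⁅b, (c : E)⁆ ∈ zpowers u := by rw [h.zpowers_eq hu hu1]; exact h.comm _ _
    obtain ⟨j, hj⟩ := hcb
    change u ^ j = _ at hj
    set d := (c : E) * g ^ (-j)
    have hgj : b * g ^ (-j) * b⁻¹ = u ^ (-j) * g ^ (-j) := by
      rw [← conj_zpow, hbu, (h.central hu g).mul_zpow]
    have hbd : Commute b d := by
      refine commutatorElement_eq_one_iff_commute.1 ?_
      calc ⁅b, d⁆ = ⁅b, (c : E)⁆ * ((c : E) * (b * g ^ (-j) * b⁻¹)) * (g ^ (-j))⁻¹ * (c : E)⁻¹ := by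
            simp only [d, commutatorElement_def]; group
        _ = u ^ j * ((c : E) * u ^ (-j)) * (g ^ (-j) * (g ^ (-j))⁻¹) * (c : E)⁻¹ := by
            rw [hgj, hj]; group
        _ = 1 := by rw [← ((h.central hu (c : E)).zpow_left _).eq]; group
    have hdfix : ∀ v ∈ fixSub W g, d • v = v := fun v hv => by
      have h1 : g ^ (-j) • v = v :=
        (stabilizer E v).zpow_mem (show g ∈ stabilizer E v from hv) (-j)
      rw [mul_smul, h1, hfix v hv]
    have hd : d = 1 := by
      refine h.faith d fun w => div_eq_one.1 ?_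
      let F : W →* W := MonoidHom.mk' (fun w => (d • w) / w) fun a c => by
        simp only [smul_mul']; rw [mul_div_mul_comm]
      refine Good.eq_one_of_fix h hg hu hu1 hb F (fun i v hv => ?_) w
      show (d • b ^ i • v) / (b ^ i • v) = 1
      rw [← mul_smul, ← (hbd.pow_left i).eq, mul_smul, hdfix v hv, div_self']
    have hd' : (c : E) * g ^ (-j) = 1 := hd
    rw [zpow_neg, mul_inv_eq_one] at hd'
    rw [hd']
    exact zpow_mem (mem_zpowers g) _
  · intro hc
    refine MonoidHom.mem_ker.2 (MulEquiv.ext fun v => Subtype.ext ?_)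
    rw [resHom_apply]
    exact (zpowers_le.2 (show g ∈ stabilizer E (v : W) from v.2)) hc

theorem Good.card_ker (h : Sym r E W z) {g : E} (hg : Good r z g) :
    Nat.card (resHom (W := W) g).ker = r := by
  haveI := Fact.mk h.hr
  have hg1 : g ≠ 1 := fun e => hg.2 (e ▸ one_mem _)
  have hle : zpowers g ≤ centralizer ({g} : Set E) :=
    zpowers_le.2 (mem_centralizer_singleton_iff.2 rfl)
  have : (resHom (W := W) g).ker = (zpowers g).subgroupOf _ := by
    ext c; rw [mem_subgroupOf]; exact hg.ker_resHom h c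
  rw [this, Nat.card_congr (subgroupOfEquivOfLe hle).toEquiv, Nat.card_zpowers,
    orderOf_eq_prime hg.1 hg1]

theorem Good.card_range (h : Sym r E W z) {g : E} (hg : Good r z g) :
    Nat.card E = r * r * Nat.card (resHom (W := W) g).range := by
  have := (resHom (W := W) g).ker.index_mul_card
  rw [Subgroup.index_ker, hg.card_ker h] at this
  rw [hg.card_centralizer h, ← this]
  ring

/-- The image is again of symplectic type. -/
theorem Good.sym_range (h : Sym r E W z) {g : E} (hg : Good r z g) :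
    Sym r (resHom (W := W) g).range (fixSub W g)
      ((resHom (W := W) g).rangeRestrict ⟨z, mem_centralizer_singleton_iff.2 (h.zc g).eq⟩) := by
  set f := resHom (W := W) g
  set z0 : centralizer ({g} : Set E) := ⟨z, mem_centralizer_singleton_iff.2 (h.zc g).eq⟩
  set φ := f.rangeRestrict
  have hsurj := f.rangeRestrict_surjective
  have hker : ∀ c, φ c = 1 ↔ (c : E) ∈ zpowers g := fun c => by
    rw [← MonoidHom.mem_ker, MonoidHom.ker_rangeRestrict, hg.ker_resHom h]
  have hzmem : ∀ c : centralizer ({g} : Set E), (c : E) ∈ zpowers z → φ c ∈ zpowers (φ z0) := by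
    rintro c ⟨i, hi⟩
    refine ⟨i, ?_⟩
    show φ z0 ^ i = φ c
    rw [← map_zpow]
    exact congrArg φ (Subtype.ext (by rw [SubgroupClass.coe_zpow]; exact hi))
  refine ⟨h.hr, h.cop.coprime_dvd_right (card_subgroup_dvd_card _), hg.fix_nontrivial h, ?_, ?_, ?_,
    ?_, ?_, ?_, ?_⟩
  · rw [← map_pow, show z0 ^ r = 1 from Subtype.ext (by simp [z0, h.zr]), map_one]
  · intro a
    obtain ⟨c, rfl⟩ := hsurj a
    exact Commute.map (Subtype.ext (h.zc c).eq) φ
  · intro v hv
    exact Subtype.ext (h.fpf _ (congrArg Subtype.val hv))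
  · intro a a'
    obtain ⟨c, rfl⟩ := hsurj a
    obtain ⟨c', rfl⟩ := hsurj a'
    rw [← map_commutatorElement]
    exact hzmem _ (by rw [commutatorElement_def]; exact h.comm (c : E) c')
  · intro a
    obtain ⟨c, rfl⟩ := hsurj a
    have := h.pw (c : E)
    rw [← map_pow]
    split_ifs with h2
    · rw [if_pos h2] at this
      exact hzmem _ (by rwa [SubgroupClass.coe_pow])
    · rw [if_neg h2, mem_bot] at this
      rw [mem_bot, show c ^ r = 1 from Subtype.ext (by simpa using this), map_one]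
  · intro a har hac
    obtain ⟨c, rfl⟩ := hsurj a
    rw [← map_pow, hker, SubgroupClass.coe_pow] at har
    have hcr : (c : E) ^ r = 1 := Good.zpowers_inf h hg har (h.pow_mem _)
    obtain ⟨b, u, hu, hu1, hbu, -, hdec⟩ := hg.exists_move h
    obtain ⟨j, hj⟩ : ⁅b, (c : E)⁆ ∈ zpowers u := by
      rw [h.zpowers_eq hu hu1]; exact h.comm _ _
    change u ^ j = _ at hj
    set d := (c : E) * g ^ (-j) with hd
    have hcg : Commute (c : E) g := mem_centralizer_singleton_iff.1 c.2
    have hgj : b * g ^ (-j) * b⁻¹ = u ^ (-j) * g ^ (-j) := by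
      rw [← conj_zpow, hbu, (h.central hu g).mul_zpow]
    have hbd : Commute b d := by
      refine commutatorElement_eq_one_iff_commute.1 ?_
      calc ⁅b, d⁆ = ⁅b, (c : E)⁆ * ((c : E) * (b * g ^ (-j) * b⁻¹)) * (g ^ (-j))⁻¹ * (c : E)⁻¹ := by
            simp only [d, commutatorElement_def]; group
        _ = u ^ j * ((c : E) * u ^ (-j)) * (g ^ (-j) * (g ^ (-j))⁻¹) * (c : E)⁻¹ := by
            rw [hgj, hj]; group
        _ = 1 := by rw [← ((h.central hu (c : E)).zpow_left _).eq]; group
    have hdC : ∀ x : centralizer ({g} : Set E), Commute d (x : E) := by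
      intro x
      refine Commute.mul_left ?_ ((show Commute g (x : E) from (mem_centralizer_singleton_iff.1 x.2).symm).zpow_left _)
      have h1 := hac (φ x)
      rw [← commutatorElement_eq_one_iff_commute, ← map_commutatorElement, hker,
        commutatorElement_def] at h1
      exact commutatorElement_eq_one_iff_commute.1
        (Good.zpowers_inf h hg h1 (h.comm (c : E) x))
    have hdall : ∀ x : E, Commute d x := by
      intro x
      obtain ⟨i, hi⟩ := hdec x
      have h1 := hdC ⟨x * b ^ i, mem_centralizer_singleton_iff.2 hi.symm.eq⟩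
      have h2 : Commute d ((b ^ i)⁻¹) := (hbd.symm.pow_right i).inv_right
      simpa [mul_assoc] using h1.mul_right h2
    have hdz : d ∈ zpowers z := h.cen d (by
      rw [hd, (hcg.zpow_right _).mul_pow, hcr, one_mul, ← zpow_natCast, ← zpow_mul, mul_comm,
        zpow_mul, zpow_natCast, hg.1, one_zpow]) hdall
    have hdc : d ∈ centralizer ({g} : Set E) := mem_centralizer_singleton_iff.2
      ((hcg.mul_left ((Commute.refl g).zpow_left _)).eq)
    have e : φ c = φ ⟨d, hdc⟩ := by
      rw [← mul_inv_eq_one, ← map_inv, ← map_mul, hker]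
      simp only [Subgroup.coe_mul, InvMemClass.coe_inv, hd, mul_inv_rev, ← zpow_neg, neg_neg]
      rw [← mul_assoc, (hcg.zpow_right j).eq, mul_inv_cancel_right]
      exact zpow_mem (mem_zpowers g) _
    rw [e]
    exact hzmem _ hdz
  · rintro ⟨e, c, rfl⟩ he
    exact Subtype.ext (MulEquiv.ext fun v => he v)

/-- Stabilizers of points fixed by `g`. -/
theorem Good.card_stabilizer (h : Sym r E W z) {g : E} (hg : Good r z g) {v : fixSub W g}
    (hv : v ≠ 1) :
    Nat.card (stabilizer E (v : W)) = r * Nat.card (stabilizer (resHom (W := W) g).range v) := by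
  have hv' : (v : W) ≠ 1 := fun e => hv (Subtype.ext e)
  have hle : stabilizer E (v : W) ≤ centralizer ({g} : Set E) := fun a ha =>
    mem_centralizer_singleton_iff.2 ((h.stab_data hv' ha).2.2 g v.2).eq
  rw [← hg.card_ker h]
  refine Eq.trans ?_ (card_subtype_preimage (resHom (W := W) g) fun b => b • v = v)
  refine Nat.card_congr
    { toFun := fun a => ⟨⟨a.1, hle a.2⟩, Subtype.ext a.2⟩
      invFun := fun a => ⟨a.1.1, congrArg Subtype.val a.2⟩
      left_inv := fun a => rfl
      right_inv := fun a => rfl }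

/-- The common part of the induction step. -/
theorem Sym.step (h : Sym r E W z) (hex : ∃ g, Good r z g) (t : ℕ) (ht : 1 ≤ t)
    (hle : ∀ g : E, Good r z g → ∀ v : fixSub W g, v ≠ 1 →
      Nat.card (stabilizer (resHom (W := W) g).range v) ≤ t)
    (hmax : ∀ g : E, Good r z g → ∃ v : fixSub W g, v ≠ 1 ∧
      Nat.card (stabilizer (resHom (W := W) g).range v) = t) :
    (∀ w : W, w ≠ 1 → Nat.card (stabilizer E w) ≤ r * t) ∧
    (∃ w : W, w ≠ 1 ∧ Nat.card (stabilizer E w) = r * t) ∧
    ∃ g, Good r z g ∧ Nat.card (bigSet E W (r * t)) * (r * t - 1) ≤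
      (sCard r E - r) * Nat.card (bigSet (resHom (W := W) g).range (fixSub W g) t) := by
  classical
  haveI := Fintype.ofFinite E
  haveI := Fintype.ofFinite W
  have hrt : 1 < r * t := lt_of_lt_of_le h.hr.one_lt (Nat.le_mul_of_pos_right r ht)
  refine ⟨fun w hw => ?_, ?_, ?_⟩
  · by_cases hb : stabilizer E w = ⊥
    · rw [hb, card_bot]; omega
    obtain ⟨a, ha, ha1⟩ := (stabilizer E w).bot_or_exists_ne_one.resolve_left hb
    have hga := h.good_of_stab hw ha ha1
    have := hga.card_stabilizer h (v := ⟨w, ha⟩) (fun e => hw (congrArg Subtype.val e))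
    rw [this]
    exact Nat.mul_le_mul_left _ (hle a hga _ fun e => hw (congrArg Subtype.val e))
  · obtain ⟨g, hg⟩ := hex
    obtain ⟨v, hv, hvt⟩ := hmax g hg
    exact ⟨v, fun e => hv (Subtype.ext e), by rw [hg.card_stabilizer h hv, hvt]⟩
  let Z : Finset W := Finset.univ.filter fun w => w ∈ bigSet E W (r * t)
  let J : Finset E := Finset.univ.filter fun g => Good r z g
  obtain ⟨g0, hg0, hmx⟩ := J.exists_max_image (fun g => (Z.filter fun w => g • w = w).card)
    (by
      obtain ⟨g, hg⟩ := hex; exact ⟨g, by simp [J, hg]⟩)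
  have hg0' : Good r z g0 := (Finset.mem_filter.1 hg0).2
  refine ⟨g0, hg0', ?_⟩
  have hJ : J.card + r = sCard r E := by
    have e1 : Nat.card {a : E // a ^ r = 1} = (Finset.univ.filter fun a : E => a ^ r = 1).card := by
      rw [Nat.card_eq_fintype_card, Fintype.card_subtype]
    have e2 : (Finset.univ.filter fun a : E => a ∈ zpowers z).card = r := by
      rw [← Fintype.card_subtype, ← Nat.card_eq_fintype_card]
      exact (Nat.card_zpowers z).trans h.orderOf_z
    rw [sCard, e1, ← Finset.card_filter_add_card_filter_not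
      (s := Finset.univ.filter fun a : E => a ^ r = 1) (fun a => a ∉ zpowers z)]
    congr 1
    · refine congrArg Finset.card (Finset.ext fun a => ?_)
      simp only [J, Finset.filter_filter]
      exact ⟨fun ha => Finset.mem_filter.2 ⟨Finset.mem_univ _, (Finset.mem_filter.1 ha).2⟩,
        fun ha => Finset.mem_filter.2 ⟨Finset.mem_univ _, (Finset.mem_filter.1 ha).2⟩⟩
    · refine e2.symm.trans (congrArg Finset.card ?_)
      ext a
      simp only [Finset.mem_filter, Finset.mem_univ, true_and, not_not]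
      refine ⟨fun ha => ⟨?_, ha⟩, fun ha => ha.2⟩
      obtain ⟨i, rfl⟩ := ha
      show (z ^ i) ^ r = 1
      rw [← zpow_natCast (z ^ i), ← zpow_mul, mul_comm, zpow_mul, zpow_natCast, h.zr, one_zpow]
  have hcount : ∀ w ∈ Z, (J.filter fun g => g • w = w).card + 1 = r * t := by
    intro w hw
    obtain ⟨hw1, hwt⟩ := (Finset.mem_filter.1 hw).2
    rw [← hwt, Nat.card_eq_fintype_card, ← Finset.card_univ]
    have e : (Finset.univ : Finset (stabilizer E w)).card =
        (Finset.univ.filter fun a : E => a • w = w).card := by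
      rw [Finset.card_univ, ← Fintype.card_subtype]; rfl
    rw [e, ← Finset.card_insert_of_notMem (a := (1 : E))
      (s := J.filter fun g => g • w = w)
      (fun hh => (Finset.mem_filter.1 (Finset.mem_filter.1 hh).1).2.2 (one_mem _))]
    congr 1
    ext a
    simp only [J, Finset.mem_insert, Finset.mem_filter, Finset.mem_univ, true_and]
    refine ⟨fun ha => ?_, fun ha => ?_⟩
    · rcases ha with rfl | ha
      · exact one_smul _ _
      · exact ha.2
    · by_cases ha1 : a = 1
      · exact Or.inl ha1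
      · exact Or.inr ⟨h.good_of_stab hw1 ha ha1, ha⟩
  have hsum := Finset.sum_card_bipartiteAbove_eq_sum_card_bipartiteBelow
    (s := J) (t := Z) (fun g w => g • w = w)
  simp only [Finset.bipartiteAbove, Finset.bipartiteBelow] at hsum
  rw [Finset.sum_congr rfl fun w hw => show (J.filter fun g => g • w = w).card = r * t - 1 by
    have := hcount w hw; omega, Finset.sum_const, smul_eq_mul] at hsum
  have hb : (Z.filter fun w => g0 • w = w).card ≤
      Nat.card (bigSet (resHom (W := W) g0).range (fixSub W g0) t) := by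
    rw [← Nat.card_eq_finsetCard]
    refine Nat.card_le_card_of_injective (fun w => ⟨⟨w.1, (Finset.mem_filter.1 w.2).2⟩, ?_⟩) ?_
    · obtain ⟨hw1, hwt⟩ := (Finset.mem_filter.1 (Finset.mem_filter.1 w.2).1).2
      have hne : (⟨w.1, (Finset.mem_filter.1 w.2).2⟩ : fixSub W g0) ≠ 1 :=
        fun e => hw1 (congrArg Subtype.val e)
      refine ⟨hne, Nat.eq_of_mul_eq_mul_left h.hr.pos ?_⟩
      rw [← hg0'.card_stabilizer h hne, hwt]
    · intro a b hab
      exact Subtype.ext (congrArg (fun x : bigSet (resHom (W := W) g0).range (fixSub W g0) t =>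
        ((x : fixSub W g0) : W)) hab)
  calc Nat.card (bigSet E W (r * t)) * (r * t - 1) = Z.card * (r * t - 1) := by
        rw [Nat.card_eq_fintype_card, ← Fintype.card_subtype]
    _ = ∑ g ∈ J, (Z.filter fun w => g • w = w).card := hsum.symm
    _ ≤ J.card * (Z.filter fun w => g0 • w = w).card := by
        rw [← smul_eq_mul]; exact Finset.sum_le_card_nsmul _ _ _ hmx
    _ ≤ _ := Nat.mul_le_mul (by omega) hb

/-- Without noncentral elements of order `r` the action is free. -/
theorem Sym.base (h : Sym r E W z) (hex : ¬ ∃ g, Good r z g) :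
    (∀ w : W, w ≠ 1 → Nat.card (stabilizer E w) = 1) ∧ sCard r E = r ∧
      Nat.card E + 1 ≤ Nat.card W := by
  classical
  haveI := Fintype.ofFinite W
  have hst : ∀ w : W, w ≠ 1 → stabilizer E w = ⊥ := fun w hw => (eq_bot_iff_forall _).2 fun a ha => by
    by_contra ha1
    exact hex ⟨a, h.good_of_stab hw ha ha1⟩
  refine ⟨fun w hw => by rw [hst w hw, card_bot], ?_, ?_⟩
  · refine Eq.trans ?_ ((Nat.card_zpowers z).trans h.orderOf_z)
    refine Nat.card_congr (Equiv.subtypeEquivRight fun a => ⟨fun ha => ?_, fun ha => ?_⟩)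
    · by_contra hn
      exact hex ⟨a, ha, hn⟩
    · obtain ⟨i, rfl⟩ := ha
      show (z ^ i) ^ r = 1
      rw [← zpow_natCast (z ^ i), ← zpow_mul, mul_comm, zpow_mul, zpow_natCast, h.zr, one_zpow]
  · haveI := h.nt
    obtain ⟨w, hw⟩ := exists_ne (1 : W)
    have : Nat.card (Option E) ≤ Nat.card W := by
      refine Nat.card_le_card_of_injective (fun o => o.elim 1 (fun a => a • w)) ?_
      rintro (_ | a) (_ | b) hab
      · rfl
      · exact absurd ((eq_inv_smul_iff.2 hab.symm).trans (smul_one _)) hw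
      · exact absurd ((eq_inv_smul_iff.2 hab).trans (smul_one _)) hw
      · have : b⁻¹ * a ∈ stabilizer E w := by
          rw [mem_stabilizer_iff, mul_smul]
          exact inv_smul_eq_iff.2 hab
        rw [hst w hw, mem_bot, inv_mul_eq_one] at this
        rw [this]
    rwa [Finite.card_option] at this

/-- For `r = 2`, half of the elements outside a centralizer square to one. -/
theorem Good.sCard_two (h : Sym 2 E W z) {g : E} (hg : Good 2 z g) :
    4 * sCard 2 E = 8 * sCard 2 (resHom (W := W) g).range + Nat.card E := by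
  classical
  haveI := Fintype.ofFinite E
  set C := centralizer ({g} : Set E) with hC
  have hgC : g ∈ C := mem_centralizer_singleton_iff.2 rfl
  have hg2 : g * g = 1 := by rw [← sq]; exact hg.1
  have hz2 : ∀ x ∈ zpowers z, x = 1 ∨ x = z := fun x hx => by
    obtain ⟨i, rfl⟩ := hx
    rcases Int.emod_two_eq_zero_or_one i with hi | hi <;>
      [left; right] <;> show z ^ i = _ <;>
      rw [← zpow_mod_orderOf, h.orderOf_z] <;> simp [hi]
  have hflip : ∀ x : E, x ∉ C → (x * g) ^ 2 = x ^ 2 * z := by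
    intro x hx
    have h1 : ⁅g, x⁆ = z := (hz2 _ (h.comm g x)).resolve_left fun e =>
      hx (mem_centralizer_singleton_iff.2 (commutatorElement_eq_one_iff_mul_comm.1 e).symm)
    calc (x * g) ^ 2 = x * (⁅g, x⁆ * x) * (g * g) := by
          rw [sq, commutatorElement_def]; group
      _ = x ^ 2 * z := by rw [h1, hg2, mul_one, (h.zc x).eq, ← mul_assoc, sq]
  set O := Finset.univ.filter fun a : E => a ∉ C with hO
  have hOc : O.card + Nat.card C = Nat.card E := by
    rw [Nat.card_eq_fintype_card, Nat.card_eq_fintype_card, ← Finset.card_univ (α := E),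
      ← Finset.card_filter_add_card_filter_not (s := Finset.univ) (fun a : E => a ∉ C)]
    congr 1
    rw [Fintype.card_subtype]; congr 1; ext a; simp [C]
  have hhalf : (O.filter fun a => a ^ 2 = 1).card = (O.filter fun a => ¬ a ^ 2 = 1).card := by
    have hxg : ∀ x : E, x ∉ C → x * g ∉ C := fun x hx hxg => hx ((mul_mem_cancel_right hgC).1 hxg)
    refine Finset.card_bij' (fun a _ => a * g) (fun a _ => a * g) ?_ ?_ ?_ ?_
    · intro a ha
      simp only [hO, Finset.mem_filter, Finset.mem_univ, true_and] at ha ⊢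
      refine ⟨hxg a ha.1, ?_⟩
      rw [hflip a ha.1, ha.2, one_mul]
      exact h.z_ne_one
    · intro a ha
      simp only [hO, Finset.mem_filter, Finset.mem_univ, true_and] at ha ⊢
      refine ⟨hxg a ha.1, ?_⟩
      rw [hflip a ha.1, (hz2 _ (h.pow_mem a)).resolve_left ha.2, ← sq, h.zr]
    · intro a _; rw [mul_assoc, hg2, mul_one]
    · intro a _; rw [mul_assoc, hg2, mul_one]
  have hin : (Finset.univ.filter fun a : E => a ^ 2 = 1 ∧ a ∈ C).card =
      2 * sCard 2 (resHom (W := W) g).range := by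
    refine Eq.trans ?_ ((card_subtype_preimage (resHom (W := W) g) fun b => b ^ 2 = 1).trans
      (by rw [hg.card_ker h]; rfl))
    rw [← Fintype.card_subtype, ← Nat.card_eq_fintype_card]
    refine Nat.card_congr
      { toFun := fun a => ⟨⟨a.1, a.2.2⟩, ?_⟩
        invFun := fun a => ⟨a.1.1, ?_, a.1.2⟩
        left_inv := fun a => rfl
        right_inv := fun a => rfl }
    · rw [← map_pow, show (⟨a.1, a.2.2⟩ : C) ^ 2 = 1 from Subtype.ext a.2.1, map_one]
    · have h1 : (resHom (W := W) g).rangeRestrict (a.1 ^ 2) = 1 := by rw [map_pow]; exact a.2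
      rw [← MonoidHom.mem_ker, MonoidHom.ker_rangeRestrict, hg.ker_resHom h] at h1
      exact Good.zpowers_inf h hg (by simpa using h1) (h.pow_mem _)
  have hs : sCard 2 E = (Finset.univ.filter fun a : E => a ^ 2 = 1 ∧ a ∈ C).card +
      (O.filter fun a => a ^ 2 = 1).card := by
    rw [sCard, Nat.card_eq_fintype_card, Fintype.card_subtype,
      ← Finset.card_filter_add_card_filter_not
        (s := Finset.univ.filter fun a : E => a ^ 2 = 1) (fun a => a ∈ C)]
    congr 1
    · rw [Finset.filter_filter]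
    · congr 1; ext a; simp [hO, and_comm]
  have hsplit := Finset.card_filter_add_card_filter_not (s := O) (fun a => a ^ 2 = 1)
  have hEC := hg.card_centralizer h
  rw [← hC] at hEC
  omega

end Step

/-- The conclusion for `r = 2`. -/
def ConclTwo (E W : Type u) [Group E] [CommGroup W] [MulDistribMulAction E W] : Prop :=
  ∃ t κ : ℕ, 1 ≤ t ∧ 1 ≤ κ ∧ Nat.card E = 2 * κ * (t * t) ∧
    sCard 2 E = (t - 1) * (κ * t + 2) + 2 ∧
    (∀ w : W, w ≠ 1 → Nat.card (stabilizer E w) ≤ t) ∧
    (∃ w : W, w ≠ 1 ∧ Nat.card (stabilizer E w) = t) ∧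
    (t = 1 → Nat.card E + 1 ≤ Nat.card W) ∧
    (2 ≤ t → (κ * t + 1) ^ 2 ≤ Nat.card W ∧
      ∃ O : ℕ, Nat.card (bigSet E W t) * t ≤ Nat.card E * O ∧ (O + 1) ^ 2 ≤ Nat.card W)

/-- The conclusion for odd `r`. -/
def ConclOdd (r : ℕ) (E W : Type u) [Group E] [CommGroup W] [MulDistribMulAction E W] : Prop :=
  ∃ t : ℕ, 1 ≤ t ∧ Nat.card E = r * (t * t) ∧
    (∀ w : W, w ≠ 1 → Nat.card (stabilizer E w) ≤ t) ∧
    (∃ w : W, w ≠ 1 ∧ Nat.card (stabilizer E w) = t) ∧
    r * t + 1 ≤ Nat.card W ∧
    (2 ≤ t → ∃ O : ℕ, Nat.card (bigSet E W t) * t ≤ Nat.card E * O ∧ (O + 1) ^ 2 ≤ Nat.card W)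

theorem bigSet_card_le (E W : Type u) [Group E] [CommGroup W] [Finite W] [MulDistribMulAction E W]
    (t : ℕ) : Nat.card (bigSet E W t) + 1 ≤ Nat.card W := by
  haveI := Fintype.ofFinite W
  classical
  rw [Nat.card_coe_set_eq, Set.ncard_eq_toFinset_card' (bigSet E W t), Nat.card_eq_fintype_card]
  refine Nat.succ_le_of_lt (Finset.card_lt_univ_of_notMem (x := (1 : W)) ?_)
  rw [Set.mem_toFinset]
  exact fun hh => hh.1 rfl

theorem eq_of_two_types {t1 κ1 t2 κ2 : ℕ} (h1 : 1 ≤ t1) (hk1 : 1 ≤ κ1) (h2 : 1 ≤ t2)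
    (hk2 : 1 ≤ κ2) (hE : 2 * κ1 * (t1 * t1) = 2 * κ2 * (t2 * t2))
    (hs : (t1 - 1) * (κ1 * t1 + 2) + 2 = (t2 - 1) * (κ2 * t2 + 2) + 2) : t1 = t2 ∧ κ1 = κ2 := by
  have key : ∀ a b c d : ℕ, 1 ≤ a → 1 ≤ b → 1 ≤ c → 1 ≤ d → 2 * b * (a * a) = 2 * d * (c * c) →
      (a - 1) * (b * a + 2) + 2 = (c - 1) * (d * c + 2) + 2 → ¬ a < c := by
    intro a b c d ha hb hc hd hE hs hlt
    obtain ⟨a, rfl⟩ := Nat.exists_eq_add_of_le ha
    obtain ⟨c, rfl⟩ := Nat.exists_eq_add_of_le hc
    rw [Nat.add_sub_cancel_left, Nat.add_sub_cancel_left] at hs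
    have e : d * (1 + c) + 2 * (1 + a) = b * (1 + a) + 2 * (1 + c) := by nlinarith
    have h3 : d * (1 + c) < b * (1 + a) := by
      have h4 : d * (1 + c) * (1 + c) < b * (1 + a) * (1 + c) := by
        calc d * (1 + c) * (1 + c) = b * (1 + a) * (1 + a) := by linarith [hE]
          _ < b * (1 + a) * (1 + c) := by
            apply Nat.mul_lt_mul_of_pos_left hlt
            positivity
      exact Nat.lt_of_mul_lt_mul_right h4
    linarith
  have ht : t1 = t2 := by
    rcases lt_trichotomy t1 t2 with h | h | h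
    · exact absurd h (key t1 κ1 t2 κ2 h1 hk1 h2 hk2 hE hs)
    · exact h
    · exact absurd h (key t2 κ2 t1 κ1 h2 hk2 h1 hk1 hE.symm hs.symm)
  subst ht
  refine ⟨rfl, ?_⟩
  have : 0 < t1 * t1 := by positivity
  exact Nat.eq_of_mul_eq_mul_left (by norm_num : 0 < 2) (Nat.eq_of_mul_eq_mul_right this hE)

theorem conclTwo_aux (N : ℕ) : ∀ (E W : Type u) [Group E] [Finite E] [CommGroup W] [Finite W]
    [MulDistribMulAction E W] (z : E), Nat.card E = N → Sym 2 E W z → ConclTwo E W := by
  induction N using Nat.strong_induction_on with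
  | _ N ih =>
    intro E W _ _ _ _ _ z hN h
    by_cases hex : ∃ g, Good 2 z g
    swap
    · obtain ⟨hst, hs, hW⟩ := h.base hex
      haveI := h.nt
      obtain ⟨w, hw⟩ := exists_ne (1 : W)
      obtain ⟨k, hk⟩ : 2 ∣ Nat.card E := h.orderOf_z ▸ orderOf_dvd_natCard z
      have hk1 : 1 ≤ k := by
        rcases Nat.eq_zero_or_pos k with rfl | hp
        · have := Nat.card_pos (α := E); omega
        · exact hp
      exact ⟨1, k, le_rfl, hk1, by omega, by simp [hs], fun v hv => (hst v hv).le, ⟨w, hw, hst w hw⟩,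
        fun _ => hW, fun h2 => absurd h2 (by norm_num)⟩
    obtain ⟨g1, hg1⟩ := hex
    have hrec : ∀ g : E, Good 2 z g → ConclTwo (resHom (W := W) g).range (fixSub W g) := by
      intro g hg
      have h4 := hg.card_range h
      refine ih _ ?_ _ _ _ rfl (hg.sym_range h)
      have := Nat.card_pos (α := (resHom (W := W) g).range)
      omega
    obtain ⟨t, κ, ht, hκ, hE1, hs1, -⟩ := hrec g1 hg1
    have hE : Nat.card E = 2 * κ * ((2 * t) * (2 * t)) := by
      rw [hg1.card_range h, hE1]; ring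
    have hs : sCard 2 E = (2 * t - 1) * (κ * (2 * t) + 2) + 2 := by
      have h1 := hg1.sCard_two h
      rw [hs1, hE] at h1
      obtain ⟨t, rfl⟩ := Nat.exists_eq_add_of_le ht
      rw [show 2 * (1 + t) - 1 = 2 * t + 1 by omega]
      rw [Nat.add_sub_cancel_left] at h1
      nlinarith
    have hsame : ∀ g : E, Good 2 z g →
        (∀ v : fixSub W g, v ≠ 1 → Nat.card (stabilizer (resHom (W := W) g).range v) ≤ t) ∧
        (∃ v : fixSub W g, v ≠ 1 ∧ Nat.card (stabilizer (resHom (W := W) g).range v) = t) ∧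
        (t = 1 → Nat.card (resHom (W := W) g).range + 1 ≤ Nat.card (fixSub W g)) ∧
        (2 ≤ t → (κ * t + 1) ^ 2 ≤ Nat.card (fixSub W g) ∧
          ∃ O : ℕ, Nat.card (bigSet (resHom (W := W) g).range (fixSub W g) t) * t ≤
            Nat.card (resHom (W := W) g).range * O ∧ (O + 1) ^ 2 ≤ Nat.card (fixSub W g)) := by
      intro g hg
      obtain ⟨t', κ', ht', hκ', hE', hs', h5, h6, h7, h8⟩ := hrec g hg
      have e1 : Nat.card (resHom (W := W) g).range = Nat.card (resHom (W := W) g1).range := by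
        have := hg.card_range h; have := hg1.card_range h; omega
      have e2 : sCard 2 (resHom (W := W) g).range = sCard 2 (resHom (W := W) g1).range := by
        have := hg.sCard_two h; have := hg1.sCard_two h; omega
      obtain ⟨rfl, rfl⟩ := eq_of_two_types ht' hκ' ht hκ (hE'.symm.trans (e1.trans hE1))
        (hs'.symm.trans (e2.trans hs1))
      exact ⟨h5, h6, h7, h8⟩
    obtain ⟨hmle, hmeq, g, hg, hcnt⟩ := h.step ⟨g1, hg1⟩ t ht (fun g hg => (hsame g hg).1)
      (fun g hg => (hsame g hg).2.1)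
    obtain ⟨-, -, hg7, hg8⟩ := hsame g hg
    set B := Nat.card (bigSet (resHom (W := W) g).range (fixSub W g) t) with hB
    set Z := Nat.card (bigSet E W (2 * t)) with hZ
    set y := Nat.card (fixSub W g) with hy
    have hW : y ^ 2 ≤ Nat.card W := hg.card_fix_pow_le h
    have hR : 4 * Nat.card (resHom (W := W) g).range = Nat.card E := by
      have := hg.card_range h; omega
    have hF : Z ≤ 2 * (κ * t + 1) * B := by
      rw [hs, Nat.add_sub_cancel] at hcnt
      have hpos : 0 < 2 * t - 1 := by omega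
      refine Nat.le_of_mul_le_mul_left ?_ hpos
      calc (2 * t - 1) * Z = Z * (2 * t - 1) := mul_comm _ _
        _ ≤ (2 * t - 1) * (κ * (2 * t) + 2) * B := hcnt
        _ = (2 * t - 1) * (2 * (κ * t + 1) * B) := by ring
    refine ⟨2 * t, κ, by omega, hκ, hE, hs, hmle, hmeq, fun h1 => absurd h1 (by omega), fun _ => ?_⟩
    rcases Nat.lt_or_ge 1 t with ht2 | ht1
    · obtain ⟨hy2, O, hO, hO2⟩ := hg8 ht2
      refine ⟨?_, (κ * t + 1) * O, ?_, ?_⟩
      · have h3 : κ * (2 * t) + 1 ≤ (κ * t + 1) ^ 2 := by nlinarith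
        calc (κ * (2 * t) + 1) ^ 2 ≤ ((κ * t + 1) ^ 2) ^ 2 := Nat.pow_le_pow_left h3 2
          _ ≤ y ^ 2 := Nat.pow_le_pow_left hy2 2
          _ ≤ _ := hW
      · calc Z * (2 * t) ≤ 2 * (κ * t + 1) * B * (2 * t) := Nat.mul_le_mul_right _ hF
          _ = 4 * (κ * t + 1) * (B * t) := by ring
          _ ≤ 4 * (κ * t + 1) * (Nat.card (resHom (W := W) g).range * O) :=
              Nat.mul_le_mul_left _ hO
          _ = 4 * Nat.card (resHom (W := W) g).range * ((κ * t + 1) * O) := by ring
          _ = _ := by rw [hR]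
      · calc ((κ * t + 1) * O + 1) ^ 2 ≤ ((κ * t + 1) * (O + 1)) ^ 2 := by
              refine Nat.pow_le_pow_left ?_ 2
              nlinarith
          _ = (κ * t + 1) ^ 2 * (O + 1) ^ 2 := mul_pow _ _ _
          _ ≤ y * y := Nat.mul_le_mul hy2 hO2
          _ ≤ _ := by rw [← sq]; exact hW
    · obtain rfl : t = 1 := by omega
      have hy1 := hg7 rfl
      have hE2 : Nat.card E = 8 * κ := by rw [hE]; ring
      refine ⟨?_, y - 1, ?_, ?_⟩
      · calc (κ * (2 * 1) + 1) ^ 2 ≤ y ^ 2 := Nat.pow_le_pow_left (by omega) 2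
          _ ≤ _ := hW
      · have hBy : B ≤ y - 1 := by
          have := bigSet_card_le (resHom (W := W) g).range (fixSub W g) 1
          omega
        calc Z * (2 * 1) ≤ 2 * (κ * 1 + 1) * B * 2 := by simpa using Nat.mul_le_mul_right 2 hF
          _ ≤ 2 * (κ + κ) * (y - 1) * 2 := by
              refine Nat.mul_le_mul_right _ (Nat.mul_le_mul ?_ hBy)
              omega
          _ = _ := by rw [hE2]; ring
      · rw [Nat.sub_add_cancel (by omega)]; exact hW

theorem conclOdd_aux {r : ℕ} (hr2 : r ≠ 2) (N : ℕ) : ∀ (E W : Type u) [Group E] [Finite E]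
    [CommGroup W] [Finite W] [MulDistribMulAction E W] (z : E), Nat.card E = N → Sym r E W z →
    ConclOdd r E W := by
  induction N using Nat.strong_induction_on with
  | _ N ih =>
    intro E W _ _ _ _ _ z hN h
    have hr3 : 3 ≤ r := by have := h.hr.two_le; omega
    have hsE : sCard r E = Nat.card E := by
      refine Nat.card_congr (Equiv.subtypeUnivEquiv fun a => ?_)
      have := h.pw a
      rwa [if_neg hr2, mem_bot] at this
    by_cases hex : ∃ g, Good r z g
    swap
    · obtain ⟨hst, hs, hW⟩ := h.base hex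
      haveI := h.nt
      obtain ⟨w, hw⟩ := exists_ne (1 : W)
      exact ⟨1, le_rfl, by omega, fun v hv => (hst v hv).le, ⟨w, hw, hst w hw⟩, by omega,
        fun h2 => absurd h2 (by norm_num)⟩
    obtain ⟨g1, hg1⟩ := hex
    have hrec : ∀ g : E, Good r z g → ConclOdd r (resHom (W := W) g).range (fixSub W g) := by
      intro g hg
      have h4 := hg.card_range h
      refine ih _ ?_ _ _ _ rfl (hg.sym_range h)
      have h5 := Nat.card_pos (α := (resHom (W := W) g).range)
      have h6 : 2 ≤ r * r := by nlinarith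
      nlinarith
    obtain ⟨t, ht, hE1, -⟩ := hrec g1 hg1
    have hE : Nat.card E = r * ((r * t) * (r * t)) := by rw [hg1.card_range h, hE1]; ring
    have hsame : ∀ g : E, Good r z g →
        (∀ v : fixSub W g, v ≠ 1 → Nat.card (stabilizer (resHom (W := W) g).range v) ≤ t) ∧
        (∃ v : fixSub W g, v ≠ 1 ∧ Nat.card (stabilizer (resHom (W := W) g).range v) = t) ∧
        r * t + 1 ≤ Nat.card (fixSub W g) ∧
        (2 ≤ t → ∃ O : ℕ, Nat.card (bigSet (resHom (W := W) g).range (fixSub W g) t) * t ≤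
            Nat.card (resHom (W := W) g).range * O ∧ (O + 1) ^ 2 ≤ Nat.card (fixSub W g)) := by
      intro g hg
      obtain ⟨t', ht', hE', h5, h6, h7, h8⟩ := hrec g hg
      have e1 : Nat.card (resHom (W := W) g).range = Nat.card (resHom (W := W) g1).range :=
        Nat.eq_of_mul_eq_mul_left (Nat.mul_pos h.hr.pos h.hr.pos)
          ((hg.card_range h).symm.trans (hg1.card_range h))
      obtain rfl : t' = t := Nat.mul_self_inj.1
        (Nat.eq_of_mul_eq_mul_left h.hr.pos (hE'.symm.trans (e1.trans hE1)))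
      exact ⟨h5, h6, h7, h8⟩
    obtain ⟨hmle, hmeq, g, hg, hcnt⟩ := h.step ⟨g1, hg1⟩ t ht (fun g hg => (hsame g hg).1)
      (fun g hg => (hsame g hg).2.1)
    obtain ⟨-, -, hy1, hg8⟩ := hsame g hg
    set B := Nat.card (bigSet (resHom (W := W) g).range (fixSub W g) t) with hB
    set Z := Nat.card (bigSet E W (r * t)) with hZ
    set y := Nat.card (fixSub W g) with hy
    have hW : y ^ 3 ≤ Nat.card W :=
      le_trans (Nat.pow_le_pow_right (by omega) hr3) (hg.card_fix_pow_le h)
    have hR : r * r * Nat.card (resHom (W := W) g).range = Nat.card E := (hg.card_range h).symm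
    have hF : Z ≤ r * (r * t + 1) * B := by
      rw [hsE, hE] at hcnt
      have hsub : r * (r * t * (r * t)) - r = (r * t - 1) * (r * (r * t + 1)) := by
        obtain ⟨x, hx⟩ : ∃ x, r * t = x + 1 := ⟨r * t - 1, by
          have : 1 ≤ r * t := Nat.mul_pos h.hr.pos ht
          omega⟩
        rw [hx, Nat.add_sub_cancel, show r * ((x + 1) * (x + 1)) = x * (r * (x + 1 + 1)) + r by ring,
          Nat.add_sub_cancel]
      have hpos : 0 < r * t - 1 := by
        have : 3 * 1 ≤ r * t := Nat.mul_le_mul hr3 ht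
        omega
      refine Nat.le_of_mul_le_mul_left ?_ hpos
      calc (r * t - 1) * Z = Z * (r * t - 1) := mul_comm _ _
        _ ≤ (r * (r * t * (r * t)) - r) * B := hcnt
        _ = (r * t - 1) * (r * (r * t + 1) * B) := by rw [hsub]; ring
    refine ⟨r * t, Nat.mul_pos h.hr.pos ht, hE, hmle, hmeq, ?_, fun _ => ?_⟩
    · calc r * (r * t) + 1 ≤ y ^ 2 := by
            have h1 := Nat.pow_le_pow_left hy1 2
            have h2 := Nat.mul_le_mul_left (r * t) (Nat.le_mul_of_pos_right r ht)
            nlinarith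
        _ ≤ y ^ 3 := Nat.pow_le_pow_right (by omega) (by norm_num)
        _ ≤ _ := hW
    rcases Nat.lt_or_ge 1 t with ht2 | ht1
    · obtain ⟨O, hO, hO2⟩ := hg8 ht2
      refine ⟨(r * t + 1) * O, ?_, ?_⟩
      · calc Z * (r * t) ≤ r * (r * t + 1) * B * (r * t) := Nat.mul_le_mul_right _ hF
          _ = r * r * (r * t + 1) * (B * t) := by ring
          _ ≤ r * r * (r * t + 1) * (Nat.card (resHom (W := W) g).range * O) :=
              Nat.mul_le_mul_left _ hO
          _ = r * r * Nat.card (resHom (W := W) g).range * ((r * t + 1) * O) := by ring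
          _ = _ := by rw [hR]
      · calc ((r * t + 1) * O + 1) ^ 2 ≤ ((r * t + 1) * (O + 1)) ^ 2 := by
              refine Nat.pow_le_pow_left ?_ 2
              nlinarith
          _ = (r * t + 1) ^ 2 * (O + 1) ^ 2 := mul_pow _ _ _
          _ ≤ y ^ 2 * y := Nat.mul_le_mul (Nat.pow_le_pow_left hy1 2) hO2
          _ = y ^ 3 := by ring
          _ ≤ _ := hW
    · obtain rfl : t = 1 := by omega
      have hy4 : 4 ≤ y := by omega
      refine ⟨2 * (y - 1), ?_, ?_⟩
      · have hBy : B ≤ y - 1 := by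
          have := bigSet_card_le (resHom (W := W) g).range (fixSub W g) 1
          omega
        calc Z * (r * 1) ≤ r * (r * 1 + 1) * B * (r * 1) := Nat.mul_le_mul_right _ hF
          _ ≤ r * (2 * r) * (y - 1) * (r * 1) :=
              Nat.mul_le_mul_right _ (Nat.mul_le_mul (Nat.mul_le_mul_left _ (by omega)) hBy)
          _ = _ := by rw [hE]; ring
      · calc (2 * (y - 1) + 1) ^ 2 ≤ (2 * y) ^ 2 := Nat.pow_le_pow_left (by omega) 2
          _ ≤ y ^ 3 := by nlinarith
          _ ≤ _ := hW

/-- A group of symplectic type has few orbits on the points with largest stabilizer. -/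
theorem Sym.exists_bound [Finite E] [Finite W] (h : Sym r E W z) (hex : ∃ g, Good r z g) :
    ∃ t O : ℕ, (∃ w : W, w ≠ 1 ∧ Nat.card (stabilizer E w) = t) ∧
      Nat.card (bigSet E W t) * t ≤ Nat.card E * O ∧ (O + 1) ^ 2 ≤ Nat.card W := by
  obtain ⟨g, hg⟩ := hex
  haveI := hg.fix_nontrivial h
  obtain ⟨v, hv⟩ := exists_ne (1 : fixSub W g)
  have h2 : 2 ≤ Nat.card (stabilizer E (v : W)) := by
    rw [hg.card_stabilizer h hv]
    exact le_trans h.hr.two_le (Nat.le_mul_of_pos_right _ Nat.card_pos)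
  have hv' : (v : W) ≠ 1 := fun e => hv (Subtype.ext e)
  by_cases hr2 : r = 2
  · subst hr2
    obtain ⟨t, κ, -, -, -, -, hle, hmx, -, h8⟩ := conclTwo_aux _ E W z rfl h
    obtain ⟨-, O, hO⟩ := h8 (h2.trans (hle _ hv'))
    exact ⟨t, O, hmx, hO⟩
  · obtain ⟨t, -, -, hle, hmx, -, h8⟩ := conclOdd_aux hr2 _ E W z rfl h
    obtain ⟨O, hO⟩ := h8 (h2.trans (hle _ hv'))
    exact ⟨t, O, hmx, hO⟩

end Cfsg.Lib.DerSub
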